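import Groth.Prelude
import Groth.Agent.Hensel20.SmoothLift
import Groth.Agent.EtAlg23.HenselBasic
import Groth.Agent.CAlg5.AdicFS

/-!
# Approximation over henselian pairs from Popescu's theorem
-/

set_option autoImplicit false
universe u

namespace Groth.Agent.CAlg1.Pop

theorem approximation_of_indSmooth (A : Type u) [CommRing A] [IsNoetherianRing A] (I : Ideal A)
    [HenselianRing A I] (hPT : Smoothing.IndSmooth A (AdicCompletion I A)) {n m : ℕ}
    (F : Fin m → MvPolynomial (Fin n) A) (a : Fin n → AdicCompletion I A)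
    (ha : ∀ j, MvPolynomial.eval a (MvPolynomial.map (algebraMap A (AdicCompletion I A)) (F j)) = 0)
    (N : ℕ) :
    ∃ b : Fin n → A, (∀ j, MvPolynomial.eval b (F j) = 0) ∧
      ∀ i, a i - algebraMap A (AdicCompletion I A) (b i) ∈
        (I ^ N).map (algebraMap A (AdicCompletion I A)) := by
  have ha' : ∀ j, MvPolynomial.aeval a (F j) = 0 := fun j => by
    rw [MvPolynomial.aeval_def, ← MvPolynomial.eval_map]; exact ha j
  let J : Ideal (MvPolynomial (Fin n) A) := Ideal.span (Set.range F)
  have hJ : J.FG := Submodule.fg_span (Set.finite_range F)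
  haveI : Algebra.FinitePresentation A (MvPolynomial (Fin n) A ⧸ J) :=
    Algebra.FinitePresentation.quotient hJ
  let φ : (MvPolynomial (Fin n) A ⧸ J) →ₐ[A] AdicCompletion I A :=
    Ideal.Quotient.liftₐ J (MvPolynomial.aeval a) fun x hx =>
      (Ideal.span_le (I := RingHom.ker (MvPolynomial.aeval (R := A) a))).2 (by
        rintro _ ⟨j, rfl⟩; exact (RingHom.mem_ker).2 (ha' j)) hx
  obtain ⟨B, _, _, hB, g, h, hhg⟩ := hPT _ inferInstance φ
  haveI : HenselianRing A (I ^ (N + 1)) :=
    EtAlg23.henselianRing_of_le (I := I) inferInstance (Ideal.pow_le_self (Nat.succ_ne_zero N))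
  obtain ⟨τ, hτ⟩ := Hensel20.exists_algHom_lift_of_smooth B (I ^ (N + 1))
    ((AdicCompletion.evalₐ I (N + 1)).comp h)
  let σ : MvPolynomial (Fin n) A →ₐ[A] B := g.comp (Ideal.Quotient.mkₐ A J)
  have hσ : ∀ p, τ (σ p) = MvPolynomial.eval (fun i => τ (σ (MvPolynomial.X i))) p := by
    intro p
    have h1 : τ.comp σ = MvPolynomial.aeval (fun i => τ (σ (MvPolynomial.X i))) :=
      MvPolynomial.algHom_ext fun i => by simp
    have h2 := DFunLike.congr_fun h1 p
    rw [AlgHom.comp_apply] at h2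
    rw [h2, MvPolynomial.aeval_eq_eval]
  refine ⟨fun i => τ (σ (MvPolynomial.X i)), fun j => ?_, fun i => ?_⟩
  · rw [← hσ]
    have : Ideal.Quotient.mkₐ A J (F j) = 0 :=
      Ideal.Quotient.eq_zero_iff_mem.2 (Ideal.subset_span ⟨j, rfl⟩)
    rw [show σ (F j) = g (Ideal.Quotient.mkₐ A J (F j)) from rfl, this, map_zero, map_zero]
  · have hx : h (σ (MvPolynomial.X i)) = a i := by
      show (h.comp g) (Ideal.Quotient.mkₐ A J (MvPolynomial.X i)) = a i
      rw [hhg]
      show MvPolynomial.aeval a (MvPolynomial.X i) = a i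
      simp
    have h1 : AdicCompletion.evalₐ I (N + 1)
        (a i - algebraMap A (AdicCompletion I A) (τ (σ (MvPolynomial.X i)))) = 0 := by
      rw [map_sub, AlgHom.commutes, sub_eq_zero, ← hx, Ideal.Quotient.algebraMap_eq]
      exact (DFunLike.congr_fun hτ (σ (MvPolynomial.X i))).symm
    rw [CAlg5.evalₐ_eq_zero_iff I (IsNoetherian.noetherian I), ← Ideal.map_pow] at h1
    exact Ideal.map_mono (Ideal.pow_le_pow_right (Nat.le_succ N)) h1

end Groth.Agent.CAlg1.Pop
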