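import Groth.Agent.CAlg1.Pop.Field
import Groth.Agent.CAlg1.Pop.Artin
import Groth.Agent.CAlg1.EtaleShrink
import Groth.Agent.CAlg1.Andre.GRingCompletion
import Groth.Agent.CAlg4.RegHomLoc

/-!
Étale neighbourhoods carrying approximate solutions.
-/

set_option autoImplicit false
universe u

open IsLocalRing

namespace Groth.Agent.CAlg1.Pop

/-- A point of a smooth algebra modulo `I` spreads to an étale neighbourhood mapping to a henselian
completion. -/
theorem exists_etale_point {R B Λ : Type u} [CommRing R] [CommRing B] [Algebra R B] [Algebra.Smooth R B]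
    [CommRing Λ] [Algebra R Λ] (I : Ideal R) (IΛ : Ideal Λ) [HenselianRing Λ IΛ]
    (hI : I.map (algebraMap R Λ) ≤ IΛ) (σ : B →ₐ[R] R ⧸ I) (h : B →ₐ[R] Λ)
    (hσ : ∀ b r, Ideal.Quotient.mk I r = σ b → h b - algebraMap R Λ r ∈ IΛ) :
    ∃ (A' : Type u) (_ : CommRing A') (_ : Algebra R A'), Algebra.Etale R A' ∧
      ∃ (ψ : A' →ₐ[R] Λ) (τ : B →ₐ[R] A'), (∀ b, h b - ψ (τ b) ∈ IΛ) ∧
        ∀ x, ∃ r, ψ x - algebraMap R Λ r ∈ IΛ := by
  obtain ⟨A', _, _, hA', hbij, τ, hτ⟩ := exists_etale_lift_section I σ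
  haveI := hA'
  let J := I.map (algebraMap R A')
  let e : (R ⧸ I) ≃ₐ[R] A' ⧸ J :=
    AlgEquiv.ofBijective (IsScalarTower.toAlgHom R (R ⧸ I) (A' ⧸ J)) hbij
  let π : A' →ₐ[R] R ⧸ I := e.symm.toAlgHom.comp (Ideal.Quotient.mkₐ R J)
  let θ : (R ⧸ I) →ₐ[R] Λ ⧸ IΛ :=
    Ideal.Quotient.liftₐ I (Algebra.ofId R (Λ ⧸ IΛ)) fun r hr =>
      Ideal.Quotient.eq_zero_iff_mem.2 (hI (Ideal.mem_map_of_mem _ hr))
  obtain ⟨ψ, hψ⟩ := Hensel20.exists_algHom_lift_of_smooth A' IΛ (θ.comp π)
  have hψx : ∀ x r, Ideal.Quotient.mk I r = π x → ψ x - algebraMap R Λ r ∈ IΛ := fun x r hr => by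
    rw [← Ideal.Quotient.eq]
    refine (DFunLike.congr_fun hψ x).trans ?_
    show θ (π x) = _
    rw [← hr]
    rfl
  refine ⟨A', inferInstance, inferInstance, hA', ψ, τ, fun b => ?_, fun x => ?_⟩
  · obtain ⟨r, hr⟩ := Ideal.Quotient.mk_surjective (σ b)
    have hπ : π (τ b) = σ b := by
      show e.symm (Ideal.Quotient.mk J (τ b)) = σ b
      rw [hτ]
      exact e.symm_apply_apply (σ b)
    have h1 := Submodule.sub_mem _ (hσ b r hr) (hψx (τ b) r (hr.trans hπ.symm))
    rwa [sub_sub_sub_cancel_right] at h1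
  · obtain ⟨r, hr⟩ := Ideal.Quotient.mk_surjective (π x)
    exact ⟨r, hψx x r hr⟩

theorem henselianRing_completion {R : Type u} [CommRing R] [IsNoetherianRing R] (I : Ideal R) (N : ℕ) :
    HenselianRing (AdicCompletion I R) ((I ^ (N + 1)).map (algebraMap R (AdicCompletion I R))) := by
  haveI : IsAdicComplete (I.map (algebraMap R (AdicCompletion I R))) (AdicCompletion I R) :=
    (IsAdicComplete.map_algebraMap_iff _ _).mpr (AdicCompletion.isAdicComplete (IsNoetherian.noetherian I))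
  rw [Ideal.map_pow]
  exact EtAlg23.henselianRing_of_le (I := I.map (algebraMap R (AdicCompletion I R))) inferInstance
    (Ideal.pow_le_self (Nat.succ_ne_zero N))

/-- Factor a system of equations with a solution through its quotient algebra. -/
theorem exists_smooth_solution {R Λ : Type u} [CommRing R] [CommRing Λ] [Algebra R Λ]
    (hPT : Smoothing.IndSmooth R Λ) {n m : ℕ} (F : Fin m → MvPolynomial (Fin n) R) (a : Fin n → Λ)
    (ha : ∀ j, MvPolynomial.aeval a (F j) = 0) :
    ∃ (B : Type u) (_ : CommRing B) (_ : Algebra R B), Algebra.Smooth R B ∧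
      ∃ (h : B →ₐ[R] Λ) (b : Fin n → B), (∀ j, MvPolynomial.aeval b (F j) = 0) ∧ ∀ i, h (b i) = a i := by
  let J : Ideal (MvPolynomial (Fin n) R) := Ideal.span (Set.range F)
  haveI : Algebra.FinitePresentation R (MvPolynomial (Fin n) R ⧸ J) :=
    Algebra.FinitePresentation.quotient (Submodule.fg_span (Set.finite_range F))
  let φ : (MvPolynomial (Fin n) R ⧸ J) →ₐ[R] Λ :=
    Ideal.Quotient.liftₐ J (MvPolynomial.aeval a) fun x hx =>
      (Ideal.span_le (I := RingHom.ker (MvPolynomial.aeval (R := R) a))).2 (by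
        rintro _ ⟨j, rfl⟩; exact (RingHom.mem_ker).2 (ha j)) hx
  obtain ⟨B, _, _, hB, g, h, hhg⟩ := hPT _ inferInstance φ
  refine ⟨B, inferInstance, inferInstance, hB, h, fun i => g (Ideal.Quotient.mk J (MvPolynomial.X i)),
    fun j => ?_, fun i => ?_⟩
  · have h1 : MvPolynomial.aeval (fun i => g (Ideal.Quotient.mk J (MvPolynomial.X i))) =
        g.comp (Ideal.Quotient.mkₐ R J) := MvPolynomial.algHom_ext fun i => MvPolynomial.aeval_X (R := R) _ i
    rw [h1]
    show g (Ideal.Quotient.mk J (F j)) = 0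
    rw [Ideal.Quotient.eq_zero_iff_mem.2 (show F j ∈ J from Ideal.subset_span ⟨j, rfl⟩), map_zero]
  · refine (DFunLike.congr_fun hhg (Ideal.Quotient.mk J (MvPolynomial.X i))).trans ?_
    exact MvPolynomial.aeval_X (R := R) a i

theorem exists_etale_solution_local {R : Type u} [CommRing R] [IsLocalRing R] (hG : CAlg.IsGRing R)
    {n m : ℕ} (F : Fin m → MvPolynomial (Fin n) R)
    (a : Fin n → AdicCompletion (maximalIdeal R) R) (ha : ∀ j, MvPolynomial.aeval a (F j) = 0) (N : ℕ) :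
    ∃ (R' : Type u) (_ : CommRing R') (_ : Algebra R R'), Algebra.Etale R R' ∧
      ∃ (ψ : R' →ₐ[R] AdicCompletion (maximalIdeal R) R) (m' : Ideal R'), m'.IsMaximal ∧
        m'.comap (algebraMap R R') = maximalIdeal R ∧
        (∀ x : R', ∃ r : R, x - algebraMap R R' r ∈ m') ∧
        (∀ x ∈ m', ψ x ∈ (maximalIdeal R).map
          (algebraMap R (AdicCompletion (maximalIdeal R) R))) ∧
        ∃ b : Fin n → R', (∀ j, MvPolynomial.aeval b (F j) = 0) ∧
          ∀ i, a i - ψ (b i) ∈ (maximalIdeal R ^ N).map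
            (algebraMap R (AdicCompletion (maximalIdeal R) R)) := by
  haveI := hG.1
  let m₀ := maximalIdeal R
  have hfg : m₀.FG := IsNoetherian.noetherian m₀
  let Λ := AdicCompletion m₀ R
  haveI : IsNoetherianRing Λ := CAlg1.isNoetherianRing_adicCompletion m₀ hfg
  obtain ⟨B, _, _, hB, h, b, hb, hha⟩ :=
    exists_smooth_solution (popescu R Λ (CAlg1.Andre.isRegularHom_adicCompletion R hG m₀)) F a ha
  haveI := hB
  let IΛ : Ideal Λ := (m₀ ^ (N + 1)).map (algebraMap R Λ)
  haveI : HenselianRing Λ IΛ := henselianRing_completion m₀ N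
  obtain ⟨A', _, _, hA', ψ, τ, hτ, hres⟩ := exists_etale_point (m₀ ^ (N + 1)) IΛ le_rfl
    ((AdicCompletion.evalₐ m₀ (N + 1)).comp h) h fun y r hr => by
      show h y - algebraMap R Λ r ∈ (m₀ ^ (N + 1)).map (algebraMap R Λ)
      rw [Ideal.map_pow, ← CAlg5.evalₐ_eq_zero_iff m₀ hfg, map_sub, AlgHom.commutes,
        Ideal.Quotient.algebraMap_eq, hr]
      exact sub_self _
  let mΛ : Ideal Λ := m₀.map (algebraMap R Λ)
  have hIm : IΛ ≤ mΛ := Ideal.map_mono (Ideal.pow_le_self (Nat.succ_ne_zero N))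
  let m' : Ideal A' := mΛ.comap ψ
  have hcomap : m'.comap (algebraMap R A') = m₀ := by
    ext r
    show ψ (algebraMap R A' r) ∈ mΛ ↔ r ∈ m₀
    rw [AlgHom.commutes]
    refine ⟨fun hr => ?_, fun hr => Ideal.mem_map_of_mem _ hr⟩
    have := CAlg5.mem_pow_of_algebraMap_mem m₀ hfg 1 r (by rwa [pow_one])
    rwa [pow_one] at this
  have hres' : ∀ x : A', ∃ r : R, x - algebraMap R A' r ∈ m' := fun x => by
    obtain ⟨r, hr⟩ := hres x
    exact ⟨r, show ψ (x - algebraMap R A' r) ∈ mΛ by rw [map_sub, AlgHom.commutes]; exact hIm hr⟩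
  have hmax : m'.IsMaximal := by
    refine Ideal.isMaximal_iff.2 ⟨fun h1 => ?_, fun J x hle hx hxJ => ?_⟩
    · have h2 : (1 : R) ∈ m'.comap (algebraMap R A') := by rw [Ideal.mem_comap, map_one]; exact h1
      rw [hcomap] at h2
      exact (Ideal.ne_top_iff_one _).1 (maximalIdeal.isMaximal R).ne_top h2
    · obtain ⟨r, hr⟩ := hres' x
      have hrm : r ∉ m₀ := fun hrm => by
        rw [← hcomap, Ideal.mem_comap] at hrm
        exact hx (by simpa using add_mem hr hrm)
      obtain ⟨v, hv⟩ := (IsLocalRing.notMem_maximalIdeal.1 hrm).exists_right_inv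
      have h3 : algebraMap R A' r ∈ J := by
        have := J.sub_mem hxJ (hle hr)
        rwa [sub_sub_cancel] at this
      have h4 := J.mul_mem_right (algebraMap R A' v) h3
      rwa [← map_mul, hv, map_one] at h4
  refine ⟨A', inferInstance, inferInstance, hA', ψ, m', hmax, hcomap, hres', fun x hx => hx,
    fun i => τ (b i), fun j => ?_, fun i => ?_⟩
  · rw [← MvPolynomial.comp_aeval b τ, AlgHom.comp_apply, hb, map_zero]
  · rw [← hha i]
    exact Ideal.map_mono (Ideal.pow_le_pow_right (Nat.le_succ N)) (hτ (b i))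

theorem exists_etale_solution_atPrime {R : Type u} [CommRing R] [IsNoetherianRing R] (p : Ideal R) [p.IsPrime]
    (hG : CAlg.IsGRing (Localization.AtPrime p)) {n m : ℕ} (F : Fin m → MvPolynomial (Fin n) R)
    (a : Fin n → AdicCompletion (maximalIdeal (Localization.AtPrime p)) (Localization.AtPrime p))
    (ha : ∀ j, MvPolynomial.aeval a (MvPolynomial.map (algebraMap R (Localization.AtPrime p)) (F j)) = 0)
    (N : ℕ) :
    ∃ (R' : Type u) (_ : CommRing R') (_ : Algebra R R'), Algebra.Etale R R' ∧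
      ∃ (ψ : R' →+* AdicCompletion (maximalIdeal (Localization.AtPrime p)) (Localization.AtPrime p))
        (p' : Ideal R'), p'.IsPrime ∧
        (∀ r : R, ψ (algebraMap R R' r) =
          algebraMap (Localization.AtPrime p) _ (algebraMap R (Localization.AtPrime p) r)) ∧
        p'.comap (algebraMap R R') = p ∧
        (∀ x : R', ∃ r s : R, s ∉ p ∧ algebraMap R R' s * x - algebraMap R R' r ∈ p') ∧
        (∀ x ∈ p', ψ x ∈ (maximalIdeal (Localization.AtPrime p)).map
          (algebraMap (Localization.AtPrime p)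
            (AdicCompletion (maximalIdeal (Localization.AtPrime p)) (Localization.AtPrime p)))) ∧
        ∃ b : Fin n → R', (∀ j, MvPolynomial.aeval b (F j) = 0) ∧
          ∀ i, a i - ψ (b i) ∈ (maximalIdeal (Localization.AtPrime p) ^ N).map
            (algebraMap (Localization.AtPrime p)
              (AdicCompletion (maximalIdeal (Localization.AtPrime p)) (Localization.AtPrime p))) := by
  classical
  let Rp := Localization.AtPrime p
  let m₀ := maximalIdeal Rp
  have hfg : m₀.FG := IsNoetherian.noetherian m₀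
  let Λ := AdicCompletion m₀ Rp
  haveI : IsNoetherianRing Λ := CAlg1.isNoetherianRing_adicCompletion m₀ hfg
  haveI : IsScalarTower R Rp Λ := inferInstance
  have hreg : CAlg.IsRegularHom R Λ := CAlg5.isRegularHom_comp R Rp Λ
    (CAlg4.RegHomLoc.isRegularHom_of_isLocalization R Rp p.primeCompl)
    (CAlg1.Andre.isRegularHom_adicCompletion Rp hG m₀) fun P _ => CAlg4.RegHomLoc.isNoetherianRing_fiber P
  obtain ⟨B, _, _, hB, h, b, hb, hha⟩ := exists_smooth_solution (popescu R Λ hreg) F a fun j => by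
    rw [← ha j, MvPolynomial.aeval_map_algebraMap]
  haveI := hB
  -- a denominator for the images of the generators
  let ev : B →ₐ[R] Rp ⧸ m₀ ^ (N + 1) := ((AdicCompletion.evalₐ m₀ (N + 1)).restrictScalars R).comp h
  obtain ⟨G, hGgen⟩ := (inferInstance : Algebra.FiniteType R B).out
  choose z hz using fun y : G => Ideal.Quotient.mk_surjective (ev y.1)
  obtain ⟨g, hg⟩ := IsLocalization.exist_integer_multiples_of_finite p.primeCompl z
  let Rg := Localization.Away (g : R)
  have hgu : IsUnit (algebraMap R Rp g) := IsLocalization.map_units Rp g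
  letI : Algebra Rg Rp := (IsLocalization.Away.lift (g : R) hgu).toAlgebra
  haveI : IsScalarTower R Rg Rp :=
    IsScalarTower.of_algebraMap_eq fun y => (IsLocalization.Away.lift_eq (g : R) hgu y).symm
  haveI : IsScalarTower Rg Rp Λ := inferInstance
  haveI : IsScalarTower R Rg Λ := IsScalarTower.of_algebraMap_eq fun y => by
    rw [IsScalarTower.algebraMap_apply R Rp Λ, IsScalarTower.algebraMap_apply R Rg Rp,
      ← IsScalarTower.algebraMap_apply Rg Rp Λ]
  let I : Ideal Rg := (m₀ ^ (N + 1)).comap (algebraMap Rg Rp)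
  let χ : (Rg ⧸ I) →ₐ[Rg] Rp ⧸ m₀ ^ (N + 1) :=
    Ideal.Quotient.liftₐ I (Algebra.ofId Rg _) fun y hy =>
      (Ideal.Quotient.eq_zero_iff_mem.2 hy : Ideal.Quotient.mk (m₀ ^ (N + 1)) (algebraMap Rg Rp y) = 0)
  have hχ : ∀ y, χ (Ideal.Quotient.mk I y) = Ideal.Quotient.mk _ (algebraMap Rg Rp y) := fun _ => rfl
  have hχinj : Function.Injective χ := by
    refine (injective_iff_map_eq_zero _).2 fun y hy => ?_
    obtain ⟨y, rfl⟩ := Ideal.Quotient.mk_surjective y
    rw [hχ, Ideal.Quotient.eq_zero_iff_mem] at hy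
    exact Ideal.Quotient.eq_zero_iff_mem.2 hy
  let χR : (Rg ⧸ I) →ₐ[R] Rp ⧸ m₀ ^ (N + 1) := χ.restrictScalars R
  have hrange : ∀ y, ev y ∈ χR.range := by
    intro y
    have hy : y ∈ Algebra.adjoin R (G : Set B) := hGgen ▸ Algebra.mem_top
    have h1 : Algebra.adjoin R (G : Set B) ≤ χR.range.comap ev := Algebra.adjoin_le fun w hw => by
      obtain ⟨c, hc⟩ := hg ⟨w, hw⟩
      refine ⟨Ideal.Quotient.mk I (algebraMap R Rg c * IsLocalization.Away.invSelf (g : R)), ?_⟩
      show χ (Ideal.Quotient.mk I (algebraMap R Rg c * IsLocalization.Away.invSelf (g : R))) = ev w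
      rw [hχ, ← hz ⟨w, hw⟩]
      refine congrArg _ (hgu.mul_left_injective ?_)
      show algebraMap Rg Rp (algebraMap R Rg c * IsLocalization.Away.invSelf (g : R)) * algebraMap R Rp g =
        z ⟨w, hw⟩ * algebraMap R Rp g
      rw [IsScalarTower.algebraMap_apply R Rg Rp g, ← map_mul, mul_assoc, mul_comm _ (algebraMap R Rg g),
        IsLocalization.Away.mul_invSelf, mul_one, ← IsScalarTower.algebraMap_apply, hc,
        Algebra.smul_def, ← IsScalarTower.algebraMap_apply, mul_comm]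
    exact h1 hy
  let σ₀ : B →ₐ[R] Rg ⧸ I :=
    (AlgEquiv.ofInjective χR hχinj).symm.toAlgHom.comp (ev.codRestrict χR.range hrange)
  have hσ₀ : ∀ y, χ (σ₀ y) = ev y := fun y =>
    congrArg Subtype.val ((AlgEquiv.ofInjective χR hχinj).apply_symm_apply ⟨ev y, hrange y⟩)
  let Bg := TensorProduct R Rg B
  let hg' : Bg →ₐ[Rg] Λ := Algebra.TensorProduct.lift (Algebra.ofId Rg Λ) h (fun _ _ => Commute.all _ _)
  let σ : Bg →ₐ[Rg] Rg ⧸ I :=
    Algebra.TensorProduct.lift (Algebra.ofId Rg (Rg ⧸ I)) σ₀ (fun _ _ => Commute.all _ _)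
  let IΛ : Ideal Λ := (m₀ ^ (N + 1)).map (algebraMap Rp Λ)
  haveI : HenselianRing Λ IΛ := henselianRing_completion m₀ N
  let evΛ : Λ →ₐ[Rg] Rp ⧸ m₀ ^ (N + 1) := (AdicCompletion.evalₐ m₀ (N + 1)).restrictScalars Rg
  have hσev : χ.comp σ = evΛ.comp hg' := by
    refine Algebra.TensorProduct.ext (AlgHom.ext fun y => ?_) (AlgHom.ext fun y => ?_)
    · exact ((χ.comp σ).comp Algebra.TensorProduct.includeLeft).commutes y |>.trans
        (((evΛ.comp hg').comp Algebra.TensorProduct.includeLeft).commutes y).symm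
    · show χ (σ ((1 : Rg) ⊗ₜ y)) = evΛ (hg' ((1 : Rg) ⊗ₜ y))
      rw [Algebra.TensorProduct.lift_tmul, Algebra.TensorProduct.lift_tmul, map_one, map_one, one_mul,
        one_mul, hσ₀]
      rfl
  obtain ⟨A', _, _, hA', ψ, τ, hτ, hres⟩ := exists_etale_point I IΛ (by
      rw [IsScalarTower.algebraMap_eq Rg Rp Λ, ← Ideal.map_map]
      exact Ideal.map_mono Ideal.map_comap_le) σ hg' fun y r hr => by
    show hg' y - algebraMap Rg Λ r ∈ (m₀ ^ (N + 1)).map (algebraMap Rp Λ)
    have h1 : evΛ (hg' y) = χ (σ y) := (DFunLike.congr_fun hσev y).symm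
    rw [← hr, ← Ideal.Quotient.algebraMap_eq, AlgHom.commutes] at h1
    rw [Ideal.map_pow, ← CAlg5.evalₐ_eq_zero_iff m₀ hfg]
    show evΛ (hg' y - algebraMap Rg Λ r) = 0
    rw [map_sub, AlgHom.commutes, h1, sub_self]
  haveI := hA'
  letI : Algebra R A' := ((algebraMap Rg A').comp (algebraMap R Rg)).toAlgebra
  haveI : IsScalarTower R Rg A' := IsScalarTower.of_algebraMap_eq fun _ => rfl
  haveI : Algebra.Etale R Rg := Algebra.Etale.of_isLocalizationAway (g : R)
  let mΛ : Ideal Λ := m₀.map (algebraMap Rp Λ)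
  have hIm : IΛ ≤ mΛ := Ideal.map_mono (Ideal.pow_le_self (Nat.succ_ne_zero N))
  let p' : Ideal A' := mΛ.comap ψ
  haveI : IsLocalRing Λ := inferInstance
  have hmΛ : mΛ.IsPrime := by
    refine (?_ : mΛ = maximalIdeal Λ) ▸ (maximalIdeal.isMaximal Λ).isPrime
    exact AdicCompletion.maximalIdeal_eq_map.symm
  have hψR : ∀ r : R, ψ (algebraMap R A' r) = algebraMap Rp Λ (algebraMap R Rp r) := fun r => by
    rw [IsScalarTower.algebraMap_apply R Rg A', AlgHom.commutes, ← IsScalarTower.algebraMap_apply,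
      IsScalarTower.algebraMap_apply R Rp Λ]
  have hcomap : p'.comap (algebraMap R A') = p := by
    ext r
    show ψ (algebraMap R A' r) ∈ mΛ ↔ r ∈ p
    rw [hψR, ← IsLocalization.AtPrime.to_map_mem_maximal_iff Rp p]
    refine ⟨fun hr => ?_, fun hr => Ideal.mem_map_of_mem _ hr⟩
    have := CAlg5.mem_pow_of_algebraMap_mem m₀ hfg 1 (algebraMap R Rp r) (by rwa [pow_one])
    rwa [pow_one] at this
  refine ⟨A', inferInstance, inferInstance, Algebra.Etale.comp R Rg A', ψ.toRingHom, p',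
    Ideal.comap_isPrime ψ mΛ, hψR, hcomap, fun x => ?_, fun x hx => hx,
    fun i => τ ((1 : Rg) ⊗ₜ b i), fun j => ?_, fun i => ?_⟩
  · obtain ⟨y, hy⟩ := hres x
    obtain ⟨k, c, hc⟩ := IsLocalization.Away.surj (g : R) y |>.imp fun k hk => hk
    refine ⟨c, (g : R) ^ k, p.primeCompl.pow_mem g.2 k, ?_⟩
    show ψ (algebraMap R A' ((g : R) ^ k) * x - algebraMap R A' c) ∈ mΛ
    rw [IsScalarTower.algebraMap_apply R Rg A', IsScalarTower.algebraMap_apply R Rg A', map_pow, ← hc,
      map_sub, map_mul, map_pow, map_mul, map_mul, AlgHom.commutes, AlgHom.commutes]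
    simp only [map_pow, AlgHom.commutes]
    rw [show ∀ u v w : Λ, u * v - w * u = u * (v - w) from fun _ _ _ => by ring]
    exact Ideal.mul_mem_left _ _ (hIm hy)
  · let τR : B →ₐ[R] A' := (τ.restrictScalars R).comp Algebra.TensorProduct.includeRight
    rw [show (fun i => τ ((1 : Rg) ⊗ₜ b i)) = fun i => τR (b i) from rfl, ← MvPolynomial.comp_aeval b τR,
      AlgHom.comp_apply, hb, map_zero]
  · rw [← hha i]
    have h1 := hτ ((1 : Rg) ⊗ₜ b i)
    rw [Algebra.TensorProduct.lift_tmul, map_one, one_mul] at h1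
    exact Ideal.map_mono (Ideal.pow_le_pow_right (Nat.le_succ N)) h1

end Groth.Agent.CAlg1.Pop
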