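import Mathlib
import Groth.Prelude.Def_AssocGr
import Groth.Agent.CAlg1.Pop.EtaleSol

/-!
Auxiliary facts for Artin algebraization.
-/

set_option autoImplicit false
universe u

open IsLocalRing

namespace Groth.Agent.CAlg1.Pop

theorem exists_artinRees_const {A L M : Type u} [CommRing A] [IsNoetherianRing A] (I : Ideal A)
    [AddCommGroup L] [Module A L] [AddCommGroup M] [Module A M] [Module.Finite A M] (f : L →ₗ[A] M) :
    ∃ c₀ : ℕ, ∀ c, c₀ ≤ c → ∀ n, c ≤ n →
      LinearMap.range f ⊓ (I ^ n • (⊤ : Submodule A M)) ≤ Submodule.map f (I ^ (n - c) • (⊤ : Submodule A L)) := by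
  obtain ⟨k, hk⟩ := Ideal.exists_pow_inf_eq_pow_smul I (LinearMap.range f)
  refine ⟨k, fun c hc n hn => ?_⟩
  rw [inf_comm, hk n (hc.trans hn)]
  rw [Submodule.map_smul'', Submodule.map_top]
  exact Submodule.smul_mono (Ideal.pow_le_pow_right (Nat.sub_le_sub_left hc n)) inf_le_right

/-- The class of an element of `I ^ n` vanishes in degree `n` of the image filtration. -/
theorem mem_map_pow_succ_iff {A C : Type u} [CommRing A] [CommRing C] (f : A →+* C)
    (hf : Function.Surjective f) (I : Ideal A) (n : ℕ) {x : A} (hx : x ∈ I ^ n) :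
    f x ∈ (I.map f) ^ (n + 1) ↔ x ∈ I ^ (n + 1) ⊔ (RingHom.ker f ⊓ I ^ n) := by
  rw [← Ideal.map_pow, Ideal.mem_map_iff_of_surjective f hf]
  constructor
  · rintro ⟨w, hw, hwx⟩
    rw [← add_sub_cancel w x]
    refine Submodule.add_mem _ (Submodule.mem_sup_left hw) (Submodule.mem_sup_right ⟨?_, ?_⟩)
    · show f (x - w) = 0
      rw [map_sub, hwx, sub_self]
    · exact sub_mem hx (Ideal.pow_le_pow_right n.le_succ hw)
  · intro h
    obtain ⟨w, hw, j, hj, rfl⟩ := Submodule.mem_sup.1 h
    exact ⟨w, hw, by rw [map_add, show f j = 0 from hj.1, add_zero]⟩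

theorem isLocalRing_quotient_pow {A : Type u} [CommRing A] (m : Ideal A) [m.IsMaximal] (n : ℕ) :
    IsLocalRing (A ⧸ m ^ (n + 1)) := by
  haveI : Nontrivial (A ⧸ m ^ (n + 1)) :=
    Ideal.Quotient.nontrivial_iff.2 fun h =>
      Ideal.IsMaximal.ne_top ‹_› (top_le_iff.1 (h.ge.trans (Ideal.pow_le_self (Nat.succ_ne_zero n))))
  refine IsLocalRing.of_unique_max_ideal ⟨m.map (Ideal.Quotient.mk _), ?_, fun P hP => ?_⟩
  · exact Ideal.IsMaximal.map_of_surjective_of_ker_le Ideal.Quotient.mk_surjective
      (by rw [Ideal.mk_ker]; exact Ideal.pow_le_self (Nat.succ_ne_zero n))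
  · haveI := hP
    have h1 : m ^ (n + 1) ≤ P.comap (Ideal.Quotient.mk (m ^ (n + 1))) := fun x hx => by
      rw [Ideal.mem_comap, Ideal.Quotient.eq_zero_iff_mem.2 hx]; exact P.zero_mem
    haveI := Ideal.comap_isMaximal_of_surjective (Ideal.Quotient.mk (m ^ (n + 1)))
      Ideal.Quotient.mk_surjective (K := P)
    have h2 : m ≤ P.comap (Ideal.Quotient.mk (m ^ (n + 1))) :=
      (Ideal.IsPrime.pow_le_iff (Nat.succ_ne_zero n)).1 h1
    calc P = (P.comap (Ideal.Quotient.mk (m ^ (n + 1)))).map (Ideal.Quotient.mk (m ^ (n + 1))) :=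
          (Ideal.map_comap_of_surjective _ Ideal.Quotient.mk_surjective P).symm
      _ = m.map (Ideal.Quotient.mk (m ^ (n + 1))) := congrArg _
          (‹m.IsMaximal›.eq_of_le (Ideal.IsMaximal.ne_top inferInstance) h2).symm

instance isNoetherianRing_grRing {A : Type u} [CommRing A] [IsNoetherianRing A] (I : Ideal A) :
    IsNoetherianRing (AssocGr.GrRing (FiltBl.IdealFiltration.adic I)) :=
  haveI : IsNoetherianRing (FiltBl.IdealFiltration.adic I).rees :=
    isNoetherianRing_of_ringEquiv (reesAlgebra I)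
      (Subalgebra.equivOfEq _ _ (Rees.adic_rees_eq I).symm).toRingEquiv
  isNoetherianRing_of_surjective _ _ (AssocGr.mkG (FiltBl.IdealFiltration.adic I)).toRingHom
    (AssocGr.mkG_surjective _)

theorem injective_of_surjective_ringEnd {A : Type u} [CommRing A] [IsNoetherianRing A] (f : A →+* A)
    (hf : Function.Surjective f) : Function.Injective f := by
  obtain ⟨n, hn⟩ := monotone_stabilizes_iff_noetherian.2 (‹IsNoetherianRing A› : IsNoetherian A A)
    ⟨fun n => RingHom.ker (f ^ n), monotone_nat_of_le_succ fun n x hx => by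
      show (f ^ (n + 1)) x = 0
      rw [pow_succ']
      show f ((f ^ n) x) = 0
      rw [show (f ^ n) x = 0 from hx, map_zero]⟩
  refine (injective_iff_map_eq_zero f).2 fun x hx => ?_
  have hs : ∀ j, Function.Surjective (f ^ j : A →+* A) := fun j => by
    induction j with
    | zero => exact fun y => ⟨y, rfl⟩
    | succ j ih => rw [pow_succ']; exact hf.comp ih
  obtain ⟨z, rfl⟩ := hs n x
  have h1 : z ∈ RingHom.ker (f ^ (n + 1)) := by
    show (f ^ (n + 1)) z = 0
    rw [pow_succ']; exact hx
  exact (SetLike.ext_iff.1 (hn (n + 1) n.le_succ) z).2 h1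

open MvPolynomial in
/-- `exists_etale_solution_atPrime` for systems indexed by finite types. -/
theorem exists_etale_solution_fintype {R : Type u} [CommRing R] [IsNoetherianRing R] (p : Ideal R) [p.IsPrime]
    (hG : CAlg.IsGRing (Localization.AtPrime p)) {V E : Type*} [Fintype V] [Fintype E]
    (F : E → MvPolynomial V R)
    (a : V → AdicCompletion (maximalIdeal (Localization.AtPrime p)) (Localization.AtPrime p))
    (ha : ∀ j, aeval a (F j) = 0) (N : ℕ) :
    ∃ (R' : Type u) (_ : CommRing R') (_ : Algebra R R'), Algebra.Etale R R' ∧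
      ∃ (ψ : R' →ₐ[R] AdicCompletion (maximalIdeal (Localization.AtPrime p)) (Localization.AtPrime p))
        (p' : Ideal R'), p'.IsPrime ∧
        p'.comap (algebraMap R R') = p ∧
        (∀ x : R', ∃ r s : R, s ∉ p ∧ algebraMap R R' s * x - algebraMap R R' r ∈ p') ∧
        (∀ x ∈ p', ψ x ∈ (maximalIdeal (Localization.AtPrime p)).map
          (algebraMap (Localization.AtPrime p)
            (AdicCompletion (maximalIdeal (Localization.AtPrime p)) (Localization.AtPrime p)))) ∧
        ∃ b : V → R', (∀ j, aeval b (F j) = 0) ∧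
          ∀ i, a i - ψ (b i) ∈ (maximalIdeal (Localization.AtPrime p) ^ N).map
            (algebraMap (Localization.AtPrime p)
              (AdicCompletion (maximalIdeal (Localization.AtPrime p)) (Localization.AtPrime p))) := by
  let eV := Fintype.equivFin V
  let eE := Fintype.equivFin E
  obtain ⟨R', _, _, hE, ψ, p', hp, hψ, hc, hr, hm, b, hb, hab⟩ :=
    exists_etale_solution_atPrime p hG (fun j => rename eV (F (eE.symm j))) (fun i => a (eV.symm i))
      (fun j => by
        rw [aeval_map_algebraMap, aeval_rename,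
          show (fun i => a (eV.symm i)) ∘ eV = a from funext fun i => congrArg a (eV.symm_apply_apply i)]
        exact ha _) N
  refine ⟨R', inferInstance, inferInstance, hE,
    { ψ with commutes' := fun r => (hψ r).trans (IsScalarTower.algebraMap_apply R _ _ r).symm },
    p', hp, hc, hr, hm, fun i => b (eV i), fun j => ?_, fun i => ?_⟩
  · have h1 := hb (eE j)
    rw [Equiv.symm_apply_apply, aeval_rename] at h1
    exact h1
  · have h1 := hab (eV i)
    rwa [Equiv.symm_apply_apply] at h1

end Groth.Agent.CAlg1.Pop
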