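import Mathlib
import Groth.Prelude.Def_AssocGr

/-!
Functoriality of the associated graded ring of an adic filtration.
-/

set_option autoImplicit false
universe u

open Polynomial

namespace Groth.Agent.CAlg1.Pop

variable {A B : Type u} [CommRing A] [CommRing B] (I : Ideal A) (J : Ideal B) (f : A →+* B)

local notation "GA" => AssocGr.GrRing (FiltBl.IdealFiltration.adic I)
local notation "GB" => AssocGr.GrRing (FiltBl.IdealFiltration.adic J)

theorem map_mem_pow (h : I.map f ≤ J) (n : ℕ) {x : A} (hx : x ∈ I ^ n) : f x ∈ J ^ n :=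
  Ideal.pow_right_mono h n (Ideal.map_pow f I n ▸ Ideal.mem_map_of_mem f hx)

/-- The map of Rees algebras. -/
noncomputable def reesMap (h : I.map f ≤ J) :
    (FiltBl.IdealFiltration.adic I).rees →+* (FiltBl.IdealFiltration.adic J).rees :=
  RingHom.codRestrict ((Polynomial.mapRingHom f).comp (FiltBl.IdealFiltration.adic I).rees.val.toRingHom)
    (FiltBl.IdealFiltration.adic J).rees fun g n => by
      show (Polynomial.map f (g : A[X])).coeff n ∈ J ^ n
      rw [Polynomial.coeff_map]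
      exact map_mem_pow I J f h n (g.2 n)

theorem coe_reesMap (h : I.map f ≤ J) (g : (FiltBl.IdealFiltration.adic I).rees) :
    ((reesMap I J f h g : (FiltBl.IdealFiltration.adic J).rees) : B[X]) = Polynomial.map f (g : A[X]) := rfl

/-- The map of associated graded rings. -/
noncomputable def grMap (h : I.map f ≤ J) : GA →+* GB :=
  Ideal.Quotient.lift (AssocGr.succIdeal (FiltBl.IdealFiltration.adic I))
    ((AssocGr.mkG (FiltBl.IdealFiltration.adic J)).toRingHom.comp (reesMap I J f h)) fun g hg => by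
      show AssocGr.mkG _ (reesMap I J f h g) = 0
      rw [AssocGr.mkG_eq_zero_iff, AssocGr.mem_succIdeal_iff]
      intro n
      rw [coe_reesMap, Polynomial.coeff_map]
      exact map_mem_pow I J f h (n + 1) (hg n)

theorem grMap_mkG (h : I.map f ≤ J) (g : (FiltBl.IdealFiltration.adic I).rees) :
    grMap I J f h (AssocGr.mkG _ g) = AssocGr.mkG _ (reesMap I J f h g) := rfl

theorem grMap_mkG_eq_zero_iff (h : I.map f ≤ J) (g : (FiltBl.IdealFiltration.adic I).rees) :
    grMap I J f h (AssocGr.mkG _ g) = 0 ↔ ∀ n, f ((g : A[X]).coeff n) ∈ J ^ (n + 1) := by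
  rw [grMap_mkG, AssocGr.mkG_eq_zero_iff, AssocGr.mem_succIdeal_iff]
  simp only [coe_reesMap, Polynomial.coeff_map]
  rfl

theorem grMap_algebraMap (h : I.map f ≤ J) (a : A) :
    grMap I J f h (algebraMap A GA a) = algebraMap B GB (f a) := by
  rw [← (AssocGr.mkG (FiltBl.IdealFiltration.adic I)).commutes, grMap_mkG,
    ← (AssocGr.mkG (FiltBl.IdealFiltration.adic J)).commutes]
  refine congrArg _ (Subtype.ext ?_)
  rw [coe_reesMap, Subalgebra.coe_algebraMap, Subalgebra.coe_algebraMap, Polynomial.algebraMap_eq,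
    Polynomial.algebraMap_eq, Polynomial.map_C]

theorem grMap_mem (h : I.map f ≤ J) (n : ℕ) {x : GA} (hx : x ∈ AssocGr.gr (FiltBl.IdealFiltration.adic I) n) :
    grMap I J f h x ∈ AssocGr.gr (FiltBl.IdealFiltration.adic J) n := by
  obtain ⟨g, hg, rfl⟩ := (AssocGr.mem_gr_iff _ n x).1 hx
  rw [grMap_mkG]
  refine AssocGr.mkG_mem_gr _ ((Rees.mem_deg_iff _ _ _).2 fun m hm => ?_)
  rw [coe_reesMap, Polynomial.coeff_map, (Rees.mem_deg_iff _ _ _).1 hg m hm, map_zero]

theorem exists_preimage_gr (h : I.map f ≤ J)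
    (hs : ∀ n, ∀ y ∈ J ^ n, ∃ x ∈ I ^ n, y - f x ∈ J ^ (n + 1)) (n : ℕ) {y : GB}
    (hy : y ∈ AssocGr.gr (FiltBl.IdealFiltration.adic J) n) :
    ∃ x ∈ AssocGr.gr (FiltBl.IdealFiltration.adic I) n, grMap I J f h x = y := by
  obtain ⟨b, hb⟩ := AssocGr.inDeg_surjective (FiltBl.IdealFiltration.adic J) n ⟨y, hy⟩
  obtain ⟨x, hx, hxb⟩ := hs n b.1 b.2
  refine ⟨AssocGr.inDeg (FiltBl.IdealFiltration.adic I) n ⟨x, hx⟩, Submodule.coe_mem _, ?_⟩
  rw [show y = ((AssocGr.inDeg (FiltBl.IdealFiltration.adic J) n b : _) : GB) from (congrArg Subtype.val hb).symm,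
    AssocGr.coe_inDeg, AssocGr.coe_inDeg, grMap_mkG, ← sub_eq_zero, ← map_sub, AssocGr.mkG_eq_zero_iff,
    AssocGr.mem_succIdeal_iff]
  intro m
  rw [Subalgebra.coe_sub, coe_reesMap, Polynomial.coeff_sub, Polynomial.coeff_map, AssocGr.coe_coe_monom,
    AssocGr.coe_coe_monom, Polynomial.coeff_monomial, Polynomial.coeff_monomial]
  split_ifs with hm
  · subst hm
    show f x - (b : B) ∈ J ^ (n + 1)
    rw [← neg_sub]; exact neg_mem hxb
  · rw [map_zero, sub_zero]; exact Ideal.zero_mem _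

theorem grMap_surjective (h : I.map f ≤ J)
    (hs : ∀ n, ∀ y ∈ J ^ n, ∃ x ∈ I ^ n, y - f x ∈ J ^ (n + 1)) : Function.Surjective (grMap I J f h) := by
  classical
  intro y
  rw [← DirectSum.sum_support_decompose (AssocGr.gr (FiltBl.IdealFiltration.adic J)) y]
  choose g hg hgy using fun n =>
    exists_preimage_gr I J f h hs n (DirectSum.decompose (AssocGr.gr (FiltBl.IdealFiltration.adic J)) y n).2
  exact ⟨∑ n ∈ (DirectSum.decompose (AssocGr.gr (FiltBl.IdealFiltration.adic J)) y).support, g n,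
    (map_sum _ _ _).trans (Finset.sum_congr rfl fun n _ => hgy n)⟩

theorem grMap_bijective (h : I.map f ≤ J) (hmem : ∀ j x, f x ∈ J ^ j → x ∈ I ^ j)
    (hsurj : ∀ j y, ∃ x, y - f x ∈ J ^ j) : Function.Bijective (grMap I J f h) := by
  refine ⟨(injective_iff_map_eq_zero _).2 fun x hx => ?_, grMap_surjective I J f h fun n y hy => ?_⟩
  · obtain ⟨g, rfl⟩ := AssocGr.mkG_surjective _ x
    rw [grMap_mkG_eq_zero_iff] at hx
    rw [AssocGr.mkG_eq_zero_iff, AssocGr.mem_succIdeal_iff]
    exact fun n => hmem _ _ (hx n)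
  · obtain ⟨x, hx⟩ := hsurj (n + 1) y
    refine ⟨x, hmem n x ?_, hx⟩
    have h1 := Ideal.sub_mem _ hy (Ideal.pow_le_pow_right (Nat.le_succ n) hx)
    rwa [sub_sub_cancel] at h1

/-- Two surjections from the same graded ring with the same kernel give a graded isomorphism. -/
theorem exists_grEquiv {C : Type u} [CommRing C] (K : Ideal C) (g : A →+* C) (h : I.map f ≤ J)
    (hg : I.map g ≤ K) (hs : ∀ n, ∀ y ∈ J ^ n, ∃ x ∈ I ^ n, y - f x ∈ J ^ (n + 1))
    (hs' : ∀ n, ∀ y ∈ K ^ n, ∃ x ∈ I ^ n, y - g x ∈ K ^ (n + 1))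
    (hker : ∀ n, ∀ x ∈ I ^ n, f x ∈ J ^ (n + 1) ↔ g x ∈ K ^ (n + 1)) :
    ∃ e : GB ≃+* AssocGr.GrRing (FiltBl.IdealFiltration.adic K),
      (∀ x : GA, e (grMap I J f h x) = grMap I K g hg x) ∧
      ∀ n, ∀ y ∈ AssocGr.gr (FiltBl.IdealFiltration.adic J) n,
        e y ∈ AssocGr.gr (FiltBl.IdealFiltration.adic K) n := by
  let p := grMap I J f h
  let r := grMap I K g hg
  have hp : Function.Surjective p := grMap_surjective I J f h hs
  have hr : Function.Surjective r := grMap_surjective I K g hg hs'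
  have hk : RingHom.ker p = RingHom.ker r := by
    ext x
    obtain ⟨x, rfl⟩ := AssocGr.mkG_surjective _ x
    show grMap I J f h _ = 0 ↔ grMap I K g hg _ = 0
    rw [grMap_mkG_eq_zero_iff, grMap_mkG_eq_zero_iff]
    exact forall_congr' fun n => hker n _ (x.2 n)
  let e := (RingHom.quotientKerEquivOfSurjective hp).symm.trans
    ((Ideal.quotEquivOfEq hk).trans (RingHom.quotientKerEquivOfSurjective hr))
  have he : ∀ x, e (p x) = r x := fun x => by
    simp only [e, RingEquiv.trans_apply]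
    rw [show p x = RingHom.quotientKerEquivOfSurjective hp (Ideal.Quotient.mk _ x) from rfl,
      RingEquiv.symm_apply_apply]
    rfl
  refine ⟨e, he, fun n y hy => ?_⟩
  obtain ⟨x, hx, rfl⟩ := exists_preimage_gr I J f h hs n hy
  rw [he]
  exact grMap_mem I K g hg n hx

end Groth.Agent.CAlg1.Pop
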