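import Mathlib
import Groth.Agent.CAlg1.Pop.GrMap
import Groth.Agent.CAlg1.Pop.AlgzAux

/-!
The algebra cut out by an approximate solution has the same truncation and associated graded ring.
-/

set_option autoImplicit false
universe u

open IsLocalRing

namespace Groth.Agent.CAlg1.Pop

theorem mem_sup_span_of_map {R' T : Type u} [CommRing R'] [CommRing T] (ψ : R' →+* T) (mT : Ideal T)
    (p' : Ideal R') (hcomap : ∀ j, (mT ^ j).comap ψ = p' ^ j) (hdense : ∀ j y, ∃ x, y - ψ x ∈ mT ^ j)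
    {ι : Type*} [Fintype ι] (g : ι → R') (j : ℕ) {x : R'}
    (hx : ψ x ∈ mT ^ j ⊔ Ideal.span (Set.range fun i => ψ (g i))) :
    x ∈ p' ^ j ⊔ Ideal.span (Set.range g) := by
  obtain ⟨w, hw, z, hz, hwz⟩ := Submodule.mem_sup.1 hx
  obtain ⟨d, rfl⟩ := (Submodule.mem_span_range_iff_exists_fun T).1 hz
  choose r hr using fun i => hdense j (d i)
  have h : x - ∑ i, r i * g i ∈ p' ^ j := by
    rw [← hcomap, Ideal.mem_comap, map_sub, map_sum, ← hwz, add_sub_assoc, ← Finset.sum_sub_distrib]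
    refine add_mem hw (Submodule.sum_mem _ fun i _ => ?_)
    rw [smul_eq_mul, map_mul, ← sub_mul]
    exact Ideal.mul_mem_right _ _ (hr i)
  rw [← sub_add_cancel x (∑ i, r i * g i)]
  exact add_mem (Submodule.mem_sup_left h) (Submodule.mem_sup_right (Submodule.sum_mem _ fun i _ =>
    Ideal.mul_mem_left _ _ (Ideal.subset_span (Set.mem_range_self i))))

variable {k R T R' : Type u} [Field k] [CommRing R] [Algebra k R] [IsLocalRing R] [CommRing T] [Algebra k T]
  [CommRing R'] [Algebra k R']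
  (θ : T →ₐ[k] R) (mT : Ideal T) (ψ : R' →ₐ[k] T) (p' : Ideal R')
  {ι : Type*} [Fintype ι] (g' : ι → R') (N : ℕ)

theorem exists_truncation_equiv (hθ : Function.Surjective θ) (hθm : mT.map θ = maximalIdeal R)
    (hcomap : ∀ j, (mT ^ j).comap ψ = p' ^ j) (hdense : ∀ j y, ∃ x, y - ψ x ∈ mT ^ j)
    (hker : mT ^ (N + 1) ⊔ Ideal.span (Set.range fun i => ψ (g' i)) = mT ^ (N + 1) ⊔ RingHom.ker θ) :
    ∃ φ : (R ⧸ maximalIdeal R ^ (N + 1)) ≃ₐ[k]
        ((R' ⧸ Ideal.span (Set.range g')) ⧸ (p'.map (Ideal.Quotient.mk (Ideal.span (Set.range g')))) ^ (N + 1)),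
      ∀ x : R', φ (Ideal.Quotient.mk _ (θ (ψ x))) = Ideal.Quotient.mk _ (Ideal.Quotient.mk _ x) := by
  let J := Ideal.span (Set.range g')
  let m := p'.map (Ideal.Quotient.mk J)
  let π : R' →ₐ[k] (R' ⧸ J) ⧸ m ^ (N + 1) := (Ideal.Quotient.mkₐ k _).comp (Ideal.Quotient.mkₐ k J)
  have hπ : Function.Surjective π := Ideal.Quotient.mk_surjective.comp Ideal.Quotient.mk_surjective
  let ρ : R' →ₐ[k] R ⧸ maximalIdeal R ^ (N + 1) := (Ideal.Quotient.mkₐ k _).comp (θ.comp ψ)
  have hρ : Function.Surjective ρ := by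
    intro y
    obtain ⟨y, rfl⟩ := Ideal.Quotient.mk_surjective y
    obtain ⟨t, rfl⟩ := hθ y
    obtain ⟨x, hx⟩ := hdense (N + 1) t
    refine ⟨x, (Ideal.Quotient.eq.2 ?_).symm⟩
    show θ t - θ (ψ x) ∈ _
    rw [← map_sub, ← hθm, ← Ideal.map_pow]
    exact Ideal.mem_map_of_mem θ hx
  have hk : RingHom.ker ρ = RingHom.ker π := by
    ext x
    rw [RingHom.mem_ker, RingHom.mem_ker]
    show Ideal.Quotient.mk (maximalIdeal R ^ (N + 1)) (θ (ψ x)) = 0 ↔
      Ideal.Quotient.mk (m ^ (N + 1)) (Ideal.Quotient.mk J x) = 0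
    rw [Ideal.Quotient.eq_zero_iff_mem, Ideal.Quotient.eq_zero_iff_mem, ← hθm, ← Ideal.map_pow, ← Ideal.mem_comap,
      Ideal.comap_map_of_surjective' θ hθ, ← hker,
      show m ^ (N + 1) = (p' ^ (N + 1)).map (Ideal.Quotient.mk J) from (Ideal.map_pow _ _ _).symm,
      ← Ideal.mem_comap (f := Ideal.Quotient.mk J), Ideal.comap_map_of_surjective' _ Ideal.Quotient.mk_surjective, Ideal.mk_ker]
    refine ⟨mem_sup_span_of_map ψ.toRingHom mT p' hcomap hdense g' (N + 1), fun hx => ?_⟩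
    obtain ⟨w, hw, z, hz, rfl⟩ := Submodule.mem_sup.1 hx
    rw [map_add]
    refine add_mem (Submodule.mem_sup_left ?_) (Submodule.mem_sup_right ?_)
    · exact Ideal.mem_comap.1 ((hcomap (N + 1)).ge hw)
    · have := Ideal.mem_map_of_mem ψ hz
      rwa [Ideal.map_span, ← Set.range_comp] at this
  let e := ((Ideal.quotientKerAlgEquivOfSurjective hρ).symm.trans (Ideal.quotientEquivAlgOfEq k hk)).trans
    (Ideal.quotientKerAlgEquivOfSurjective hπ)
  refine ⟨e, fun x => ?_⟩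
  show e (ρ x) = π x
  simp only [e, AlgEquiv.trans_apply, Ideal.quotientKerAlgEquivOfSurjective_symm_apply]
  rfl

theorem exists_graded_equiv (hθ : Function.Surjective θ) (hθm : mT.map θ = maximalIdeal R)
    (hcomap : ∀ j, (mT ^ j).comap ψ = p' ^ j) (hdense : ∀ j y, ∃ x, y - ψ x ∈ mT ^ j)
    (hfilt : ∀ n, mT ^ (n + 1) ⊔ (RingHom.ker θ ⊓ mT ^ n) =
      mT ^ (n + 1) ⊔ (Ideal.span (Set.range fun i => ψ (g' i)) ⊓ mT ^ n)) :
    ∃ e : AssocGr.GrRing (FiltBl.IdealFiltration.adic (maximalIdeal R)) ≃+*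
        AssocGr.GrRing (FiltBl.IdealFiltration.adic (p'.map (Ideal.Quotient.mk (Ideal.span (Set.range g'))))),
      (∀ (n : ℕ) (x : AssocGr.GrRing (FiltBl.IdealFiltration.adic (maximalIdeal R))),
          x ∈ AssocGr.gr (FiltBl.IdealFiltration.adic (maximalIdeal R)) n →
            e x ∈ AssocGr.gr (FiltBl.IdealFiltration.adic
              (p'.map (Ideal.Quotient.mk (Ideal.span (Set.range g'))))) n) ∧
      (∀ c : k, e (algebraMap R _ (algebraMap k R c)) =
        algebraMap (R' ⧸ Ideal.span (Set.range g')) _ (algebraMap k _ c)) := by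
  let J := Ideal.span (Set.range g')
  let m := p'.map (Ideal.Quotient.mk J)
  let J' : Ideal T := Ideal.span (Set.range fun i => ψ (g' i))
  let C := T ⧸ J'
  let K : Ideal C := mT.map (Ideal.Quotient.mk J')
  -- from `R` to the deformed quotient
  obtain ⟨e₀, he₀, he₀g⟩ := exists_grEquiv mT (maximalIdeal R) θ.toRingHom K (Ideal.Quotient.mk J') hθm.le le_rfl
    (fun n y hy => by
      rw [← hθm, ← Ideal.map_pow, Ideal.mem_map_iff_of_surjective θ hθ] at hy
      obtain ⟨x, hx, rfl⟩ := hy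
      exact ⟨x, hx, by simp⟩)
    (fun n y hy => by
      rw [← Ideal.map_pow, Ideal.mem_map_iff_of_surjective _ Ideal.Quotient.mk_surjective] at hy
      obtain ⟨x, hx, rfl⟩ := hy
      exact ⟨x, hx, by rw [sub_self]; exact Submodule.zero_mem _⟩)
    (fun n x hx => by
      have h1 := mem_map_pow_succ_iff θ.toRingHom hθ mT n hx
      rw [show mT.map θ.toRingHom = maximalIdeal R from hθm] at h1
      rw [h1, mem_map_pow_succ_iff (Ideal.Quotient.mk J') Ideal.Quotient.mk_surjective mT n hx, Ideal.mk_ker]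
      exact SetLike.ext_iff.1 (hfilt n) x)
  -- from the approximating algebra to the deformed quotient
  let χ : (R' ⧸ J) →+* C := Ideal.quotientMap J' ψ.toRingHom (by
    rw [Ideal.span_le]
    rintro _ ⟨i, rfl⟩
    exact Ideal.subset_span ⟨i, rfl⟩)
  have hχ : ∀ x, χ (Ideal.Quotient.mk J x) = Ideal.Quotient.mk J' (ψ x) := fun _ => rfl
  have hmem : ∀ j y, χ y ∈ K ^ j → y ∈ m ^ j := by
    intro j y hy
    obtain ⟨x, rfl⟩ := Ideal.Quotient.mk_surjective y
    rw [hχ, ← Ideal.map_pow, ← Ideal.mem_comap, Ideal.comap_map_of_surjective' _ Ideal.Quotient.mk_surjective,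
      Ideal.mk_ker] at hy
    rw [← Ideal.map_pow, ← Ideal.mem_comap, Ideal.comap_map_of_surjective' _ Ideal.Quotient.mk_surjective,
      Ideal.mk_ker]
    exact mem_sup_span_of_map ψ.toRingHom mT p' hcomap hdense g' j hy
  have hsurj : ∀ j y, ∃ x, y - χ x ∈ K ^ j := by
    intro j y
    obtain ⟨t, rfl⟩ := Ideal.Quotient.mk_surjective y
    obtain ⟨x, hx⟩ := hdense j t
    refine ⟨Ideal.Quotient.mk J x, ?_⟩
    rw [hχ, ← map_sub, ← Ideal.map_pow]
    exact Ideal.mem_map_of_mem _ hx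
  have hmK : m.map χ ≤ K := by
    rw [Ideal.map_le_iff_le_comap, Ideal.map_le_iff_le_comap]
    intro x hx
    rw [← pow_one p', ← hcomap, Ideal.mem_comap, pow_one] at hx
    exact Ideal.mem_map_of_mem (Ideal.Quotient.mk J') hx
  have hs : ∀ n, ∀ y ∈ K ^ n, ∃ x ∈ m ^ n, y - χ x ∈ K ^ (n + 1) := by
    intro n y hy
    obtain ⟨x, hx⟩ := hsurj (n + 1) y
    refine ⟨x, hmem n x ?_, hx⟩
    have h1 := Ideal.sub_mem _ hy (Ideal.pow_le_pow_right (Nat.le_succ n) hx)
    rwa [sub_sub_cancel] at h1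
  let γ := RingEquiv.ofBijective (grMap m K χ hmK) (grMap_bijective m K χ hmK hmem hsurj)
  refine ⟨e₀.trans γ.symm, fun n x hx => ?_, fun c => ?_⟩
  · obtain ⟨y, hy, hyx⟩ := exists_preimage_gr m K χ hmK hs n (he₀g n x hx)
    show γ.symm (e₀ x) ∈ _
    rw [← hyx, show γ.symm (grMap m K χ hmK y) = y from γ.symm_apply_apply y]
    exact hy
  · show γ.symm (e₀ (algebraMap R _ (algebraMap k R c))) = _
    apply γ.injective
    rw [RingEquiv.apply_symm_apply, ← θ.commutes c]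
    simp only [γ, RingEquiv.coe_ofBijective, RingEquiv.ofBijective_apply]
    rw [show θ (algebraMap k T c) = θ.toRingHom (algebraMap k T c) from rfl]
    rw [← grMap_algebraMap mT (maximalIdeal R) θ.toRingHom hθm.le, he₀, grMap_algebraMap, grMap_algebraMap]
    exact congrArg _ (congrArg (Ideal.Quotient.mk J') (ψ.commutes c).symm)

end Groth.Agent.CAlg1.Pop
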