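import Mathlib
import Groth.Agent.CAlg5.AdicFS

/-!
An unramified neighbourhood with trivial residue extension has the same truncations as the completion.
-/

set_option autoImplicit false
universe u

open IsLocalRing

namespace Groth.Agent.CAlg1.Pop

variable {R₀ : Type u} [CommRing R₀] [IsNoetherianRing R₀] (p : Ideal R₀) [p.IsMaximal]

omit [IsNoetherianRing R₀] in
theorem sup_eq_top_of_isMaximal (J : Ideal R₀) (h : ¬ J ≤ p) : J ⊔ p = ⊤ :=
  (‹p.IsMaximal›.out.2 _ (lt_of_le_of_ne le_sup_right fun he => h (le_sup_left.trans he.ge)))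

theorem mem_pow_of_completion {r : R₀} (j : ℕ)
    (hr : algebraMap (Localization.AtPrime p) (AdicCompletion (maximalIdeal (Localization.AtPrime p)) (Localization.AtPrime p))
        (algebraMap R₀ (Localization.AtPrime p) r) ∈
      (maximalIdeal (Localization.AtPrime p)).map (algebraMap (Localization.AtPrime p)
        (AdicCompletion (maximalIdeal (Localization.AtPrime p)) (Localization.AtPrime p))) ^ j) :
    r ∈ p ^ j := by
  have h1 := CAlg5.mem_pow_of_algebraMap_mem (maximalIdeal (Localization.AtPrime p))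
    (IsNoetherian.noetherian _) j _ hr
  rw [← Localization.AtPrime.map_eq_maximalIdeal, ← Ideal.map_pow,
    IsLocalization.algebraMap_mem_map_algebraMap_iff p.primeCompl] at h1
  obtain ⟨s, hs, hsr⟩ := h1
  have h2 : Ideal.span {s} ⊔ p ^ j = ⊤ :=
    Ideal.sup_pow_eq_top (sup_eq_top_of_isMaximal p _ fun hle =>
      hs (hle (Ideal.mem_span_singleton_self s)))
  obtain ⟨_, ha, b, hb, hab⟩ := Submodule.mem_sup.1 (h2.ge (Submodule.mem_top (x := (1 : R₀))))
  obtain ⟨c, rfl⟩ := Ideal.mem_span_singleton'.1 ha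
  rw [← mul_one r, ← hab, mul_add, show r * (c * s) = c * (s * r) by ring]
  exact add_mem (Ideal.mul_mem_left _ _ hsr) (Ideal.mul_mem_left _ _ hb)

theorem exists_sub_mem_completion (j : ℕ)
    (y : AdicCompletion (maximalIdeal (Localization.AtPrime p)) (Localization.AtPrime p)) :
    ∃ r : R₀, y - algebraMap (Localization.AtPrime p) _ (algebraMap R₀ (Localization.AtPrime p) r) ∈
      (maximalIdeal (Localization.AtPrime p)).map (algebraMap (Localization.AtPrime p)
        (AdicCompletion (maximalIdeal (Localization.AtPrime p)) (Localization.AtPrime p))) ^ j := by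
  obtain ⟨z, hz⟩ := CAlg5.exists_sub_mem_pow (maximalIdeal (Localization.AtPrime p))
    (IsNoetherian.noetherian _) j y
  obtain ⟨a, s, rfl⟩ := IsLocalization.exists_mk'_eq p.primeCompl z
  have h2 : Ideal.span {(s : R₀)} ⊔ p ^ j = ⊤ :=
    Ideal.sup_pow_eq_top (sup_eq_top_of_isMaximal p _ fun hle =>
      s.2 (hle (Ideal.mem_span_singleton_self (s : R₀))))
  obtain ⟨_, ha, b, hb, hab⟩ := Submodule.mem_sup.1 (h2.ge (Submodule.mem_top (x := (1 : R₀))))
  obtain ⟨c, rfl⟩ := Ideal.mem_span_singleton'.1 ha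
  refine ⟨a * c, ?_⟩
  have h3 : IsLocalization.mk' (Localization.AtPrime p) a s - algebraMap R₀ _ (a * c) ∈
      maximalIdeal (Localization.AtPrime p) ^ j := by
    have h4 : IsLocalization.mk' (Localization.AtPrime p) a s - algebraMap R₀ _ (a * c) =
        IsLocalization.mk' (Localization.AtPrime p) a s * algebraMap R₀ _ b := by
      conv_lhs => rw [← mul_one (IsLocalization.mk' (Localization.AtPrime p) a s), ← map_one (algebraMap R₀ _), ← hab,
        map_add, mul_add, map_mul _ c (s : R₀), mul_left_comm, IsLocalization.mk'_spec, ← map_mul, mul_comm c a,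
        add_sub_cancel_left]
    rw [h4, ← Localization.AtPrime.map_eq_maximalIdeal, ← Ideal.map_pow]
    exact Ideal.mul_mem_left _ _ (Ideal.mem_map_of_mem _ hb)
  have h5 := Ideal.mem_map_of_mem (algebraMap (Localization.AtPrime p)
    (AdicCompletion (maximalIdeal (Localization.AtPrime p)) (Localization.AtPrime p))) h3
  rw [Ideal.map_pow, map_sub] at h5
  have h6 := add_mem hz h5
  rwa [sub_add_sub_cancel] at h6

theorem comap_completion_pow {R' : Type u} [CommRing R'] [Algebra R₀ R'] [Algebra.FormallyUnramified R₀ R']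
    (ψ : R' →+* AdicCompletion (maximalIdeal (Localization.AtPrime p)) (Localization.AtPrime p))
    (hψ : ∀ r, ψ (algebraMap R₀ R' r) = algebraMap (Localization.AtPrime p) _
      (algebraMap R₀ (Localization.AtPrime p) r))
    (p' : Ideal R')
    (hp' : ∀ x ∈ p', ψ x ∈ (maximalIdeal (Localization.AtPrime p)).map (algebraMap (Localization.AtPrime p)
        (AdicCompletion (maximalIdeal (Localization.AtPrime p)) (Localization.AtPrime p))))
    (hcomap : p'.comap (algebraMap R₀ R') = p)
    (hres : ∀ x : R', ∃ r s : R₀, s ∉ p ∧ algebraMap R₀ R' s * x - algebraMap R₀ R' r ∈ p') (j : ℕ) :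
    ((maximalIdeal (Localization.AtPrime p)).map (algebraMap (Localization.AtPrime p)
        (AdicCompletion (maximalIdeal (Localization.AtPrime p)) (Localization.AtPrime p))) ^ j).comap ψ = p' ^ j := by
  let mT := (maximalIdeal (Localization.AtPrime p)).map (algebraMap (Localization.AtPrime p)
        (AdicCompletion (maximalIdeal (Localization.AtPrime p)) (Localization.AtPrime p)))
  have hres' : ∀ x : R', ∃ r : R₀, x - algebraMap R₀ R' r ∈ p' := by
    intro x
    obtain ⟨r, s, hs, hx⟩ := hres x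
    have h2 : Ideal.span {s} ⊔ p = ⊤ :=
      sup_eq_top_of_isMaximal p _ fun hle =>
        hs (hle (Ideal.mem_span_singleton_self s))
    obtain ⟨_, ha, b, hb, hab⟩ := Submodule.mem_sup.1 (h2.ge (Submodule.mem_top (x := (1 : R₀))))
    obtain ⟨c, rfl⟩ := Ideal.mem_span_singleton'.1 ha
    refine ⟨c * r, ?_⟩
    have hb' : algebraMap R₀ R' b ∈ p' := by rw [← Ideal.mem_comap, hcomap]; exact hb
    have h3 : x - algebraMap R₀ R' (c * r) =
        algebraMap R₀ R' c * (algebraMap R₀ R' s * x - algebraMap R₀ R' r) + algebraMap R₀ R' b * x := by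
      have h1 : algebraMap R₀ R' c * algebraMap R₀ R' s + algebraMap R₀ R' b = 1 := by
        rw [← map_mul, ← map_add, hab, map_one]
      rw [map_mul]
      linear_combination (-x) * h1
    rw [h3]
    exact add_mem (Ideal.mul_mem_left _ _ hx) (Ideal.mul_mem_right _ _ hb')
  have hp'eq : mT.comap ψ = p' := by
    refine le_antisymm (fun x hx => ?_) hp'
    obtain ⟨r, hr⟩ := hres' x
    have h1 := Submodule.sub_mem _ (Ideal.mem_comap.1 hx) (hp' _ hr)
    rw [map_sub, sub_sub_cancel, hψ, ← pow_one mT] at h1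
    have h2 := mem_pow_of_completion p 1 h1
    rw [pow_one, ← hcomap] at h2
    have h3 := add_mem hr (Ideal.mem_comap.1 h2)
    rwa [sub_add_cancel] at h3
  rcases Nat.eq_zero_or_pos j with rfl | hj
  · simp
  have hle : p' ^ j ≤ (mT ^ j).comap ψ := by
    rw [← hp'eq]; exact Ideal.le_comap_pow _ j
  refine le_antisymm (fun x hx => ?_) hle
  -- the inverse on truncations
  letI : Algebra R₀ (AdicCompletion (maximalIdeal (Localization.AtPrime p)) (Localization.AtPrime p) ⧸ mT ^ j) :=
    ((Ideal.Quotient.mk (mT ^ j)).comp ((algebraMap (Localization.AtPrime p) _).comp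
      (algebraMap R₀ (Localization.AtPrime p)))).toAlgebra
  let ε : (R₀ ⧸ p ^ j) →ₐ[R₀]
      AdicCompletion (maximalIdeal (Localization.AtPrime p)) (Localization.AtPrime p) ⧸ mT ^ j :=
    Ideal.Quotient.liftₐ (p ^ j) (Algebra.ofId R₀ _) fun r hr => by
      show Ideal.Quotient.mk (mT ^ j) (algebraMap (Localization.AtPrime p) _
        (algebraMap R₀ (Localization.AtPrime p) r)) = 0
      rw [Ideal.Quotient.eq_zero_iff_mem]
      refine Ideal.pow_right_mono le_rfl j ?_
      show _ ∈ ((maximalIdeal (Localization.AtPrime p)).map _) ^ j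
      rw [← Localization.AtPrime.map_eq_maximalIdeal, ← Ideal.map_pow, ← Ideal.map_pow]
      exact Ideal.mem_map_of_mem _ (Ideal.mem_map_of_mem _ hr)
  have hε : Function.Bijective ε := by
    refine ⟨(injective_iff_map_eq_zero _).2 fun r hr => ?_, fun y => ?_⟩
    · obtain ⟨r, rfl⟩ := Ideal.Quotient.mk_surjective r
      exact Ideal.Quotient.eq_zero_iff_mem.2 (mem_pow_of_completion p j (Ideal.Quotient.eq_zero_iff_mem.1 hr))
    · obtain ⟨y, rfl⟩ := Ideal.Quotient.mk_surjective y
      obtain ⟨r, hr⟩ := exists_sub_mem_completion p j y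
      exact ⟨Ideal.Quotient.mk _ r, (Ideal.Quotient.eq.2 hr).symm⟩
  let ψj : R' →ₐ[R₀] AdicCompletion (maximalIdeal (Localization.AtPrime p)) (Localization.AtPrime p) ⧸ mT ^ j :=
    { (Ideal.Quotient.mk (mT ^ j)).comp ψ with commutes' := fun r => congrArg (Ideal.Quotient.mk (mT ^ j)) (hψ r) }
  let sec : (R₀ ⧸ p ^ j) →ₐ[R₀] R' ⧸ p' ^ j :=
    Ideal.Quotient.liftₐ (p ^ j) (Algebra.ofId R₀ _) fun r hr => by
      show Ideal.Quotient.mk (p' ^ j) (algebraMap R₀ R' r) = 0
      rw [Ideal.Quotient.eq_zero_iff_mem]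
      exact Ideal.le_comap_pow (algebraMap R₀ R') j (hcomap.symm ▸ hr)
  let g : R' →ₐ[R₀] R' ⧸ p' ^ j := sec.comp ((AlgEquiv.ofBijective ε hε).symm.toAlgHom.comp ψj)
  have hgy : ∀ y : R', ∀ r, ψ y - algebraMap (Localization.AtPrime p) _ (algebraMap R₀ (Localization.AtPrime p) r) ∈ mT ^ j →
      g y = Ideal.Quotient.mk (p' ^ j) (algebraMap R₀ R' r) := by
    intro y r hr
    have h1 : (AlgEquiv.ofBijective ε hε).symm (ψj y) = Ideal.Quotient.mk (p ^ j) r :=
      (AlgEquiv.ofBijective ε hε).injective (by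
        rw [AlgEquiv.apply_symm_apply]; exact Ideal.Quotient.eq.2 hr)
    show sec ((AlgEquiv.ofBijective ε hε).symm (ψj y)) = _
    rw [h1]
    rfl
  have hgid : g = Ideal.Quotient.mkₐ R₀ (p' ^ j) := by
    refine Algebra.FormallyUnramified.ext (p'.map (Ideal.Quotient.mk (p' ^ j)))
      ⟨j, by rw [← Ideal.map_pow, Ideal.map_quotient_self, Submodule.zero_eq_bot]⟩ fun y => ?_
    obtain ⟨r, hr⟩ := exists_sub_mem_completion p j (ψ y)
    rw [hgy y r hr, Ideal.Quotient.eq]
    show Ideal.Quotient.mk (p' ^ j) (algebraMap R₀ R' r) - Ideal.Quotient.mk (p' ^ j) y ∈ _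
    rw [← map_sub, ← neg_sub, map_neg]
    refine neg_mem (Ideal.mem_map_of_mem _ ?_)
    rw [← hp'eq, Ideal.mem_comap, map_sub, hψ]
    exact Ideal.pow_le_self (Nat.pos_iff_ne_zero.1 hj) hr
  have h0 : g x = Ideal.Quotient.mk (p' ^ j) (algebraMap R₀ R' 0) := hgy x 0 (by
    rw [map_zero, map_zero, sub_zero]; exact hx)
  rw [hgid, map_zero, map_zero] at h0
  exact Ideal.Quotient.eq_zero_iff_mem.1 h0

end Groth.Agent.CAlg1.Pop
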