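import Mathlib
import Groth.Agent.CAlg5.AdicFS

/-!
A complete local algebra with residue field `k` is a quotient of the completion of a polynomial ring.
-/

set_option autoImplicit false
universe u

open IsLocalRing

namespace Groth.Agent.CAlg1.Pop

theorem finite_quotient_pow {k R₀ : Type u} [Field k] [CommRing R₀] [Algebra k R₀] [Algebra.FiniteType k R₀]
    (p : Ideal R₀) [p.IsMaximal] (j : ℕ) : Module.Finite k (R₀ ⧸ p ^ j) := by
  haveI : IsNoetherianRing R₀ := Algebra.FiniteType.isNoetherianRing k R₀
  haveI : Algebra.FiniteType k (R₀ ⧸ p ^ j) :=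
    Algebra.FiniteType.of_surjective (Ideal.Quotient.mkₐ k _) Ideal.Quotient.mk_surjective
  haveI : IsArtinianRing (R₀ ⧸ p ^ j) := by
    refine isArtinianRing_iff_isNoetherianRing_krullDimLE_zero.2 ⟨inferInstance, ?_⟩
    refine Ring.krullDimLE_zero_iff.2 fun P hP => ?_
    have h : p.map (Ideal.Quotient.mk (p ^ j)) ≤ P := by
      intro z hz
      rw [Ideal.mem_map_iff_of_surjective _ Ideal.Quotient.mk_surjective] at hz
      obtain ⟨z, hz, rfl⟩ := hz
      refine hP.mem_of_pow_mem j ?_
      rw [← map_pow, Ideal.Quotient.eq_zero_iff_mem.2 (Ideal.pow_mem_pow hz j)]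
      exact P.zero_mem
    have hP' : P.comap (Ideal.Quotient.mk (p ^ j)) = p :=
      (‹p.IsMaximal›.eq_of_le (Ideal.IsPrime.ne_top inferInstance) (Ideal.map_le_iff_le_comap.1 h)).symm
    haveI : (P.comap (Ideal.Quotient.mk (p ^ j))).IsMaximal := hP'.symm ▸ ‹p.IsMaximal›
    rw [← Ideal.map_comap_of_surjective (Ideal.Quotient.mk (p ^ j)) Ideal.Quotient.mk_surjective P]
    exact Ideal.IsMaximal.map_of_surjective_of_ker_le Ideal.Quotient.mk_surjective (Ideal.ker_le_comap _)
  exact (Module.finite_iff_isArtinianRing k (R₀ ⧸ p ^ j)).2 inferInstance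

instance isMaximal_ker_constantCoeff (k : Type u) [Field k] (n : ℕ) :
    (RingHom.ker (MvPolynomial.constantCoeff (σ := Fin n) (R := k))).IsMaximal :=
  RingHom.ker_isMaximal_of_surjective _ fun c => ⟨MvPolynomial.C c, MvPolynomial.constantCoeff_C _ c⟩

theorem exists_presentation (k R : Type u) [Field k] [CommRing R] [Algebra k R] [IsLocalRing R] [IsNoetherianRing R]
    [IsAdicComplete (maximalIdeal R) R]
    (hres : Function.Surjective (fun c : k => residue R (algebraMap k R c))) :
    ∃ (n : ℕ) (θ : AdicCompletion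
        (maximalIdeal (Localization.AtPrime (RingHom.ker (MvPolynomial.constantCoeff (σ := Fin n) (R := k)))))
        (Localization.AtPrime (RingHom.ker (MvPolynomial.constantCoeff (σ := Fin n) (R := k)))) →+* R),
      Function.Surjective θ ∧
      (∀ c : k, θ (algebraMap (Localization.AtPrime (RingHom.ker (MvPolynomial.constantCoeff (σ := Fin n) (R := k)))) _
        (algebraMap (MvPolynomial (Fin n) k) _ (MvPolynomial.C c))) = algebraMap k R c) ∧
      ((maximalIdeal (Localization.AtPrime (RingHom.ker (MvPolynomial.constantCoeff (σ := Fin n) (R := k))))).map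
        (algebraMap _ (AdicCompletion
          (maximalIdeal (Localization.AtPrime (RingHom.ker (MvPolynomial.constantCoeff (σ := Fin n) (R := k)))))
          (Localization.AtPrime (RingHom.ker (MvPolynomial.constantCoeff (σ := Fin n) (R := k))))))).map θ =
        maximalIdeal R := by
  obtain ⟨n, x, hx⟩ := Submodule.fg_iff_exists_fin_generating_family.1 (maximalIdeal R).fg_of_isNoetherianRing
  have hxm : ∀ i, x i ∈ maximalIdeal R := fun i => hx ▸ Submodule.subset_span ⟨i, rfl⟩
  refine ⟨n, ?_⟩
  let R₀ := MvPolynomial (Fin n) k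
  let p : Ideal R₀ := RingHom.ker (MvPolynomial.constantCoeff (σ := Fin n) (R := k))
  haveI hpmax : p.IsMaximal := isMaximal_ker_constantCoeff k n
  let Rp := Localization.AtPrime p
  let m₀ := maximalIdeal Rp
  let mT : Ideal (AdicCompletion m₀ Rp) := m₀.map (algebraMap Rp (AdicCompletion m₀ Rp))
  let f : R₀ →ₐ[k] R := MvPolynomial.aeval x
  have hfC : ∀ r : R₀, f r - algebraMap k R (MvPolynomial.constantCoeff r) ∈ maximalIdeal R := by
    intro r
    induction r using MvPolynomial.induction_on with
    | C a =>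
      rw [show f (MvPolynomial.C a) = algebraMap k R a from MvPolynomial.aeval_C (R := k) x a,
        MvPolynomial.constantCoeff_C, sub_self]
      exact zero_mem _
    | add a b ha hb =>
      rw [map_add, map_add, map_add, add_sub_add_comm]
      exact add_mem ha hb
    | mul_X a i ha =>
      rw [map_mul, map_mul, MvPolynomial.constantCoeff_X, mul_zero, map_zero, sub_zero]
      exact Ideal.mul_mem_left _ _ (by
        rw [show f (MvPolynomial.X i) = x i from MvPolynomial.aeval_X (R := k) x i]
        exact hxm i)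
  have hfu : ∀ r : p.primeCompl, IsUnit (f (r : R₀)) := fun r => by
    rw [← notMem_maximalIdeal]
    intro hm
    have h1 := sub_mem hm (hfC r)
    rw [sub_sub_cancel] at h1
    exact (maximalIdeal.isMaximal R).ne_top (Ideal.eq_top_of_isUnit_mem _ h1
      ((isUnit_iff_ne_zero.2 fun h0 => r.2 h0).map _))
  let g : Rp →+* R := IsLocalization.lift (M := p.primeCompl) (g := f.toRingHom) hfu
  have hgm : m₀.map g ≤ maximalIdeal R := by
    rw [show m₀ = p.map (algebraMap R₀ Rp) from Localization.AtPrime.map_eq_maximalIdeal.symm, Ideal.map_map,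
      show g.comp (algebraMap R₀ Rp) = f.toRingHom from IsLocalization.lift_comp hfu, Ideal.map_le_iff_le_comap]
    intro r hr
    have h1 := hfC r
    rw [show MvPolynomial.constantCoeff r = 0 from hr, map_zero, sub_zero] at h1
    exact h1
  let fam : (j : ℕ) → AdicCompletion m₀ Rp →+* R ⧸ maximalIdeal R ^ j := fun j =>
    (Ideal.quotientMap (maximalIdeal R ^ j) g (by
      rw [← Ideal.map_le_iff_le_comap, Ideal.map_pow]
      exact Ideal.pow_right_mono hgm j)).comp (AdicCompletion.evalₐ m₀ j).toRingHom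
  have hfam : ∀ {a b : ℕ} (hle : a ≤ b), (Ideal.Quotient.factorPow _ hle).comp (fam b) = fam a := by
    intro a b hle
    refine RingHom.ext fun y => ?_
    obtain ⟨r, hr⟩ := CAlg5.exists_sub_mem_pow m₀ (IsNoetherian.noetherian m₀) b y
    have e1 : ∀ c ≤ b, AdicCompletion.evalₐ m₀ c y = Ideal.Quotient.mk (m₀ ^ c) r := fun c hc => by
      have h1 := (CAlg5.evalₐ_eq_zero_iff m₀ (IsNoetherian.noetherian m₀) c _).2 (Ideal.pow_le_pow_right hc hr)
      rwa [map_sub, AlgHom.commutes, Ideal.Quotient.algebraMap_eq, sub_eq_zero] at h1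
    simp only [fam, RingHom.comp_apply, AlgHom.toRingHom_eq_coe, RingHom.coe_coe]
    rw [e1 b le_rfl, e1 a hle]
    rfl
  let θ : AdicCompletion m₀ Rp →+* R := IsAdicComplete.liftRingHom (maximalIdeal R) fam hfam
  have hθalg : ∀ z : Rp, θ (algebraMap Rp _ z) = g z := fun z => by
    refine IsHausdorff.eq_iff_smodEq (I := maximalIdeal R).2 fun j => ?_
    rw [SModEq, ← Submodule.Quotient.mk''_eq_mk]
    rw [smul_eq_mul, Ideal.mul_top]
    show Ideal.Quotient.mk (maximalIdeal R ^ j) (θ (algebraMap Rp _ z)) = Ideal.Quotient.mk (maximalIdeal R ^ j) (g z)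
    rw [IsAdicComplete.mk_liftRingHom]
    simp only [fam, RingHom.comp_apply, AlgHom.toRingHom_eq_coe, RingHom.coe_coe, AlgHom.commutes]
    rfl
  have hθm : mT.map θ = maximalIdeal R := by
    refine le_antisymm ?_ ?_
    · rw [Ideal.map_map, show θ.comp (algebraMap Rp _) = g from RingHom.ext hθalg]
      exact hgm
    · rw [← hx, Submodule.span_le]
      rintro _ ⟨i, rfl⟩
      have h : algebraMap Rp (AdicCompletion m₀ Rp) (algebraMap R₀ Rp (MvPolynomial.X i)) ∈ mT :=
        Ideal.mem_map_of_mem _ (by
          rw [show m₀ = p.map (algebraMap R₀ Rp) from Localization.AtPrime.map_eq_maximalIdeal.symm]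
          exact Ideal.mem_map_of_mem _ (MvPolynomial.constantCoeff_X (R := k) i))
      have h2 := Ideal.mem_map_of_mem θ h
      rw [hθalg, show g (algebraMap R₀ Rp (MvPolynomial.X i)) = f (MvPolynomial.X i) from IsLocalization.lift_eq _ _,
        show f (MvPolynomial.X i) = x i from MvPolynomial.aeval_X (R := k) x i] at h2
      exact h2
  have hθC : ∀ c : k, θ (algebraMap Rp _ (algebraMap R₀ Rp (MvPolynomial.C c))) = algebraMap k R c := fun c => by
    rw [hθalg, show g (algebraMap R₀ Rp (MvPolynomial.C c)) = f (MvPolynomial.C c) from IsLocalization.lift_eq _ _]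
    exact MvPolynomial.aeval_C (R := k) x c
  refine ⟨θ, ?_, hθC, hθm⟩
  haveI : IsAdicComplete mT (AdicCompletion m₀ Rp) :=
    (IsAdicComplete.map_algebraMap_iff _ _).mpr (AdicCompletion.isAdicComplete (IsNoetherian.noetherian m₀))
  haveI : IsHausdorff (mT.map θ) R := by rw [hθm]; infer_instance
  refine surjective_of_mk_map_comp_surjective θ (I := mT) fun y => ?_
  obtain ⟨y, rfl⟩ := Ideal.Quotient.mk_surjective y
  obtain ⟨c, hc⟩ := hres (residue R y)
  refine ⟨algebraMap Rp _ (algebraMap R₀ Rp (MvPolynomial.C c)), ?_⟩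
  rw [RingHom.comp_apply, hθC, Ideal.Quotient.eq, hθm, ← residue_eq_zero_iff, map_sub, sub_eq_zero]
  exact hc

end Groth.Agent.CAlg1.Pop
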