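import Mathlib
import Groth.Agent.CAlg1.Pop.AlgzStructure
import Groth.Agent.CAlg1.Pop.EtaleCompletion
import Groth.Agent.CAlg1.Pop.Presentation
import Groth.Agent.EGA4H10.CompleteGRing
import Groth.Agent.EGA4H10.FTGRingDescent
import Groth.Agent.EGA4H10.GRingLoc
import Groth.Agent.S6910

/-!
Artin algebraization of a complete local algebra together with a map from a finitely presented algebra.
-/

set_option autoImplicit false
universe u

open IsLocalRing MvPolynomial

namespace Groth.Agent.CAlg1.Pop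

theorem sub_C_constantCoeff_mem {k : Type u} [Field k] {n : ℕ} (r : MvPolynomial (Fin n) k) :
    r - C (constantCoeff r) ∈ RingHom.ker (constantCoeff (σ := Fin n) (R := k)) := by
  rw [RingHom.mem_ker, map_sub, constantCoeff_C, sub_self]

theorem residue_surjective_of_point {k R' : Type u} [Field k] [CommRing R'] [Algebra k R'] {n : ℕ}
    [Algebra (MvPolynomial (Fin n) k) R'] [IsScalarTower k (MvPolynomial (Fin n) k) R'] (p' : Ideal R')
    (hcomap : p'.comap (algebraMap (MvPolynomial (Fin n) k) R') = RingHom.ker (constantCoeff (σ := Fin n) (R := k)))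
    (hres : ∀ x : R', ∃ r s : MvPolynomial (Fin n) k, s ∉ RingHom.ker (constantCoeff (σ := Fin n) (R := k)) ∧
      algebraMap (MvPolynomial (Fin n) k) R' s * x - algebraMap _ R' r ∈ p') (x : R') :
    ∃ c : k, x - algebraMap k R' c ∈ p' := by
  obtain ⟨r, s, hs, hx⟩ := hres x
  have hmem : ∀ r : MvPolynomial (Fin n) k,
      algebraMap _ R' r - algebraMap k R' (constantCoeff r) ∈ p' := fun r => by
    rw [IsScalarTower.algebraMap_apply k (MvPolynomial (Fin n) k) R', ← map_sub, ← Ideal.mem_comap, hcomap]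
    exact sub_C_constantCoeff_mem r
  have hs0 : constantCoeff s ≠ 0 := fun h => hs h
  refine ⟨(constantCoeff s)⁻¹ * constantCoeff r, ?_⟩
  have h1 : x - algebraMap k R' ((constantCoeff s)⁻¹ * constantCoeff r) =
      algebraMap k R' (constantCoeff s)⁻¹ * ((algebraMap _ R' s * x - algebraMap _ R' r) -
        (algebraMap _ R' s - algebraMap k R' (constantCoeff s)) * x +
        (algebraMap _ R' r - algebraMap k R' (constantCoeff r))) := by
    have h2 : algebraMap k R' (constantCoeff s)⁻¹ * algebraMap k R' (constantCoeff s) = 1 := by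
      rw [← map_mul, inv_mul_cancel₀ hs0, map_one]
    rw [map_mul]
    linear_combination (-x) * h2
  rw [h1]
  exact Ideal.mul_mem_left _ _ (add_mem (sub_mem hx (Ideal.mul_mem_right _ _ (hmem s))) (hmem r))

theorem isMaximal_of_residue {k R' : Type u} [Field k] [CommRing R'] [Algebra k R'] (p' : Ideal R')
    (h1 : p' ≠ ⊤) (h : ∀ x, ∃ c : k, x - algebraMap k R' c ∈ p') : p'.IsMaximal := by
  refine Ideal.isMaximal_iff.2 ⟨fun h' => h1 ((Ideal.eq_top_iff_one _).2 h'), fun J x hle hx hxJ => ?_⟩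
  obtain ⟨c, hc⟩ := h x
  have hc0 : c ≠ 0 := fun h0 => hx (by simpa [h0] using hc)
  have h2 : algebraMap k R' c ∈ J := by
    have := J.sub_mem hxJ (hle hc)
    rwa [sub_sub_cancel] at this
  have h3 := J.mul_mem_left (algebraMap k R' c⁻¹) h2
  rwa [← map_mul, inv_mul_cancel₀ hc0, map_one] at h3

theorem aeval_system_sol {k R₀ B : Type u} [CommRing k] [CommRing R₀] [Algebra k R₀] [CommRing B] [Algebra k B]
    [Algebra R₀ B] [IsScalarTower k R₀ B] {s r t q : ℕ} (P : MvPolynomial (Fin s) k) (l : Fin t)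
    (b : (Fin s ⊕ Fin r) ⊕ ((Fin t × Fin r) ⊕ (Fin q × Fin r)) → B) :
    aeval b (rename (fun i => Sum.inl (Sum.inl i)) (map (algebraMap k R₀) P) -
        ∑ j : Fin r, (X (Sum.inr (Sum.inl (l, j))) * X (Sum.inl (Sum.inr j)) :
          MvPolynomial ((Fin s ⊕ Fin r) ⊕ ((Fin t × Fin r) ⊕ (Fin q × Fin r))) R₀)) =
      aeval (fun i => b (Sum.inl (Sum.inl i))) P -
        ∑ j, b (Sum.inr (Sum.inl (l, j))) * b (Sum.inl (Sum.inr j)) := by
  simp only [map_sub, map_sum, map_mul, aeval_X, aeval_rename, aeval_map_algebraMap]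
  rfl

theorem aeval_system_rel {R₀ B : Type u} [CommRing R₀] [CommRing B] [Algebra R₀ B]
    {s r t q : ℕ} (i : Fin q) (b : (Fin s ⊕ Fin r) ⊕ ((Fin t × Fin r) ⊕ (Fin q × Fin r)) → B) :
    aeval b (∑ j : Fin r, (X (Sum.inr (Sum.inr (i, j))) * X (Sum.inl (Sum.inr j)) :
          MvPolynomial ((Fin s ⊕ Fin r) ⊕ ((Fin t × Fin r) ⊕ (Fin q × Fin r))) R₀)) =
      ∑ j, b (Sum.inr (Sum.inr (i, j))) * b (Sum.inl (Sum.inr j)) := by
  simp only [map_sum, map_mul, aeval_X]

theorem mem_pow_smul_top_pi {T : Type u} [CommRing T] {r : ℕ} (I : Ideal T) (w : Fin r → T)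
    (hw : ∀ j, w j ∈ I) : w ∈ I • (⊤ : Submodule T (Fin r → T)) := by
  classical
  rw [pi_eq_sum_univ w]
  exact Submodule.sum_mem _ fun j _ => Submodule.smul_mem_smul (hw j) Submodule.mem_top

/-- The approximate system has the same filtration. -/
theorem filtration_eq_of_congr {T : Type u} [CommRing T] [IsNoetherianRing T] (mT : Ideal T)
    (hI : mT ≤ Ideal.jacobson (⊥ : Ideal T)) {r q : ℕ} (g : Fin r → T) (s : Fin q → Fin r → T)
    (hs : Submodule.span T (Set.range s) = LinearMap.ker (Fintype.linearCombination T g)) :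
    ∃ c₀ : ℕ, ∀ c, c₀ ≤ c → ∀ (g' : Fin r → T) (s' : Fin q → Fin r → T),
      (∀ i, ∑ j, s' i j * g' j = 0) → (∀ j, g j - g' j ∈ mT ^ (c + 1)) →
        (∀ i j, s i j - s' i j ∈ mT ^ (c + 1)) → ∀ n,
          mT ^ (n + 1) ⊔ (Ideal.span (Set.range g) ⊓ mT ^ n) =
            mT ^ (n + 1) ⊔ (Ideal.span (Set.range g') ⊓ mT ^ n) := by
  let gm := Fintype.linearCombination T g
  let fm := Fintype.linearCombination T s
  obtain ⟨c₁, hc₁⟩ := exists_artinRees_const mT fm
  obtain ⟨c₂, hc₂⟩ := exists_artinRees_const mT gm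
  refine ⟨max c₁ c₂, fun c hc g' s' hrel hg hss n => ?_⟩
  let gm' := Fintype.linearCombination T g'
  let fm' := Fintype.linearCombination T s'
  have hgf : gm.comp fm = 0 := LinearMap.ext fun x => by
    have h1 : fm x ∈ LinearMap.ker gm := hs.le (Fintype.range_linearCombination T s ▸ LinearMap.mem_range_self fm x)
    exact h1
  have hgf' : gm'.comp fm' = 0 := LinearMap.ext fun x => by
    show gm' (fm' x) = 0
    rw [show fm' x = ∑ i, x i • s' i from Fintype.linearCombination_apply T s' x, map_sum]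
    refine Finset.sum_eq_zero fun i _ => ?_
    rw [map_smul, show gm' (s' i) = ∑ j, s' i j • g' j from Fintype.linearCombination_apply T g' (s' i)]
    simp only [smul_eq_mul]
    rw [hrel i, mul_zero]
  have hex : Function.Exact fm gm := by
    rw [LinearMap.exact_iff, Fintype.range_linearCombination]
    exact hs.symm
  have key := Groth.Agent.S6910.result mT hI fm fm' gm gm' c hgf hgf' (hc₁ c ((le_max_left _ _).trans hc))
    (hc₂ c ((le_max_right _ _).trans hc)) hex (fun x => by
      rw [Fintype.linearCombination_apply, Fintype.linearCombination_apply, ← Finset.sum_sub_distrib]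
      refine Submodule.sum_mem _ fun i _ => ?_
      rw [← smul_sub]
      exact Submodule.smul_mem _ _ (mem_pow_smul_top_pi _ _ fun j => hss i j))
    (fun y => by
      rw [Fintype.linearCombination_apply, Fintype.linearCombination_apply, ← Finset.sum_sub_distrib,
        smul_eq_mul, Ideal.mul_top]
      refine Submodule.sum_mem _ fun j _ => ?_
      rw [← smul_sub, smul_eq_mul]
      exact Ideal.mul_mem_left _ _ (hg j)) n
  simp only [gm, gm', Fintype.range_linearCombination, smul_eq_mul, Ideal.mul_top] at key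
  exact key

theorem exists_algebraization_data (k : Type u) [Field k] (R : Type u) [CommRing R] [Algebra k R] [IsLocalRing R]
    [IsNoetherianRing R] [IsAdicComplete (maximalIdeal R) R]
    (hres : Function.Surjective (fun c : k => residue R (algebraMap k R c)))
    (D : Type u) [CommRing D] [Algebra k D] [Algebra.FinitePresentation k D] (v : D →ₐ[k] R) (N : ℕ) :
    ∃ (A : Type u) (_ : CommRing A) (_ : Algebra k A) (_ : Algebra.FiniteType k A)
      (m : Ideal A) (_ : m.IsMaximal)
      (_ : Function.Surjective (fun c : k => Ideal.Quotient.mk m (algebraMap k A c)))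
      (ν : D →ₐ[k] A) (φ : (R ⧸ maximalIdeal R ^ (N + 1)) ≃ₐ[k] (A ⧸ m ^ (N + 1))),
      (∀ d, φ (Ideal.Quotient.mk _ (v d)) = Ideal.Quotient.mk _ (ν d)) ∧
      ∃ e : AssocGr.GrRing (FiltBl.IdealFiltration.adic (maximalIdeal R)) ≃+*
          AssocGr.GrRing (FiltBl.IdealFiltration.adic m),
        (∀ (n : ℕ) (x : AssocGr.GrRing (FiltBl.IdealFiltration.adic (maximalIdeal R))),
            x ∈ AssocGr.gr (FiltBl.IdealFiltration.adic (maximalIdeal R)) n →
              e x ∈ AssocGr.gr (FiltBl.IdealFiltration.adic m) n) ∧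
        (∀ c : k, e (algebraMap R _ (algebraMap k R c)) = algebraMap A _ (algebraMap k A c)) := by
  obtain ⟨n, θ₀, hθ₀, hθC, hθm⟩ := exists_presentation k R hres
  let R₀ := MvPolynomial (Fin n) k
  let p : Ideal R₀ := RingHom.ker (constantCoeff (σ := Fin n) (R := k))
  let Rp := Localization.AtPrime p
  let T := AdicCompletion (maximalIdeal Rp) Rp
  let mT : Ideal T := (maximalIdeal Rp).map (algebraMap Rp T)
  haveI : IsNoetherianRing T := CAlg1.isNoetherianRing_adicCompletion _ (IsNoetherian.noetherian _)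
  haveI : IsAdicComplete mT T :=
    (IsAdicComplete.map_algebraMap_iff _ _).mpr (AdicCompletion.isAdicComplete (IsNoetherian.noetherian _))
  have hI : mT ≤ Ideal.jacobson (⊥ : Ideal T) := IsAdicComplete.le_jacobson_bot mT
  haveI : IsScalarTower k R₀ T := inferInstance
  haveI : IsScalarTower R₀ Rp T := inferInstance
  have hcomm : ∀ c : k, θ₀ (algebraMap k T c) = algebraMap k R c := fun c => by
    rw [IsScalarTower.algebraMap_apply k R₀ T, IsScalarTower.algebraMap_apply R₀ Rp T]
    exact hθC c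
  let θ : T →ₐ[k] R := AlgHom.mk θ₀ hcomm
  have hθ : Function.Surjective θ := hθ₀
  have hθm' : mT.map θ = maximalIdeal R := hθm
  -- generators, relations, and the system
  obtain ⟨s, f, hf, hfk⟩ := (inferInstance : Algebra.FinitePresentation k D).out
  obtain ⟨t, P, hP⟩ := Submodule.fg_iff_exists_fin_generating_family.1 hfk
  obtain ⟨r, g, hg⟩ := Submodule.fg_iff_exists_fin_generating_family.1 (IsNoetherian.noetherian (RingHom.ker θ))
  obtain ⟨q, S, hS⟩ := Submodule.fg_iff_exists_fin_generating_family.1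
    (IsNoetherian.noetherian (LinearMap.ker (Fintype.linearCombination T g)))
  choose a ha using fun i : Fin s => hθ (v (f (X i)))
  have haP : ∀ P', θ (aeval a P') = v (f P') := fun P' => by
    rw [← AlgHom.comp_apply, ← AlgHom.comp_apply]
    exact congr($(MvPolynomial.algHom_ext (f := θ.comp (aeval a)) (g := v.comp f) fun i => by
      rw [AlgHom.comp_apply, aeval_X, AlgHom.comp_apply, ha]) P')
  have hl : ∀ l : Fin t, ∃ h : Fin r → T, ∑ j, h j * g j = aeval a (P l) := fun l => by
    have h1 : aeval a (P l) ∈ Submodule.span T (Set.range g) := hg ▸ (show θ (aeval a (P l)) = 0 by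
      rw [haP, show f (P l) = 0 from hP.le (Submodule.subset_span ⟨l, rfl⟩), map_zero])
    exact (Submodule.mem_span_range_iff_exists_fun T).1 h1
  choose h hh using hl
  have hSg : ∀ i, ∑ j, S i j * g j = 0 := fun i => hS.le (Submodule.subset_span ⟨i, rfl⟩)
  obtain ⟨c₀, hc₀⟩ := filtration_eq_of_congr mT hI g S hS
  let V := (Fin s ⊕ Fin r) ⊕ ((Fin t × Fin r) ⊕ (Fin q × Fin r))
  let sys : Fin t ⊕ Fin q → MvPolynomial V R₀ := Sum.elim
    (fun l => rename (fun i => Sum.inl (Sum.inl i)) (map (algebraMap k R₀) (P l)) -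
      ∑ j : Fin r, X (Sum.inr (Sum.inl (l, j))) * X (Sum.inl (Sum.inr j)))
    (fun i => ∑ j : Fin r, X (Sum.inr (Sum.inr (i, j))) * X (Sum.inl (Sum.inr j)))
  let sol : V → T := Sum.elim (Sum.elim a g) (Sum.elim (fun w => h w.1 w.2) (fun w => S w.1 w.2))
  haveI : IsAdicComplete (maximalIdeal k) k := by
    rw [IsLocalRing.isField_iff_maximalIdeal_eq.1 (Field.toIsField k)]
    infer_instance
  have hG : CAlg.IsGRing Rp := EGA4H10.isGRing_localization
    (EGA4H10.isGRing_of_finiteType_gRing k (EGA4H10.isGRing_of_complete k) R₀) p.primeCompl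
  have hsol : ∀ w, aeval sol (sys w) = 0 := by
    rintro (l | i)
    · exact (aeval_system_sol (P l) l sol).trans (sub_eq_zero.2 (hh l).symm)
    · exact (aeval_system_rel i sol).trans (hSg i)
  obtain ⟨R', _, _, hEt, ψ₀, p', hp', hcomap₀, hres₀, hψp, b, hb, hab⟩ :=
    exists_etale_solution_fintype p hG sys sol hsol (max (c₀ + 1) (N + 1))
  haveI := hEt
  letI : Algebra k R' := ((algebraMap R₀ R').comp (algebraMap k R₀)).toAlgebra
  haveI : IsScalarTower k R₀ R' := IsScalarTower.of_algebraMap_eq fun _ => rfl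
  haveI : Algebra.FiniteType k R' := Algebra.FiniteType.trans (inferInstance : Algebra.FiniteType k R₀) inferInstance
  let ψ : R' →ₐ[k] T := ψ₀.restrictScalars k
  have hcomap : ∀ j, (mT ^ j).comap ψ = p' ^ j := fun j =>
    comap_completion_pow p ψ₀.toRingHom (fun x => (ψ₀.commutes x).trans (IsScalarTower.algebraMap_apply R₀ Rp T x))
      p' hψp hcomap₀ hres₀ j
  have hdense : ∀ j y, ∃ x, y - ψ x ∈ mT ^ j := fun j y => by
    obtain ⟨x, hx⟩ := exists_sub_mem_completion p j y
    refine ⟨algebraMap R₀ R' x, ?_⟩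
    show y - ψ₀ (algebraMap R₀ R' x) ∈ _
    rw [AlgHom.commutes, IsScalarTower.algebraMap_apply R₀ Rp T]
    exact hx
  have hle : ∀ i j, j ≤ max (c₀ + 1) (N + 1) → sol i - ψ (b i) ∈ mT ^ j := fun i j hj => by
    refine Ideal.pow_le_pow_right hj ?_
    have := hab i
    rwa [Ideal.map_pow] at this
  let g' : Fin r → R' := fun j => b (Sum.inl (Sum.inr j))
  let a' : Fin s → R' := fun i => b (Sum.inl (Sum.inl i))
  have hrel : ∀ i, ∑ j, ψ (b (Sum.inr (Sum.inr (i, j)))) * ψ (g' j) = 0 := fun i => by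
    have h1 := congrArg ψ ((aeval_system_rel i b).symm.trans (hb (Sum.inr i)))
    rw [map_sum, map_zero] at h1
    simpa only [map_mul] using h1
  have hfilt : ∀ j, mT ^ (j + 1) ⊔ (RingHom.ker θ ⊓ mT ^ j) =
      mT ^ (j + 1) ⊔ (Ideal.span (Set.range fun i => ψ (g' i)) ⊓ mT ^ j) := by
    rw [show RingHom.ker θ = Ideal.span (Set.range g) from hg.symm]
    exact hc₀ c₀ le_rfl _ (fun i j => ψ (b (Sum.inr (Sum.inr (i, j))))) hrel
      (fun j => hle (Sum.inl (Sum.inr j)) _ (le_max_left _ _))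
      (fun i j => hle (Sum.inr (Sum.inr (i, j))) _ (le_max_left _ _))
  have hker : mT ^ (N + 1) ⊔ Ideal.span (Set.range fun i => ψ (g' i)) = mT ^ (N + 1) ⊔ RingHom.ker θ := by
    rw [show RingHom.ker θ = Ideal.span (Set.range g) from hg.symm]
    refine le_antisymm (sup_le le_sup_left (Ideal.span_le.2 ?_)) (sup_le le_sup_left (Ideal.span_le.2 ?_))
    · rintro _ ⟨j, rfl⟩
      show ψ (g' j) ∈ _
      rw [show ψ (g' j) = -(g j - ψ (g' j)) + g j by abel]
      exact add_mem (Submodule.mem_sup_left (neg_mem (hle (Sum.inl (Sum.inr j)) _ (le_max_right _ _))))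
        (Submodule.mem_sup_right (Ideal.subset_span (Set.mem_range_self j)))
    · rintro _ ⟨j, rfl⟩
      rw [SetLike.mem_coe, show g j = (g j - ψ (g' j)) + ψ (g' j) by abel]
      exact add_mem (Submodule.mem_sup_left (hle (Sum.inl (Sum.inr j)) _ (le_max_right _ _)))
        (Submodule.mem_sup_right (Ideal.subset_span ⟨j, rfl⟩))
  obtain ⟨φ, hφ⟩ := exists_truncation_equiv θ mT ψ p' g' N hθ hθm' hcomap hdense hker
  obtain ⟨e, he, hec⟩ := exists_graded_equiv θ mT ψ p' g' hθ hθm' hcomap hdense hfilt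
  let J : Ideal R' := Ideal.span (Set.range g')
  have hgp : J ≤ p' := by
    rw [Ideal.span_le]
    rintro _ ⟨j, rfl⟩
    rw [SetLike.mem_coe, ← pow_one p', ← hcomap, Ideal.mem_comap, pow_one]
    have hgm : g j ∈ mT := by
      by_contra hc
      obtain ⟨c, hc'⟩ : ∃ c : k, g j - algebraMap k T c ∈ mT := by
        obtain ⟨x, hx⟩ := hdense 1 (g j)
        obtain ⟨c, hc'⟩ := residue_surjective_of_point p' hcomap₀ hres₀ x
        refine ⟨c, ?_⟩
        rw [← pow_one p', ← hcomap, Ideal.mem_comap, pow_one, map_sub, AlgHom.commutes] at hc'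
        rw [pow_one] at hx
        simpa using add_mem hx hc'
      have h0 : θ (g j) = 0 := hg.le (Submodule.subset_span ⟨j, rfl⟩)
      have h1 := Ideal.mem_map_of_mem θ hc'
      rw [hθm', map_sub, h0, zero_sub, neg_mem_iff, AlgHom.commutes] at h1
      have hc0 : c = 0 := by_contra fun hne =>
        (maximalIdeal.isMaximal R).ne_top (Ideal.eq_top_of_isUnit_mem _ h1 ((isUnit_iff_ne_zero.2 hne).map _))
      rw [hc0, map_zero, sub_zero] at hc'
      exact hc hc'
    have h2 := hle (Sum.inl (Sum.inr j)) 1 (le_trans (Nat.le_add_left 1 c₀) (le_max_left _ _))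
    rw [pow_one] at h2
    show ψ (g' j) ∈ mT
    have h3 := sub_mem hgm h2
    rwa [show sol (Sum.inl (Sum.inr j)) = g j from rfl, sub_sub_cancel] at h3
  have hresk : ∀ x : R', ∃ c : k, x - algebraMap k R' c ∈ p' := residue_surjective_of_point p' hcomap₀ hres₀
  haveI : p'.IsMaximal := isMaximal_of_residue p' hp'.ne_top hresk
  have hm : (p'.map (Ideal.Quotient.mk J)).IsMaximal :=
    Ideal.IsMaximal.map_of_surjective_of_ker_le Ideal.Quotient.mk_surjective (by rw [Ideal.mk_ker]; exact hgp)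
  let ν₀ : MvPolynomial (Fin s) k →ₐ[k] R' ⧸ J := (Ideal.Quotient.mkₐ k J).comp (aeval a')
  have hν₀ : RingHom.ker f ≤ RingHom.ker ν₀ := by
    refine hP.ge.trans (Submodule.span_le.2 ?_)
    rintro _ ⟨l, rfl⟩
    show Ideal.Quotient.mk J (aeval a' (P l)) = 0
    have h1 := (aeval_system_sol (P l) l b).symm.trans (hb (Sum.inl l))
    rw [Ideal.Quotient.eq_zero_iff_mem, sub_eq_zero.1 h1]
    exact Submodule.sum_mem _ fun j _ => Ideal.mul_mem_left _ _ (Ideal.subset_span ⟨j, rfl⟩)
  let ν : D →ₐ[k] R' ⧸ J := (Ideal.Quotient.liftₐ (RingHom.ker f) ν₀ fun x hx => hν₀ hx).comp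
    (Ideal.quotientKerAlgEquivOfSurjective hf).symm.toAlgHom
  have hν : ∀ P', ν (f P') = Ideal.Quotient.mk J (aeval a' P') := fun P' => by
    show Ideal.Quotient.liftₐ (RingHom.ker f) ν₀ (fun x hx => hν₀ hx) ((Ideal.quotientKerAlgEquivOfSurjective hf).symm (f P')) = _
    rw [Ideal.quotientKerAlgEquivOfSurjective_symm_apply]
    rfl
  refine ⟨R' ⧸ J, inferInstance, inferInstance,
    Algebra.FiniteType.of_surjective (Ideal.Quotient.mkₐ k J) Ideal.Quotient.mk_surjective,
    p'.map (Ideal.Quotient.mk J), hm, fun y => ?_, ν, φ, fun d => ?_, e, he, hec⟩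
  · obtain ⟨y, rfl⟩ := Ideal.Quotient.mk_surjective y
    obtain ⟨y, rfl⟩ := Ideal.Quotient.mk_surjective y
    obtain ⟨c, hc⟩ := hresk y
    refine ⟨c, (Ideal.Quotient.eq.2 ?_).symm⟩
    have h1 := Ideal.mem_map_of_mem (Ideal.Quotient.mk J) hc
    rw [map_sub] at h1
    exact h1
  · obtain ⟨P', rfl⟩ := hf d
    rw [hν, ← haP, ← hφ]
    refine congrArg φ (Ideal.Quotient.eq.2 ?_)
    rw [← map_sub, ← hθm', ← Ideal.map_pow]
    refine Ideal.mem_map_of_mem θ ?_
    have h1 : ∀ i, a i - ψ (a' i) ∈ mT ^ (N + 1) := fun i => hle (Sum.inl (Sum.inl i)) _ (le_max_right _ _)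
    rw [← Ideal.Quotient.eq]
    exact congr($(MvPolynomial.algHom_ext (f := (Ideal.Quotient.mkₐ k (mT ^ (N + 1))).comp (aeval a))
      (g := (Ideal.Quotient.mkₐ k (mT ^ (N + 1))).comp (ψ.comp (aeval a'))) fun i => by
        simp only [AlgHom.comp_apply, aeval_X]
        exact Ideal.Quotient.eq.2 (h1 i)) P')

end Groth.Agent.CAlg1.Pop
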