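import Groth.Agent.CAlg1.Pop.Core

/-!
Resolving over an infinite field of positive characteristic.
-/

set_option autoImplicit false
universe u

open TensorProduct IsLocalRing

namespace Groth.Agent.CAlg1.Pop

theorem stable_quotient {M : Type u} [CommRing M] {ι : Type*} (π : ι → M) (e c : ℕ) (hc : 0 < c) (p₀ : M)
    (h : ∀ z, p₀ ^ 2 * z ∈ Ideal.span (Set.range fun j => π j ^ e) →
      p₀ * z ∈ Ideal.span (Set.range fun j => π j ^ e))
    (J : Ideal M) (hJ : J = Ideal.span (Set.range fun j => π j ^ e))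
    (x : M ⧸ J) (hx : Ideal.Quotient.mk J (p₀ ^ c) ^ 2 * x = 0) : Ideal.Quotient.mk J (p₀ ^ c) * x = 0 := by
  subst hJ
  have h2 : ∀ y : M ⧸ Ideal.span (Set.range fun j => π j ^ e),
      Ideal.Quotient.mk _ p₀ ^ 2 * y = 0 → Ideal.Quotient.mk _ p₀ * y = 0 := by
    intro y hy
    obtain ⟨y, rfl⟩ := Ideal.Quotient.mk_surjective y
    rw [← map_pow, ← map_mul, Ideal.Quotient.eq_zero_iff_mem] at hy
    rw [← map_mul, Ideal.Quotient.eq_zero_iff_mem]
    exact h y hy
  rw [map_pow, ← pow_mul] at hx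
  have h1 := pow_cancel _ p₀ h2 (c * 2) (by omega) x hx
  obtain ⟨c', rfl⟩ : ∃ c', c = c' + 1 := ⟨c - 1, by omega⟩
  rw [map_pow, pow_succ, mul_assoc, h1, mul_zero]

set_option maxHeartbeats 1600000 in
theorem resolvable_infinite_charP {k A Λ : Type u} [Field k] [Infinite k] (p : ℕ) [Fact p.Prime] [CharP k p]
    [CommRing A] [Algebra k A] [Algebra.FinitePresentation k A] [CommRing Λ] [Algebra k Λ]
    [IsNoetherianRing Λ] (φ : A →ₐ[k] Λ) (q : Ideal Λ) [q.IsPrime]
    (hmin : q ∈ (Smoothing.singRad k φ).minimalPrimes) [IsRegularLocalRing (Localization.AtPrime q)]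
    (hfs : CAlgX.IsAdicFormallySmooth k (Localization.AtPrime q) (maximalIdeal (Localization.AtPrime q)))
    {d : ℕ} (hd : ringKrullDim (Localization.AtPrime q) = d) (hdpos : 0 < d) :
    Smoothing.Resolvable k φ q := by
  classical
  let L := Localization.AtPrime q
  haveI : IsNoetherianRing A := Algebra.FiniteType.isNoetherianRing k A
  obtain ⟨s, a, ha⟩ := Submodule.fg_iff_exists_fin_generating_family.1
    (IsNoetherian.noetherian (Smoothing.singularIdeal k A))
  have haI : ∀ j, a j ∈ Smoothing.singularIdeal k A := fun j => ha ▸ Submodule.subset_span ⟨j, rfl⟩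
  set H : Ideal Λ := (Smoothing.singularIdeal k A).map φ with hH
  set I : Ideal Λ := Smoothing.singRad k φ with hI
  obtain ⟨m, hm⟩ := H.exists_radical_pow_le_of_fg (IsNoetherian.noetherian _)
  have hpow : q.map (algebraMap Λ L) ≤ I.map (algebraMap Λ L) := by
    have hrad : (I.map (algebraMap Λ L)).radical = I.map (algebraMap Λ L) := by
      rw [← IsLocalization.map_radical q.primeCompl L]
      congr 1
      exact Ideal.radical_idem H
    rw [← hrad, Ideal.radical_eq_sInf]
    refine le_sInf ?_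
    rintro Q ⟨hIQ, hQ⟩
    haveI := hQ
    have h1 : Q.comap (algebraMap Λ L) ≤ q := by
      refine le_trans ?_ (Localization.AtPrime.comap_maximalIdeal (I := q)).le
      exact Ideal.comap_mono (IsLocalRing.le_maximalIdeal hQ.ne_top)
    have h2 : I ≤ Q.comap (algebraMap Λ L) := Ideal.map_le_iff_le_comap.1 hIQ
    exact Ideal.map_le_iff_le_comap.2 (hmin.2 ⟨inferInstance, h2⟩ h1)
  obtain ⟨f, hf, hfI⟩ := exists_mul_mem q I q.fg_of_isNoetherianRing hpow
  -- the universal algebra
  obtain ⟨C, _, _, hCfp, α, hα, hαsing, ⟨c, hc, hstd⟩, Ψ, hΨ, hΨnat⟩ :=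
    exists_universal_natural (k := k) d a haI m
  haveI := hCfp
  let e : ℕ := 8 * c
  let n : ℕ := d * e + 2
  obtain ⟨G, hG⟩ := (inferInstance : Algebra.FiniteType k A).out
  -- the model
  obtain ⟨Q, _, _, _, x, jQ, R₀, _, _, φ₀, ι₀, hdQ, hx, hjflat, hjmax, hE, hR₀, hι₀flat, hι₀k, hι₀comp⟩ :=
    exists_smooth_model p q hfs hd hdpos n (by omega) (G.image fun y => algebraMap Λ L (φ y))
  haveI := hR₀
  obtain ⟨R, _, _, φR, π, ι, hR, hιflat, hιk, hιcomp, hassoc, hπI, hsR, hsΛ⟩ :=
    exists_tower q hdQ x hx jQ.toRingHom hjflat (fun i => hjmax.le (Ideal.mem_map_of_mem _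
      (hx ▸ Ideal.subset_span ⟨i, rfl⟩))) I f hf hfI e (by omega) R₀ φ₀ ι₀ hι₀flat hι₀k hι₀comp
  haveI := hR
  haveI : IsNoetherianRing R := Algebra.FiniteType.isNoetherianRing k R
  have hl : ∀ i, ∃ l : Fin s → Λ, φR (π i) ^ m = ∑ j, φ (a j) * l j := by
    intro i
    have h1 : φR (π i) ^ m ∈ H := hm (Ideal.pow_mem_pow (hπI i) m)
    rw [hH, ← ha, Ideal.map_span, ← Set.range_comp, Ideal.mem_span_range_iff_exists_fun] at h1
    obtain ⟨l, hl⟩ := h1
    exact ⟨l, hl.symm.trans (Finset.sum_congr rfl fun j _ => mul_comm _ _)⟩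
  choose l hl using hl
  -- structures over the polynomial ring
  letI : Algebra (MvPolynomial (Fin d) k) R := (MvPolynomial.aeval (R := k) π).toRingHom.toAlgebra
  have hPR : ∀ z, algebraMap (MvPolynomial (Fin d) k) R z = MvPolynomial.aeval π z := fun _ => rfl
  letI : Algebra R Λ := φR.toRingHom.toAlgebra
  have hRΛ : ∀ r, algebraMap R Λ r = φR r := fun _ => rfl
  haveI : IsScalarTower k R Λ := IsScalarTower.of_algebraMap_eq fun r => (φR.commutes r).symm
  letI : Algebra (MvPolynomial (Fin d) k) Λ :=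
    ((algebraMap R Λ).comp (algebraMap (MvPolynomial (Fin d) k) R)).toAlgebra
  haveI : IsScalarTower (MvPolynomial (Fin d) k) R Λ := IsScalarTower.of_algebraMap_eq fun _ => rfl
  let ψ : C →+* Λ := Ψ Λ φ.toRingHom (fun i => φR (π i)) l hl
  obtain ⟨hψα, hψX⟩ := hΨ Λ φ.toRingHom (fun i => φR (π i)) l hl
  have hψP : ψ.comp (algebraMap (MvPolynomial (Fin d) k) C) = algebraMap (MvPolynomial (Fin d) k) Λ := by
    refine MvPolynomial.ringHom_ext (fun r => ?_) fun i => ?_
    · rw [RingHom.comp_apply, ← hα, ← RingHom.comp_apply, hψα]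
      show φ (algebraMap k A r) = φR (algebraMap _ R (MvPolynomial.C r))
      rw [hPR, MvPolynomial.aeval_C, AlgHom.commutes, AlgHom.commutes]
    · rw [RingHom.comp_apply, hψX]
      show φR (π i) = φR (algebraMap _ R (MvPolynomial.X i))
      rw [hPR, MvPolynomial.aeval_X]
  let ψC : C →ₐ[MvPolynomial (Fin d) k] Λ := { ψ with commutes' := RingHom.congr_fun hψP }
  let ψR : R ⊗[MvPolynomial (Fin d) k] C →ₐ[R] Λ :=
    Algebra.TensorProduct.lift (Algebra.ofId R Λ) ψC (fun _ _ => Commute.all _ _)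
  have hψR : ∀ z : C, ψR (1 ⊗ₜ z) = ψ z := fun z => by
    rw [Algebra.TensorProduct.lift_tmul, map_one, one_mul]; rfl
  suffices hres : Smoothing.Resolvable R ψR q by
    obtain ⟨B, _, _, hB, g, h, hgh, hle, hnle⟩ := hres
    letI : Algebra k B := ((algebraMap R B).comp (algebraMap k R)).toAlgebra
    haveI : IsScalarTower k R B := IsScalarTower.of_algebraMap_eq fun _ => rfl
    haveI : Algebra.FinitePresentation k B := Algebra.FinitePresentation.trans k R B
    let g' : A →ₐ[k] B :=
      { (g.toRingHom.comp (Algebra.TensorProduct.includeRight : C →ₐ[MvPolynomial (Fin d) k] R ⊗[MvPolynomial (Fin d) k] C).toRingHom).comp α with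
        commutes' := fun r => by
          show g ((1 : R) ⊗ₜ[MvPolynomial (Fin d) k] α (algebraMap k A r)) = algebraMap k B r
          rw [hα, Algebra.TensorProduct.tmul_one_eq_one_tmul (R := MvPolynomial (Fin d) k)
            (A := R) (B := C) (MvPolynomial.C r) |>.symm, ← Algebra.algebraMap_self_apply
              (algebraMap (MvPolynomial (Fin d) k) R (MvPolynomial.C r)),
            ← Algebra.TensorProduct.algebraMap_apply, AlgHom.commutes, hPR, MvPolynomial.aeval_C]
          rfl }
    have hsub : Smoothing.singularIdeal R B ≤ Smoothing.singularIdeal k B := by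
      intro b hb
      haveI := Smooth28.smooth_away_of_mem_singularIdeal hb
      haveI : Algebra.FormallySmooth k (Localization.Away b) :=
        Algebra.FormallySmooth.comp k R (Localization.Away b)
      exact Smooth28.mem_singularIdeal_of_formallySmooth_away b
    have h1 : Smoothing.singRad R h ≤ Smoothing.singRad k (h.restrictScalars k) :=
      Ideal.radical_mono (Ideal.map_mono hsub)
    refine ⟨B, inferInstance, inferInstance, inferInstance, g', h.restrictScalars k,
      AlgHom.ext fun y => ?_, le_trans ?_ (hle.trans h1), fun hq => hnle (h1.trans hq)⟩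
    · show h (g ((1 : R) ⊗ₜ[MvPolynomial (Fin d) k] α y)) = φ y
      rw [show h (g ((1 : R) ⊗ₜ[MvPolynomial (Fin d) k] α y)) = ψR (1 ⊗ₜ α y) from DFunLike.congr_fun hgh _,
        hψR, ← RingHom.comp_apply, hψα]
      rfl
    · refine Ideal.radical_mono ?_
      rw [← ha, Ideal.map_span, Ideal.span_le]
      rintro _ ⟨_, ⟨j, rfl⟩, rfl⟩
      have h2 : ψR (1 ⊗ₜ α (a j)) ∈ (Smoothing.singularIdeal R (R ⊗[MvPolynomial (Fin d) k] C)).map ψR :=
        Ideal.mem_map_of_mem _ (mem_singularIdeal_baseChange (hαsing j))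
      rwa [hψR, ← RingHom.comp_apply, hψα] at h2
  -- desingularisation modulo eighth powers
  let π' : Fin d → R := fun i => π i ^ c
  let K : Ideal R := Ideal.span (Set.range fun i => π' i ^ 8)
  have hπe : ∀ i, π' i ^ 8 = π i ^ e := fun i => by simp only [π', e, ← pow_mul, mul_comm c 8]
  have hKe : K = Ideal.span (Set.range fun i => π i ^ e) := by simp only [K, hπe]
  have hπq : ∀ i, φR (π i) ∈ q := fun i => hmin.1.2 (hπI i)
  let φK : (R ⊗[MvPolynomial (Fin d) k] C ⧸ K.map (algebraMap R (R ⊗[MvPolynomial (Fin d) k] C))) →ₐ[R ⧸ K]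
      (Λ ⧸ K.map (algebraMap R Λ)) :=
    { toRingHom := Ideal.quotientMap _ ψR.toRingHom (by
        rw [Ideal.map_le_iff_le_comap, Ideal.comap_comap, show ψR.toRingHom.comp
          (algebraMap R (R ⊗[MvPolynomial (Fin d) k] C)) = algebraMap R Λ from RingHom.ext ψR.commutes,
          ← Ideal.map_le_iff_le_comap])
      commutes' := fun r => by
        obtain ⟨r, rfl⟩ := Ideal.Quotient.mk_surjective r
        show Ideal.Quotient.mk _ (ψR (algebraMap R _ r)) = Ideal.Quotient.mk _ (algebraMap R Λ r)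
        rw [AlgHom.commutes] }
  refine Groth.Agent.S6822.result ψR q hdpos π' (fun i => ?_) (fun i z hz => ?_) (fun i z hz => ?_)
    (fun i => ?_) K rfl φK (fun _ => rfl) ?_
  · rw [hRΛ]
    simp only [π', map_pow]
    exact Ideal.pow_mem_of_mem _ (hπq i) c hc
  · refine stable_quotient (fun j : {j : Fin d // (j : ℕ) < (i : ℕ)} => π j) e c hc (π i) (hsR i) _ ?_ z hz
    simp only [hπe]
  · revert z hz
    rw [show algebraMap R Λ (π' i) = φR (π i) ^ c by simp only [hRΛ, π', map_pow]]
    intro z hz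
    refine stable_quotient (fun j : {j : Fin d // (j : ℕ) < (i : ℕ)} => φR (π j)) e c hc (φR (π i)) (hsΛ i) _ ?_ z hz
    congr 2
    funext j
    simp only [← map_pow, hπe, hRΛ]
  · have h1 := (Groth.Agent.S6829.result (R' := R) (algebraMap (MvPolynomial (Fin d) k) C (MvPolynomial.X i ^ c))).2 (hstd i)
    rwa [← Algebra.TensorProduct.tmul_one_eq_one_tmul, ← Algebra.algebraMap_self_apply
      (algebraMap (MvPolynomial (Fin d) k) R (MvPolynomial.X i ^ c)), ← Algebra.TensorProduct.algebraMap_apply,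
      hPR, map_pow, MvPolynomial.aeval_X] at h1
  · refine resolvable_quotient q x jQ hjflat hjmax hx φR π ι hιk hιcomp hassoc e (by omega) φ (G : Set A) hG
      (fun y hy => ?_) a m l hl α hα Ψ hΨ hΨnat hPR hRΛ K hKe φK fun z => ?_
    · obtain ⟨w, hw⟩ := hE _ (Finset.mem_image.2 ⟨y, hy, rfl⟩)
      refine ⟨w, ?_⟩
      have h1 : maximalIdeal L ^ n ≤ (Ideal.span (Set.range fun i => x i ^ e)).map jQ.toRingHom := by
        rw [Ideal.map_span, ← Set.range_comp, ← hjmax, ← hx, Ideal.map_span, ← Set.range_comp]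
        have h2 := span_pow_le (Finset.univ : Finset (Fin d)) (fun i => jQ (x i)) e
        simp only [Finset.coe_univ, Set.image_univ, Finset.card_univ, Fintype.card_fin] at h2
        refine (Ideal.pow_le_pow_right (show d * e + 1 ≤ n by omega)).trans (h2.trans_eq ?_)
        congr 2
        funext i
        exact (map_pow jQ (x i) e).symm
      exact h1 hw
    · show Ideal.Quotient.mk _ (ψR (1 ⊗ₜ z)) = _
      rw [hψR]

end Groth.Agent.CAlg1.Pop
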