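import Groth.Prelude
import Groth.Agent.Smooth28.Singular
import Groth.Agent.S2022
import Groth.Agent.S2029
import Groth.Agent.S19959
import Groth.Agent.CAlg5.RegularHom
import Groth.Agent.EGA4H10.GRingLoc

/-!
# Popescu's theorem from the resolution of problems over fields
-/

set_option autoImplicit false
universe u

open TensorProduct

namespace Groth.Agent.CAlg1.Pop

variable {R A Λ : Type u} [CommRing R] [CommRing A] [Algebra R A] [CommRing Λ] [Algebra R Λ]

/-- A map from an algebra whose extended singular ideal is trivial factors through a smooth algebra. -/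
theorem exists_smooth_factor_of_singRad_eq_top [Algebra.FinitePresentation R A] (φ : A →ₐ[R] Λ)
    (h : Smoothing.singRad R φ = ⊤) :
    ∃ (B : Type u) (_ : CommRing B) (_ : Algebra R B), Algebra.Smooth R B ∧
      ∃ (g : A →ₐ[R] B) (k : B →ₐ[R] Λ), k.comp g = φ := by
  rw [Smoothing.singRad, Ideal.radical_eq_top, Ideal.eq_top_iff_one, Ideal.map,
    Submodule.mem_span_set'] at h
  obtain ⟨r, l, g, hsum⟩ := h
  choose a ha hga using fun i => (g i).2
  simp only [smul_eq_mul] at hsum
  let P := MvPolynomial (Fin r) A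
  let p : P := (∑ i, MvPolynomial.C (a i) * MvPolynomial.X i) - 1
  let B := P ⧸ Ideal.span {p}
  haveI hfpAB : Algebra.FinitePresentation A B :=
    Algebra.FinitePresentation.quotient (Submodule.fg_span_singleton p)
  haveI : Algebra.FinitePresentation R B := Algebra.FinitePresentation.trans R A B
  -- `B` is formally smooth over `A`
  haveI hfs : Algebra.FormallySmooth A B := by
    refine Algebra.FormallySmooth.iff_comp_surjective.2 fun C _ _ N hN f => ?_
    choose x hx using fun i => Ideal.Quotient.mk_surjective (f (Ideal.Quotient.mk _ (MvPolynomial.X i)))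
    let e : C := (∑ i, algebraMap A C (a i) * x i) - 1
    have heN : e ∈ N := by
      rw [← Ideal.Quotient.eq_zero_iff_mem]
      simp only [e, map_sub, map_sum, map_mul, map_one, hx]
      have : f (Ideal.Quotient.mk _ p) = 0 := by
        rw [Ideal.Quotient.eq_zero_iff_mem.2 (Ideal.mem_span_singleton_self p), map_zero]
      simp only [p, map_sub, map_sum, map_mul, map_one] at this
      rw [← this]
      congr 1
      refine Finset.sum_congr rfl fun i _ => ?_
      congr 1
      exact ((f.commutes (a i)).trans (Ideal.Quotient.mk_algebraMap A N (a i)).symm).symm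
    have hee : e * e = 0 := by
      have h2 : e * e ∈ N ^ 2 := by rw [pow_two]; exact Ideal.mul_mem_mul heN heN
      rwa [hN, Ideal.mem_bot] at h2
    let y : Fin r → C := fun i => x i - e * x i
    have hy : ∑ i, algebraMap A C (a i) * y i = 1 := by
      have h1 : ∑ i, algebraMap A C (a i) * y i =
          (∑ i, algebraMap A C (a i) * x i) - e * ∑ i, algebraMap A C (a i) * x i := by
        rw [Finset.mul_sum, ← Finset.sum_sub_distrib]
        exact Finset.sum_congr rfl fun i _ => by simp only [y]; ring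
      rw [h1, show (∑ i, algebraMap A C (a i) * x i) = e + 1 by simp [e]]
      linear_combination (-1 : C) * hee
    refine ⟨Ideal.Quotient.liftₐ _ (MvPolynomial.aeval y) (fun z hz => ?_), ?_⟩
    · obtain ⟨w, rfl⟩ := Ideal.mem_span_singleton'.1 hz
      have hp : MvPolynomial.aeval y p = 0 := by
        show MvPolynomial.eval₂Hom (algebraMap A C) y p = 0
        simp only [p, map_sub, map_sum, map_mul, map_one, MvPolynomial.eval₂Hom_C,
          MvPolynomial.eval₂Hom_X', hy, sub_self]
      rw [map_mul, hp, mul_zero]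
    · refine Ideal.Quotient.algHom_ext _ (MvPolynomial.algHom_ext fun i => ?_)
      simp only [AlgHom.comp_apply, Ideal.Quotient.mkₐ_eq_mk, Ideal.Quotient.liftₐ_apply,
        Ideal.Quotient.lift_mk, RingHom.coe_coe, MvPolynomial.aeval_X]
      rw [← hx i, Ideal.Quotient.eq]
      rw [show (MvPolynomial.aeval y) (MvPolynomial.X i) = y i from MvPolynomial.aeval_X _ _]
      simpa [y] using N.mul_mem_right (x i) heN
  haveI : Algebra.FormallySmooth R B := by
    rw [← Algebra.smoothLocus_eq_univ_iff, Set.eq_univ_iff_forall]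
    rintro ⟨Q, hQ⟩
    show Algebra.FormallySmooth R (Localization.AtPrime Q)
    obtain ⟨i, hi⟩ : ∃ i, algebraMap A B (a i) ∉ Q := by
      by_contra hcon
      push Not at hcon
      refine hQ.ne_top ((Ideal.eq_top_iff_one _).2 ?_)
      have h1 : (1 : B) = ∑ i, algebraMap A B (a i) * Ideal.Quotient.mk _ (MvPolynomial.X i) := by
        have h0 : (Ideal.Quotient.mk (Ideal.span {p})) p = 0 :=
          Ideal.Quotient.eq_zero_iff_mem.2 (Ideal.mem_span_singleton_self p)
        simp only [p, map_sub, map_sum, map_mul, map_one, sub_eq_zero] at h0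
        exact h0.symm
      rw [h1]
      exact Submodule.sum_mem _ fun i _ => Ideal.mul_mem_right _ _ (hcon i)
    haveI : Algebra.FormallySmooth R (Localization.Away (a i)) :=
      (Algebra.basicOpen_subset_smoothLocus_iff (R := R) (f := a i)).1 fun q hq => by
        by_contra hns
        have hmem := ha i
        rw [Smoothing.singularIdeal, SetLike.mem_coe, PrimeSpectrum.mem_vanishingIdeal] at hmem
        exact hq (hmem q hns)
    let L := Localization.AtPrime Q
    have hu : IsUnit (algebraMap A L (a i)) := by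
      rw [IsScalarTower.algebraMap_apply A B L]
      exact IsLocalization.map_units L (⟨_, hi⟩ : Q.primeCompl)
    let : Algebra (Localization.Away (a i)) L := (IsLocalization.Away.lift (a i) hu).toAlgebra
    haveI : IsScalarTower A (Localization.Away (a i)) L :=
      IsScalarTower.of_algebraMap_eq fun z => (IsLocalization.Away.lift_eq (a i) hu z).symm
    haveI : IsScalarTower R (Localization.Away (a i)) L := IsScalarTower.of_algebraMap_eq fun z => by
      rw [IsScalarTower.algebraMap_apply R A (Localization.Away (a i)),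
        ← IsScalarTower.algebraMap_apply A (Localization.Away (a i)) L, ← IsScalarTower.algebraMap_apply]
    haveI : Algebra.FormallySmooth B L := Algebra.FormallySmooth.of_isLocalization Q.primeCompl
    haveI : Algebra.FormallySmooth A L := Algebra.FormallySmooth.comp A B L
    haveI : Algebra.FormallySmooth (Localization.Away (a i)) L :=
      Algebra.FormallySmooth.localization_base (Submonoid.powers (a i))
    exact Algebra.FormallySmooth.comp R (Localization.Away (a i)) L
  let k₀ : P →ₐ[R] Λ :=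
    { toRingHom := MvPolynomial.eval₂Hom φ.toRingHom l
      commutes' := fun z => by
        show MvPolynomial.eval₂Hom φ.toRingHom l (algebraMap R P z) = _
        rw [IsScalarTower.algebraMap_apply R A P, MvPolynomial.algebraMap_eq, MvPolynomial.eval₂Hom_C]
        exact φ.commutes z }
  have hk₀ : ∀ z, z ∈ Ideal.span {p} → k₀ z = 0 := by
    intro z hz
    obtain ⟨w, rfl⟩ := Ideal.mem_span_singleton'.1 hz
    have : k₀ p = 0 := by
      show MvPolynomial.eval₂Hom φ.toRingHom l p = 0
      simp only [p, map_sub, map_sum, map_mul, map_one, MvPolynomial.eval₂Hom_C,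
        MvPolynomial.eval₂Hom_X', sub_eq_zero]
      refine Eq.trans ?_ hsum
      refine Finset.sum_congr rfl fun i _ => ?_
      show φ (a i) * l i = _
      rw [hga i, mul_comm]
    rw [map_mul, this, mul_zero]
  refine ⟨B, inferInstance, inferInstance, ⟨inferInstance, inferInstance⟩, IsScalarTower.toAlgHom R A B,
    Ideal.Quotient.liftₐ _ k₀ hk₀, AlgHom.ext fun z => ?_⟩
  show MvPolynomial.eval₂Hom φ.toRingHom l (MvPolynomial.C z) = φ z
  rw [MvPolynomial.eval₂Hom_C]
  rfl

/-- Resolution of all problems over fields. -/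
def FieldResolution : Prop :=
  ∀ (k : Type u) [Field k] (Λ : Type u) [CommRing Λ] [Algebra k Λ] [IsNoetherianRing Λ],
    CAlg.IsGeometricallyRegular k Λ → ∀ (A : Type u) [CommRing A] [Algebra k A]
      [Algebra.FinitePresentation k A] (φ : A →ₐ[k] Λ) (q : Ideal Λ) [q.IsPrime],
      q ∈ (Smoothing.singRad k φ).minimalPrimes → Smoothing.Resolvable k φ q

theorem indSmooth_field (H : FieldResolution.{u}) (k : Type u) [Field k] (Λ : Type u) [CommRing Λ]
    [Algebra k Λ] [IsNoetherianRing Λ] (hreg : CAlg.IsGeometricallyRegular k Λ) :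
    Smoothing.IndSmooth k Λ := by
  suffices ∀ (J : Ideal Λ) (A : Type u) [CommRing A] [Algebra k A],
      Algebra.FinitePresentation k A → ∀ φ : A →ₐ[k] Λ, Smoothing.singRad k φ = J →
      ∃ (B : Type u) (_ : CommRing B) (_ : Algebra k B),
        Algebra.Smooth k B ∧ ∃ (g : A →ₐ[k] B) (h : B →ₐ[k] Λ), h.comp g = φ from
    fun A _ _ hA f => this _ A hA f rfl
  intro J
  induction J using WellFoundedGT.induction with
  | _ J ih =>
    intro A _ _ hA φ hJ
    rcases eq_or_ne J ⊤ with rfl | hne
    · exact exists_smooth_factor_of_singRad_eq_top φ hJ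
    · obtain ⟨q, hq⟩ := Ideal.nonempty_minimalPrimes hne
      rw [← hJ] at hq
      haveI : q.IsPrime := hq.1.1
      obtain ⟨B, _, _, hB, g, h, hcomp, hle, hnle⟩ := H k Λ hreg A φ q hq
      have hlt : J < Smoothing.singRad k h := by
        rw [← hJ]
        exact lt_of_le_of_ne hle fun he => hnle (he ▸ hq.1.2)
      obtain ⟨C, _, _, hC, g', h', hcomp'⟩ := ih _ hlt B hB h rfl
      exact ⟨C, inferInstance, inferInstance, hC, g'.comp g, h', by
        rw [← AlgHom.comp_assoc, hcomp', hcomp]⟩

theorem isRegularHom_quotient (h : CAlg.IsRegularHom R Λ) (I : Ideal R) :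
    CAlg.IsRegularHom (R ⧸ I) (Λ ⧸ I.map (algebraMap R Λ)) := by
  let : Algebra (R ⧸ I) ((R ⧸ I) ⊗[R] Λ) := inferInstance
  have h1 := CAlg5.isRegularHom_baseChange R Λ (R ⧸ I) h
  let e : (R ⧸ I) ⊗[R] Λ ≃ₐ[R] Λ ⧸ I.map (algebraMap R Λ) :=
    ((Algebra.TensorProduct.comm R (R ⧸ I) Λ).trans
      ((Algebra.TensorProduct.quotIdealMapEquivTensorQuot Λ I).symm.restrictScalars R))
  refine EGA4H10.isRegularHom_of_ringEquiv (RingEquiv.refl _) e.toRingEquiv (fun z => ?_) h1
  obtain ⟨z, rfl⟩ := Ideal.Quotient.mk_surjective z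
  show e (algebraMap (R ⧸ I) ((R ⧸ I) ⊗[R] Λ) (algebraMap R (R ⧸ I) z)) = _
  rw [← IsScalarTower.algebraMap_apply, AlgEquiv.commutes]
  rfl

theorem reduced_step (H : FieldResolution.{u}) [IsNoetherianRing R] [IsReduced R] [IsNoetherianRing Λ]
    (hreg : CAlg.IsRegularHom R Λ)
    (hquot : ∀ J : Ideal R, J ≠ ⊥ → Smoothing.IndSmooth (R ⧸ J) (Λ ⧸ J.map (algebraMap R Λ)))
    [Algebra.FinitePresentation R A] (φ : A →ₐ[R] Λ) :
    ∃ (B : Type u) (_ : CommRing B) (_ : Algebra R B), Algebra.Smooth R B ∧
      ∃ (g : A →ₐ[R] B) (h : B →ₐ[R] Λ), h.comp g = φ := by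
  rcases subsingleton_or_nontrivial R with hsub | hnt
  · refine exists_smooth_factor_of_singRad_eq_top φ ?_
    haveI : Subsingleton Λ := (algebraMap R Λ).codomain_trivial
    exact Subsingleton.elim _ _
  obtain ⟨P, hP⟩ := Ideal.nonempty_minimalPrimes (bot_ne_top : (⊥ : Ideal R) ≠ ⊤)
  haveI : P.IsPrime := hP.1.1
  -- `κ(P)` is the localisation at `P`
  let L := Localization.AtPrime P
  have hmax : IsLocalRing.maximalIdeal L = ⊥ := by
    rw [← Localization.AtPrime.map_eq_maximalIdeal]
    refine le_bot_iff.1 fun x hx => ?_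
    haveI : IsReduced L := inferInstance
    have hnil : IsNilpotent x := by
      rw [← mem_nilradical, nilradical_eq_sInf, Submodule.mem_sInf]
      intro (q : Ideal L) hq
      haveI : q.IsPrime := hq
      have hq' : q.comap (algebraMap R L) ≤ P := by
        refine le_trans ?_ (Localization.AtPrime.comap_maximalIdeal (I := P)).le
        exact Ideal.comap_mono (IsLocalRing.le_maximalIdeal Ideal.IsPrime.ne_top')
      exact Ideal.map_le_iff_le_comap.2 (hP.2 ⟨inferInstance, bot_le⟩ hq') hx
    exact Ideal.mem_bot.2 hnil.eq_zero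
  haveI : IsLocalization.AtPrime P.ResidueField P := by
    let e : L ≃ₐ[R] P.ResidueField := AlgEquiv.ofBijective (IsScalarTower.toAlgHom R L P.ResidueField)
      ⟨(injective_iff_map_eq_zero _).2 fun x hx => by
          have hmem : x ∈ IsLocalRing.maximalIdeal L := (IsLocalRing.residue_eq_zero_iff x).1 hx
          rwa [hmax, Ideal.mem_bot] at hmem, IsLocalRing.residue_surjective⟩
    exact IsLocalization.isLocalization_of_algEquiv P.primeCompl e
  obtain ⟨hN, hgeo⟩ := hreg.2 P
  haveI : IsNoetherianRing (P.ResidueField ⊗[R] Λ) := hN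
  obtain ⟨B', _, _, hB', g₀, h₀, hcomp₀⟩ := indSmooth_field H P.ResidueField _ hgeo
    (P.ResidueField ⊗[R] A) inferInstance (Algebra.TensorProduct.map (AlgHom.id _ _) φ)
  obtain ⟨B, _, _, α, β, hαβ, s, hs, hstd⟩ :=
    Groth.Agent.S2029.result φ P.primeCompl g₀ h₀ hcomp₀
  have hfpB : Algebra.FinitePresentation R B := by
    obtain ⟨Pr, -, -⟩ := hstd
    haveI : Algebra.FinitePresentation R (MvPolynomial (Fin Pr.n) R ⧸ RingHom.ker Pr.hom) :=
      Algebra.FinitePresentation.quotient (by
        rw [show RingHom.ker Pr.hom = Ideal.span (Set.range Pr.rel) from Pr.ker_eq]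
        exact Submodule.fg_span (Set.finite_range Pr.rel))
    exact Algebra.FinitePresentation.equiv (Ideal.quotientKerAlgEquivOfSurjective (f := Pr.hom) Pr.surj)
  have hstr := Smooth28.isStrictlyStandard_of_isElementaryStandard hstd
  -- annihilators
  have hR : ∀ r : R, s ^ 2 * r = 0 → s * r = 0 := fun r hr => by
    have : (s * r) ^ 2 = 0 := by rw [mul_pow, pow_two r, ← mul_assoc, hr, zero_mul]
    exact pow_eq_zero_iff (two_ne_zero) |>.1 this
  have hΛ : ∀ x : Λ, s ^ 2 • x = 0 → s • x = 0 := by
    haveI := hreg.1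
    have hex : Function.Exact (LinearMap.ker (LinearMap.mulLeft R (s ^ 2))).subtype
        (LinearMap.mulLeft R (s ^ 2)) := LinearMap.exact_subtype_ker_map _
    intro x hx
    have h1 := Module.Flat.lTensor_exact Λ hex
    obtain ⟨y, hy⟩ : x ⊗ₜ[R] (1 : R) ∈ Set.range (LinearMap.lTensor Λ _) := (h1 (x ⊗ₜ[R] (1 : R))).1 (by
      rw [LinearMap.lTensor_tmul, LinearMap.mulLeft_apply, mul_one,
        ← mul_one (s ^ 2), ← smul_eq_mul, TensorProduct.tmul_smul, TensorProduct.smul_tmul', hx,
        TensorProduct.zero_tmul])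
    have h2 : LinearMap.lTensor Λ (LinearMap.mulLeft R s) (x ⊗ₜ[R] (1 : R)) = 0 := by
      rw [← hy, ← LinearMap.comp_apply, ← LinearMap.lTensor_comp]
      have : LinearMap.mulLeft R s ∘ₗ (LinearMap.ker (LinearMap.mulLeft R (s ^ 2))).subtype = 0 :=
        LinearMap.ext fun z => hR z.1 z.2
      rw [this, LinearMap.lTensor_zero, LinearMap.zero_apply]
    rw [LinearMap.lTensor_tmul, LinearMap.mulLeft_apply, mul_one, ← mul_one s, ← smul_eq_mul,
      TensorProduct.tmul_smul, TensorProduct.smul_tmul'] at h2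
    simpa using congrArg (TensorProduct.rid R Λ) h2
  -- the quotient by `s ^ 8`
  let K : Ideal R := Ideal.span {s ^ 8}
  have hK : K ≠ ⊥ := by
    rw [Ne, Ideal.span_singleton_eq_bot]
    intro h0
    exact hs (Ideal.IsPrime.mem_of_pow_mem inferInstance 8 (h0 ▸ P.zero_mem))
  have hKΛ : K.map (algebraMap R Λ) = Ideal.span {algebraMap R Λ (s ^ 8)} := by
    rw [Ideal.map_span, Set.image_singleton]
  let π : Λ →ₐ[R] Λ ⧸ K.map (algebraMap R Λ) := Ideal.Quotient.mkₐ R _
  let φ₀ : (R ⧸ K) ⊗[R] B →ₐ[R ⧸ K] Λ ⧸ K.map (algebraMap R Λ) :=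
    Algebra.TensorProduct.lift (Algebra.ofId _ _) (π.comp β) fun _ _ => Commute.all _ _
  obtain ⟨C, _, _, hC, gC, hC', hcompC⟩ := hquot K hK _ inferInstance φ₀
  let : Algebra R C := ((algebraMap (R ⧸ K) C).comp (algebraMap R (R ⧸ K))).toAlgebra
  haveI : IsScalarTower R (R ⧸ K) C := IsScalarTower.of_algebraMap_eq fun _ => rfl
  let γ : B →ₐ[R] C := (gC.restrictScalars R).comp Algebra.TensorProduct.includeRight
  let eq₁ : (Λ ⧸ K.map (algebraMap R Λ)) ≃ₐ[R] Λ ⧸ Ideal.span {algebraMap R Λ (s ^ 8)} :=
    Ideal.quotientEquivAlgOfEq R hKΛ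
  let g : C →ₐ[R] Λ ⧸ Ideal.span {algebraMap R Λ (s ^ 8)} := eq₁.toAlgHom.comp (hC'.restrictScalars R)
  have hfac : ∀ b : B, g (γ b) = Ideal.Quotient.mk _ (β b) := fun b => by
    show eq₁ ((hC'.comp gC) (1 ⊗ₜ b)) = _
    rw [hcompC]
    show eq₁ (Algebra.TensorProduct.lift (Algebra.ofId _ _) (π.comp β) _ (1 ⊗ₜ b)) = _
    rw [Algebra.TensorProduct.lift_tmul, map_one, one_mul]
    rfl
  obtain ⟨D, _, _, hD, α', β', hcomp', hsm, hsing⟩ :=
    Groth.Agent.S19959.result s hR hΛ β hstr γ g hfac
  have htop : Smoothing.singRad R β' = ⊤ := by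
    have h1 : Smoothing.singularIdeal (R ⧸ K) C = ⊤ := by
      rw [Smoothing.singularIdeal, Algebra.smoothLocus_eq_univ, Set.compl_univ,
        PrimeSpectrum.vanishingIdeal_empty]
    have h2 : algebraMap R D s ∈ Smoothing.singularIdeal R D := by
      rw [Smoothing.singularIdeal, PrimeSpectrum.mem_vanishingIdeal]
      intro Q hQ
      by_contra hsQ
      exact hQ (hsm Q.asIdeal hsQ)
    have h3 : algebraMap R Λ (s ^ 8) ∈ Smoothing.singRad R β' := by
      rw [map_pow, ← β'.commutes]
      exact Ideal.pow_mem_of_mem _ (Ideal.le_radical (Ideal.mem_map_of_mem _ h2)) 8 (by norm_num)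
    erw [h1, Ideal.map_top, top_le_iff] at hsing
    have h4 := congrArg (Ideal.comap (Ideal.Quotient.mk _)) hsing
    erw [Ideal.comap_map_of_surjective _ Ideal.Quotient.mk_surjective, Ideal.comap_top,
      ← RingHom.ker_eq_comap_bot, Ideal.mk_ker] at h4
    exact top_le_iff.1 (h4.ge.trans (sup_le le_rfl ((Ideal.span_singleton_le_iff_mem _).2 h3)))
  obtain ⟨C', _, _, hC2, g2, h2, hcomp2⟩ := exists_smooth_factor_of_singRad_eq_top β' htop
  exact ⟨C', inferInstance, inferInstance, hC2, (g2.comp α').comp α, h2, by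
    rw [← AlgHom.comp_assoc, ← AlgHom.comp_assoc, hcomp2, hcomp', hαβ]⟩

theorem indSmooth_of_fieldResolution (H : FieldResolution.{u}) (R : Type u) [CommRing R] [IsNoetherianRing R]
    (Λ : Type u) [CommRing Λ] [IsNoetherianRing Λ] [Algebra R Λ] (hreg : CAlg.IsRegularHom R Λ) :
    Smoothing.IndSmooth R Λ := by
  suffices ∀ (I : Ideal R) (R' : Type u) [CommRing R'] (f : R →+* R'), Function.Surjective f →
      RingHom.ker f = I → ∀ (Λ' : Type u) [CommRing Λ'] [IsNoetherianRing Λ'] [Algebra R' Λ'],
        CAlg.IsRegularHom R' Λ' → Smoothing.IndSmooth R' Λ' from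
    this ⊥ R (RingHom.id R) Function.surjective_id ((RingHom.injective_iff_ker_eq_bot _).1 Function.injective_id) Λ hreg
  intro I
  induction I using WellFoundedGT.induction with
  | _ I ih =>
    intro R' _ f hf hker Λ' _ _ _ hreg'
    haveI : IsNoetherianRing R' := isNoetherianRing_of_surjective R R' f hf
    have hquot : ∀ J : Ideal R', J ≠ ⊥ → Smoothing.IndSmooth (R' ⧸ J) (Λ' ⧸ J.map (algebraMap R' Λ')) := by
      intro J hJ
      refine ih (RingHom.ker ((Ideal.Quotient.mk J).comp f)) ?_ (R' ⧸ J) ((Ideal.Quotient.mk J).comp f)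
        (Ideal.Quotient.mk_surjective.comp hf) rfl _ (isRegularHom_quotient hreg' J)
      rw [← hker, ← RingHom.comap_ker, Ideal.mk_ker]
      refine lt_of_le_of_ne (fun x hx => ?_) fun he => hJ ?_
      · show f x ∈ J
        rw [RingHom.mem_ker.1 hx]
        exact J.zero_mem
      · rw [← Ideal.map_comap_of_surjective f hf J, ← he]
        exact Ideal.map_eq_bot_iff_le_ker f |>.2 le_rfl
    by_cases hred : IsReduced R'
    · intro A _ _ hA φ
      exact reduced_step H hreg' hquot φ
    · haveI := hreg'.1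
      refine Groth.Agent.S2022.result (nilradical R') ?_ (hquot _ ?_)
      · exact IsNoetherianRing.isNilpotent_nilradical R'
      · intro h0
        exact hred (nilradical_eq_bot_iff.1 h0)

end Groth.Agent.CAlg1.Pop
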