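import Groth.Agent.S2036
import Groth.Agent.EGA4Alg4.GeomRegFS
import Groth.Agent.FBase64.TensorField
import Groth.Agent.CAlg4.RegularField
import Groth.Agent.CAlg1.Pop.Main
import Groth.Agent.CAlg1.Pop.CharP

/-!
Resolving problems over fields, and Popescu's theorem.
-/

set_option autoImplicit false
universe u

open TensorProduct IsLocalRing

namespace Groth.Agent.CAlg1.Pop

theorem isRegularLocalRing_atPrime_of_geometricallyRegular {k Λ : Type u} [Field k] [CommRing Λ] [Algebra k Λ]
    (hreg : CAlg.IsGeometricallyRegular k Λ) (q : Ideal Λ) [q.IsPrime] :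
    IsRegularLocalRing (Localization.AtPrime q) := by
  haveI : IsRegularRing Λ :=
    haveI := hreg k inferInstance
    IsRegularRing.of_ringEquiv (Algebra.TensorProduct.lid k Λ).toRingEquiv
  exact IsRegularRing.isRegularLocalRing_localization q

theorem resolvable_charP {k A Λ : Type u} [Field k] (p : ℕ) [Fact p.Prime] [CharP k p] [CommRing A]
    [Algebra k A] [Algebra.FinitePresentation k A] [CommRing Λ] [Algebra k Λ] [IsNoetherianRing Λ]
    (hreg : CAlg.IsGeometricallyRegular k Λ) (φ : A →ₐ[k] Λ) (q : Ideal Λ) [q.IsPrime]
    (hmin : q ∈ (Smoothing.singRad k φ).minimalPrimes) : Smoothing.Resolvable k φ q := by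
  haveI := isRegularLocalRing_atPrime_of_geometricallyRegular hreg q
  by_cases hgr : Algebra.IsGeometricallyReduced k q.ResidueField
  · exact resolvable_separable φ q hmin
  haveI : Infinite k := by
    rcases finite_or_infinite k with h | h
    · haveI : PerfectField k := PerfectField.ofFinite
      exact absurd (FBase64.isGeometricallyReduced_of_perfectField k q.ResidueField) hgr
    · exact h
  let L := Localization.AtPrime q
  have hfs : CAlgX.IsAdicFormallySmooth k L (maximalIdeal L) :=
    (Groth.Agent.S2036.result p).1
      (EGA4Alg4.GeomFS13.isGeometricallyRegular_localization q.primeCompl hreg)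
  have hd : ringKrullDim L = ((maximalIdeal L).spanFinrank : ℕ) :=
    (IsRegularLocalRing.spanFinrank_maximalIdeal (R := L)).symm
  rcases Nat.eq_zero_or_pos (maximalIdeal L).spanFinrank with hd0 | hdpos
  · exfalso
    apply hgr
    have hmax : maximalIdeal L = ⊥ :=
      (Submodule.spanFinrank_eq_zero_iff_eq_bot (maximalIdeal L).fg_of_isNoetherianRing).mp hd0
    haveI : Algebra.FormallySmooth k L := Algebra.FormallySmooth.iff_comp_surjective.2 fun B _ _ J hJ ψ =>
      hfs B J hJ ψ ⟨1, fun x hx => by
        rw [pow_one, hmax, Ideal.mem_bot] at hx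
        rw [hx, map_zero]⟩
    let e : L ≃ₐ[k] q.ResidueField := AlgEquiv.ofBijective (IsScalarTower.toAlgHom k L q.ResidueField)
      ⟨(injective_iff_map_eq_zero _).2 fun x hx => by
          have hmem : x ∈ maximalIdeal L := (IsLocalRing.residue_eq_zero_iff x).1 hx
          rwa [hmax, Ideal.mem_bot] at hmem, IsLocalRing.residue_surjective⟩
    haveI : Algebra.FormallySmooth k q.ResidueField := Algebra.FormallySmooth.of_equiv e
    exact Sep12.formallySmooth_iff_isGeometricallyReduced.mp inferInstance
  · exact resolvable_infinite_charP p φ q hmin hfs hd hdpos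

theorem fieldResolution : FieldResolution.{u} := by
  intro k _ Λ _ _ _ hreg A _ _ _ φ q _ hmin
  haveI := isRegularLocalRing_atPrime_of_geometricallyRegular hreg q
  obtain ⟨p, hp⟩ := CharP.exists k
  rcases CharP.char_is_prime_or_zero k p with hpr | rfl
  · haveI : Fact p.Prime := ⟨hpr⟩
    exact resolvable_charP p hreg φ q hmin
  · haveI : CharZero k := CharP.charP_to_charZero k
    haveI : PerfectField k := PerfectField.ofCharZero
    haveI : Algebra.IsGeometricallyReduced k q.ResidueField := (FBase64.isGeometricallyReduced_of_perfectField k q.ResidueField)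
    exact resolvable_separable φ q hmin

theorem popescu (R : Type u) [CommRing R] [IsNoetherianRing R] (Λ : Type u) [CommRing Λ] [IsNoetherianRing Λ]
    [Algebra R Λ] (hreg : CAlg.IsRegularHom R Λ) : Smoothing.IndSmooth R Λ :=
  indSmooth_of_fieldResolution fieldResolution R Λ hreg

end Groth.Agent.CAlg1.Pop
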