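import Mathlib
import Groth.Agent.CAlg1.Pop.Algebraization
import Groth.Agent.Hens22.ArtinEtale

/-!
Artin algebraization of an element of a limit preserving functor.
-/

set_option autoImplicit false
universe u

open IsLocalRing CategoryTheory CategoryTheory.Limits

namespace Groth.Agent.CAlg1.Pop

variable {k : Type u} [Field k] (F : CommAlgCat.{u} k ⥤ Type u)

theorem map_ofHom_comp {A B C : Type u} [CommRing A] [Algebra k A] [CommRing B] [Algebra k B] [CommRing C]
    [Algebra k C] (f : A →ₐ[k] B) (g : B →ₐ[k] C) (x : F.obj (CommAlgCat.of k A)) :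
    F.map (CommAlgCat.ofHom g) (F.map (CommAlgCat.ofHom f) x) = F.map (CommAlgCat.ofHom (g.comp f)) x := by
  rw [← FunctorToTypes.map_comp_apply, ← CommAlgCat.ofHom_comp]

variable (hF : ∀ (J : Type u) [SmallCategory J] [IsFiltered J], PreservesColimitsOfShape J F)
  (R : Type u) [CommRing R] [Algebra k R] [IsLocalRing R] [IsNoetherianRing R]
  [IsAdicComplete (maximalIdeal R) R]
  (hres : Function.Surjective (fun c : k => residue R (algebraMap k R c)))

include hF hres in
theorem exists_algebraization_functor (ξ : F.obj (CommAlgCat.of k R)) (N : ℕ) :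
    ∃ (A : Type u) (_ : CommRing A) (_ : Algebra k A) (_ : Algebra.FiniteType k A)
      (m : Ideal A) (_ : m.IsMaximal)
      (_ : Function.Surjective (fun c : k => Ideal.Quotient.mk m (algebraMap k A c)))
      (η : F.obj (CommAlgCat.of k A))
      (φ : (R ⧸ maximalIdeal R ^ (N + 1)) ≃ₐ[k] (A ⧸ m ^ (N + 1))),
      F.map (CommAlgCat.ofHom (φ.toAlgHom.comp (Ideal.Quotient.mkₐ k (maximalIdeal R ^ (N + 1))))) ξ =
        F.map (CommAlgCat.ofHom (Ideal.Quotient.mkₐ k (m ^ (N + 1)))) η ∧
      ∃ e : AssocGr.GrRing (FiltBl.IdealFiltration.adic (maximalIdeal R)) ≃+*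
          AssocGr.GrRing (FiltBl.IdealFiltration.adic m),
        (∀ (n : ℕ) (x : AssocGr.GrRing (FiltBl.IdealFiltration.adic (maximalIdeal R))),
            x ∈ AssocGr.gr (FiltBl.IdealFiltration.adic (maximalIdeal R)) n →
              e x ∈ AssocGr.gr (FiltBl.IdealFiltration.adic m) n) ∧
        (∀ c : k, e (algebraMap R _ (algebraMap k R c)) = algebraMap A _ (algebraMap k A c)) := by
  haveI : PreservesFilteredColimits F := ⟨hF⟩
  obtain ⟨D, _, _, hD, v, y, hy⟩ := Hens22.exists_fp_element F R ξ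
  haveI := hD
  obtain ⟨A, _, _, hA, m, hm, hmres, ν, φ, hφ, e, he, hec⟩ := exists_algebraization_data k R hres D v N
  refine ⟨A, inferInstance, inferInstance, hA, m, hm, hmres, F.map (CommAlgCat.ofHom ν) y, φ, ?_, e, he, hec⟩
  rw [← hy, map_ofHom_comp, map_ofHom_comp]
  exact congrArg (fun f => F.map (CommAlgCat.ofHom f) y) (AlgHom.ext fun d => hφ d)

end Groth.Agent.CAlg1.Pop
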