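import Mathlib

/-!
The flat map `k[Y] → k[T,S]_P`, `Y ↦ T/S`.
-/

set_option autoImplicit false
universe u

open MvPolynomial

namespace Groth.Agent.CAlg1.Pop

theorem exists_flat_chart (k : Type u) [Field k] (m : ℕ) (P : Ideal (MvPolynomial (Option (Fin m)) k))
    [P.IsPrime] (hS : (X none : MvPolynomial (Option (Fin m)) k) ∉ P) :
    ∃ ι : MvPolynomial (Fin m) k →ₐ[k] Localization.AtPrime P, ι.toRingHom.Flat ∧
      ∀ i, ι (X i) * algebraMap (MvPolynomial (Option (Fin m)) k) _ (X none) =
        algebraMap (MvPolynomial (Option (Fin m)) k) _ (X (some i)) := by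
  let R₀ := MvPolynomial (Option (Fin m)) k
  let W := Localization.Away (X none : R₀)
  let s : W := algebraMap R₀ W (X none)
  have hs : IsUnit s := IsLocalization.Away.algebraMap_isUnit _
  obtain ⟨w, hw⟩ := hs
  let g₁ : R₀ →ₐ[k] W :=
    MvPolynomial.aeval fun o : Option (Fin m) => o.elim s fun i => algebraMap R₀ W (X (some i)) * ↑w⁻¹
  let g₂ : R₀ →ₐ[k] W :=
    MvPolynomial.aeval fun o : Option (Fin m) => o.elim s fun i => algebraMap R₀ W (X (some i)) * ↑w
  have h₁n : g₁ (X none) = s := MvPolynomial.aeval_X (R := k) _ none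
  have h₂n : g₂ (X none) = s := MvPolynomial.aeval_X (R := k) _ none
  have h₁s : ∀ i, g₁ (X (some i)) = algebraMap R₀ W (X (some i)) * ↑w⁻¹ := fun i => MvPolynomial.aeval_X (R := k) _ (some i)
  have h₂s : ∀ i, g₂ (X (some i)) = algebraMap R₀ W (X (some i)) * ↑w := fun i => MvPolynomial.aeval_X (R := k) _ (some i)
  have hu₁ : ∀ y : Submonoid.powers (X none : R₀), IsUnit (g₁ y) := by
    rintro ⟨_, j, rfl⟩
    rw [map_pow, h₁n]
    exact (IsLocalization.Away.algebraMap_isUnit _).pow j
  have hu₂ : ∀ y : Submonoid.powers (X none : R₀), IsUnit (g₂ y) := by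
    rintro ⟨_, j, rfl⟩
    rw [map_pow, h₂n]
    exact (IsLocalization.Away.algebraMap_isUnit _).pow j
  let E₁ : W →ₐ[k] W := IsLocalization.liftAlgHom (M := Submonoid.powers (X none : R₀)) (f := g₁) hu₁
  let E₂ : W →ₐ[k] W := IsLocalization.liftAlgHom (M := Submonoid.powers (X none : R₀)) (f := g₂) hu₂
  have hE₁ : ∀ r, E₁ (algebraMap R₀ W r) = g₁ r := fun r => IsLocalization.lift_eq _ r
  have hE₂ : ∀ r, E₂ (algebraMap R₀ W r) = g₂ r := fun r => IsLocalization.lift_eq _ r
  have hwE : E₁ (↑w : W) = ↑w ∧ E₂ (↑w : W) = ↑w := by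
    rw [hw]; exact ⟨(hE₁ _).trans h₁n, (hE₂ _).trans h₂n⟩
  have hwi : E₁ (↑w⁻¹ : W) = ↑w⁻¹ ∧ E₂ (↑w⁻¹ : W) = ↑w⁻¹ := by
    constructor <;>
    · refine Units.eq_inv_of_mul_eq_one_left ?_
      nth_rw 1 [← hwE.1]
      first
        | rw [← map_mul, Units.mul_inv, map_one]
        | rw [← map_mul, Units.inv_mul, map_one]
        | rw [hwE.1]; nth_rw 1 [← hwE.2]; first
            | rw [← map_mul, Units.mul_inv, map_one]
            | rw [← map_mul, Units.inv_mul, map_one]
  have hbij : Function.Bijective E₁ := by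
    have h12 : E₁.comp E₂ = AlgHom.id k W := by
      refine IsLocalization.algHom_ext (Submonoid.powers (X none : R₀)) (MvPolynomial.algHom_ext fun o => ?_)
      show E₁ (E₂ (algebraMap R₀ W (X o))) = algebraMap R₀ W (X o)
      cases o with
      | none => rw [hE₂, h₂n, hE₁, h₁n]
      | some i => rw [hE₂, h₂s, map_mul, hE₁, h₁s, hwE.1, mul_assoc, Units.inv_mul, mul_one]
    have h21 : E₂.comp E₁ = AlgHom.id k W := by
      refine IsLocalization.algHom_ext (Submonoid.powers (X none : R₀)) (MvPolynomial.algHom_ext fun o => ?_)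
      show E₂ (E₁ (algebraMap R₀ W (X o))) = algebraMap R₀ W (X o)
      cases o with
      | none => rw [hE₁, h₁n, hE₂, h₂n]
      | some i => rw [hE₁, h₁s, map_mul, hE₂, h₂s, hwi.2, mul_assoc, Units.mul_inv, mul_one]
    exact ⟨Function.LeftInverse.injective (g := E₂) (DFunLike.congr_fun h21),
      Function.RightInverse.surjective (g := E₂) (DFunLike.congr_fun h12)⟩
  let L := Localization.AtPrime P
  have hu : IsUnit (algebraMap R₀ L (X none)) := IsLocalization.map_units L (⟨_, hS⟩ : P.primeCompl)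
  letI : Algebra W L := (IsLocalization.Away.lift (X none : R₀) hu).toAlgebra
  haveI : IsScalarTower R₀ W L :=
    IsScalarTower.of_algebraMap_eq fun z => (IsLocalization.Away.lift_eq (X none : R₀) hu z).symm
  haveI : IsScalarTower k W L := IsScalarTower.of_algebraMap_eq fun z => by
    rw [IsScalarTower.algebraMap_apply k R₀ W, ← IsScalarTower.algebraMap_apply R₀ W L,
      ← IsScalarTower.algebraMap_apply]
  haveI : Module.Flat W L :=
    (Module.flat_iff_of_isLocalization (S := W) (p := Submonoid.powers (X none : R₀)) (M := L)).2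
      (IsLocalization.flat L P.primeCompl)
  refine ⟨((IsScalarTower.toAlgHom k W L).comp E₁).comp
    ((IsScalarTower.toAlgHom k R₀ W).comp (MvPolynomial.rename some)), ?_, fun i => ?_⟩
  · show RingHom.Flat (((algebraMap W L).comp E₁.toRingHom).comp ((algebraMap R₀ W).comp
      (MvPolynomial.rename some : MvPolynomial (Fin m) k →ₐ[k] R₀).toRingHom))
    refine RingHom.Flat.comp (RingHom.Flat.comp ?_ ?_) (RingHom.Flat.comp (RingHom.Flat.of_bijective hbij) ?_)
    · have h : (MvPolynomial.rename some : MvPolynomial (Fin m) k →ₐ[k] R₀).toRingHom =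
          (MvPolynomial.optionEquivLeft k (Fin m)).symm.toRingEquiv.toRingHom.comp Polynomial.C := by
        refine MvPolynomial.ringHom_ext (fun r => ?_) fun i => ?_
        · simp [MvPolynomial.optionEquivLeft]
        · simp [MvPolynomial.optionEquivLeft]
      show RingHom.Flat (MvPolynomial.rename some : MvPolynomial (Fin m) k →ₐ[k] R₀).toRingHom
      rw [h]
      refine RingHom.Flat.comp ?_ (RingHom.Flat.of_bijective
        (MvPolynomial.optionEquivLeft k (Fin m)).symm.bijective)
      rw [← Polynomial.algebraMap_eq, RingHom.flat_algebraMap_iff]; infer_instance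
    · exact RingHom.flat_algebraMap_iff.2 (IsLocalization.flat W (Submonoid.powers (X none : R₀)))
    · exact RingHom.flat_algebraMap_iff.2 inferInstance
  · show algebraMap W L (E₁ (algebraMap R₀ W (rename some (X i)))) * algebraMap R₀ L (X none) = _
    rw [rename_X, hE₁, h₁s, IsScalarTower.algebraMap_apply R₀ W L (X none), ← map_mul, mul_assoc,
      show algebraMap R₀ W (X none) = (↑w : W) from hw.symm, Units.inv_mul, mul_one,
      ← IsScalarTower.algebraMap_apply]

end Groth.Agent.CAlg1.Pop
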