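import Mathlib

/-!
Multiplying a generator by a `p`-th power to generate a field extension.
-/

set_option autoImplicit false
universe u

open IntermediateField

namespace Groth.Agent.CAlg1.Pop

theorem exists_mul_pow_generator {F K : Type u} [Field F] [Field K] [Algebra F K]
    [FiniteDimensional F K] [Infinite F] (p : ℕ) [Fact p.Prime] [CharP F p] (β : K) (hβ : β ≠ 0)
    (hsep : Algebra.IsSeparable F⟮β⟯ K) :
    ∃ γ : K, γ ≠ 0 ∧ F⟮β * γ ^ p⟯ = ⊤ := by
  haveI : CharP K p := charP_of_injective_algebraMap (algebraMap F K).injective p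
  haveI : ExpChar F p := .prime Fact.out
  haveI : ExpChar K p := .prime Fact.out
  let S := separableClosure F K
  obtain ⟨n, a, ha⟩ := IsPurelyInseparable.pow_mem S p β
  have ha0 : a ≠ 0 := fun h => hβ ((pow_eq_zero_iff (pow_ne_zero n (Fact.out : p.Prime).ne_zero)).1
    (by rw [← ha, h, map_zero]))
  obtain ⟨θ, hθ⟩ := Field.exists_primitive_element F S
  haveI : Finite (IntermediateField F S) := Field.finite_intermediateField_of_exists_primitive_element F S ⟨θ, hθ⟩
  let e : F → S := fun c => a * (θ + algebraMap F S c) ^ p ^ (n + 1)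
  let U : Set F := {c | algebraMap F K c ≠ -(θ : K)}
  have hU : U.Infinite := by
    refine Set.Infinite.mono (?_ : ({c : F | algebraMap F K c = -(θ : K)})ᶜ ⊆ U) ?_
    · exact fun c hc => hc
    · exact (Set.Subsingleton.finite fun x hx y hy =>
        (algebraMap F K).injective (hx.trans hy.symm)).infinite_compl
  haveI := hU.to_subtype
  obtain ⟨⟨c, hc⟩, ⟨c', hc'⟩, hne, heq⟩ :=
    Finite.exists_ne_map_eq_of_infinite (fun c : U => F⟮e c.1⟯)
  have hcc : c ≠ c' := fun h => hne (Subtype.ext h)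
  have htop : F⟮e c⟯ = ⊤ := by
    have h1 : e c ∈ F⟮e c⟯ := mem_adjoin_simple_self F _
    have h2 : e c' ∈ F⟮e c⟯ := by
      have := mem_adjoin_simple_self F (e c')
      rwa [show F⟮e c'⟯ = F⟮e c⟯ from heq.symm] at this
    set M := F⟮e c⟯
    haveI : ExpChar S p := .prime Fact.out
    have h3 : a * algebraMap F S ((c - c') ^ p ^ (n + 1)) ∈ M := by
      have := sub_mem h1 h2
      rwa [← mul_sub, add_pow_expChar_pow, add_pow_expChar_pow, add_sub_add_left_eq_sub,
        ← map_pow, ← map_pow, ← map_sub, ← sub_pow_expChar_pow] at this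
    have hd : (c - c') ^ p ^ (n + 1) ≠ 0 := pow_ne_zero _ (sub_ne_zero.2 hcc)
    have haM : a ∈ M := by
      have h4 := mul_mem h3 (M.algebraMap_mem ((c - c') ^ p ^ (n + 1))⁻¹)
      rwa [mul_assoc, ← map_mul, mul_inv_cancel₀ hd, map_one, mul_one] at h4
    have h4 : θ ^ p ^ (n + 1) ∈ M := by
      have h5 := mul_mem (inv_mem haM) h1
      rw [← mul_assoc, inv_mul_cancel₀ ha0, one_mul, add_pow_expChar_pow, ← map_pow] at h5
      simpa using sub_mem h5 (M.algebraMap_mem (c ^ p ^ (n + 1)))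
    rw [eq_top_iff, ← hθ, adjoin_simple_eq_adjoin_pow_expChar_pow_of_isSeparable' F S θ p (n + 1),
      adjoin_simple_le_iff]
    exact h4
  let γ : K := (θ : K) + algebraMap F K c
  have hγ : γ ≠ 0 := fun h => hc (eq_neg_of_add_eq_zero_right h)
  refine ⟨γ, hγ, ?_⟩
  set T := F⟮β * γ ^ p⟯
  have heT : ∀ s : S, (s : K) ∈ T := by
    intro s
    have hs : s ∈ F⟮e c⟯ := htop ▸ mem_top
    have hmap : F⟮e c⟯.map S.val ≤ T := by
      rw [adjoin_map, Set.image_singleton, adjoin_simple_le_iff]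
      have h1 : β * γ ^ p ∈ T := mem_adjoin_simple_self F _
      have h2 := pow_mem h1 (p ^ n)
      rw [mul_pow, ← pow_mul, ← pow_succ'] at h2
      have he : S.val (e c) = β ^ p ^ n * γ ^ p ^ (n + 1) := by
        simp only [e, map_mul, map_pow, map_add, γ]
        rw [← ha]
        rfl
      rwa [he]
    exact hmap ⟨s, hs, rfl⟩
  have hβT : β ∈ T := by
    have h1 : β * γ ^ p ∈ T := mem_adjoin_simple_self F _
    have h2 : γ ∈ T := add_mem (heT θ) (T.algebraMap_mem c)
    have h3 := mul_mem h1 (inv_mem (pow_mem h2 p))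
    rwa [mul_assoc, mul_inv_cancel₀ (pow_ne_zero _ hγ), mul_one] at h3
  refine eq_top_iff.2 fun x _ => ?_
  obtain ⟨m, b, hb⟩ := IsPurelyInseparable.pow_mem S p x
  haveI : ExpChar F⟮β⟯ p := expChar_of_injective_algebraMap (algebraMap F F⟮β⟯).injective p
  have hx : x ∈ (F⟮β⟯)⟮x ^ p ^ m⟯ := by
    rw [← adjoin_simple_eq_adjoin_pow_expChar_pow_of_isSeparable' F⟮β⟯ K x p m]
    exact mem_adjoin_simple_self _ x
  suffices ∀ z ∈ (F⟮β⟯)⟮x ^ p ^ m⟯, z ∈ T from this x hx
  intro z hz
  induction hz using IntermediateField.adjoin_induction with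
  | mem y hy => rw [Set.mem_singleton_iff] at hy; rw [hy, ← hb]; exact heT b
  | algebraMap y => exact (adjoin_simple_le_iff.2 hβT : F⟮β⟯ ≤ T) y.2
  | add y z _ _ hy hz => exact add_mem hy hz
  | inv y _ hy => exact inv_mem hy
  | mul y z _ _ hy hz => exact mul_mem hy hz

end Groth.Agent.CAlg1.Pop
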