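import Mathlib
import Groth.Agent.CAlg1.Pop.FieldGen

/-!
Generators of an Artinian local algebra adapted to its differentials.
-/

set_option autoImplicit false
universe u

open TensorProduct KaehlerDifferential IsLocalRing

namespace Groth.Agent.CAlg1.Pop

section

variable {k A : Type u} [Field k] [CommRing A] [IsLocalRing A] [Algebra k A]

theorem formallyUnramified_of_span {m : ℕ} (y : Fin m → A)
    (hy : Submodule.span A (Set.range fun i => D k A (y i)) = ⊤)
    (M : IntermediateField k (ResidueField A)) (hM : ∀ i, residue A (y i) ∈ M) :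
    Algebra.FormallyUnramified M (ResidueField A) := by
  let K := ResidueField A
  let q : Ω[A⁄k] →ₗ[A] Ω[K⁄M] :=
    ((KaehlerDifferential.map k M K K).restrictScalars A).comp (KaehlerDifferential.map k k A K)
  have hq : ∀ a, q (D k A a) = D M K (residue A a) := fun a => by
    show KaehlerDifferential.map k M K K (KaehlerDifferential.map k k A K (D k A a)) = _
    rw [map_D, map_D]; rfl
  have hzero : ∀ w : Ω[A⁄k], q w = 0 := by
    intro w
    have hw : w ∈ Submodule.span A (Set.range fun i => D k A (y i)) := hy ▸ Submodule.mem_top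
    induction hw using Submodule.span_induction with
    | mem z hz =>
      obtain ⟨i, rfl⟩ := hz
      rw [hq]
      exact Derivation.map_algebraMap (D M K) (⟨_, hM i⟩ : M)
    | zero => exact map_zero _
    | add a b _ _ ha hb => rw [map_add, ha, hb, add_zero]
    | smul c a _ ha => rw [map_smul, ha, smul_zero]
  rw [Algebra.formallyUnramified_iff]
  refine ⟨fun a b => ?_⟩
  suffices h : (⊤ : Submodule K Ω[K⁄M]) ≤ ⊥ by
    rw [(Submodule.mem_bot K).1 (h (Submodule.mem_top (x := a))),
      (Submodule.mem_bot K).1 (h (Submodule.mem_top (x := b)))]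
  rw [← span_range_derivation M K, Submodule.span_le]
  rintro _ ⟨z, rfl⟩
  obtain ⟨z, rfl⟩ := IsLocalRing.residue_surjective z
  rw [SetLike.mem_coe, Submodule.mem_bot, ← hq, hzero]

theorem exists_spanning [Algebra.EssFiniteType k A] {m : ℕ}
    (hm : Module.finrank (ResidueField A) (ResidueField A ⊗[A] Ω[A⁄k]) ≤ m) :
    ∃ y : Fin m → A, Submodule.span A (Set.range fun i => D k A (y i)) = ⊤ := by
  classical
  let K := ResidueField A
  let T := K ⊗[A] Ω[A⁄k]
  haveI : Module.Finite K T := inferInstance
  let s : Set T := Set.range fun a : A => (1 : K) ⊗ₜ[A] D k A a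
  have hs : Submodule.span K s = ⊤ := by
    refine eq_top_iff.2 fun z _ => ?_
    induction z using TensorProduct.induction_on with
    | zero => exact Submodule.zero_mem _
    | add a b ha hb => exact Submodule.add_mem _ (ha trivial) (hb trivial)
    | tmul c w =>
      rw [show c ⊗ₜ[A] w = c • ((1 : K) ⊗ₜ[A] w) by rw [TensorProduct.smul_tmul', smul_eq_mul, mul_one]]
      refine Submodule.smul_mem _ _ ?_
      have hw : w ∈ Submodule.span A (Set.range (D k A)) := span_range_derivation k A ▸ Submodule.mem_top
      clear * - hw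
      induction hw using Submodule.span_induction with
      | mem z hz => obtain ⟨a, rfl⟩ := hz; exact Submodule.subset_span ⟨a, rfl⟩
      | zero => rw [TensorProduct.tmul_zero]; exact Submodule.zero_mem _
      | add a b _ _ ha hb => rw [TensorProduct.tmul_add]; exact Submodule.add_mem _ ha hb
      | smul r a _ ha =>
        rw [TensorProduct.tmul_smul, ← algebraMap_smul K r]
        exact Submodule.smul_mem _ _ ha
  obtain ⟨b, hbs, hbspan, hbli⟩ := exists_linearIndependent K s
  rw [hs] at hbspan
  haveI : Fintype b := hbli.setFinite.fintype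
  let B : Module.Basis b K T := Module.Basis.mk hbli (by rw [Subtype.range_coe, hbspan])
  have hcard : Fintype.card b ≤ m := by
    rw [← Module.finrank_eq_card_basis B]; exact hm
  choose f hf using fun v : b => hbs v.2
  let e := Fintype.equivFin b
  let y : Fin m → A := fun i => if h : (i : ℕ) < Fintype.card b then f (e.symm ⟨i, h⟩) else 0
  refine ⟨y, ?_⟩
  rw [← IsLocalRing.map_tensorProduct_mk_eq_top, Submodule.map_span,
    ← Submodule.restrictScalars_span A K IsLocalRing.residue_surjective,
    Submodule.restrictScalars_eq_top_iff, eq_top_iff, ← hbspan, Submodule.span_le]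
  intro v hv
  refine Submodule.subset_span ⟨D k A (y ⟨e ⟨v, hv⟩, lt_of_lt_of_le (e ⟨v, hv⟩).2 hcard⟩), ⟨_, rfl⟩, ?_⟩
  have : y ⟨e ⟨v, hv⟩, lt_of_lt_of_le (e ⟨v, hv⟩).2 hcard⟩ = f ⟨v, hv⟩ := by
    simp only [y]
    rw [dif_pos (e ⟨v, hv⟩).2, Fin.eta, Equiv.symm_apply_apply]
  rw [this]
  exact hf ⟨v, hv⟩

theorem exists_generators [Infinite k] (p : ℕ) [Fact p.Prime] [CharP k p] [Algebra.EssFiniteType k A]
    {m : ℕ} (hm : Module.finrank (ResidueField A) (ResidueField A ⊗[A] Ω[A⁄k]) ≤ m)
    (htr : Cardinal.toNat (Algebra.trdeg k (ResidueField A)) < m) :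
    ∃ y : Fin m → A, Submodule.span A (Set.range fun i => D k A (y i)) = ⊤ ∧
      IntermediateField.adjoin k (Set.range fun i => residue A (y i)) = ⊤ := by
  classical
  let K := ResidueField A
  haveI : Algebra.EssFiniteType A K :=
    Algebra.EssFiniteType.of_surjective (Algebra.ofId A K) IsLocalRing.residue_surjective
  haveI : Algebra.EssFiniteType k K := Algebra.EssFiniteType.comp k A K
  haveI : CharP A p := charP_of_injective_algebraMap (algebraMap k A).injective p
  obtain ⟨y₀, hy₀⟩ := exists_spanning (k := k) hm
  -- an index whose element is algebraic over the others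
  let K₁ := IntermediateField.adjoin k (Set.range fun i => residue A (y₀ i))
  haveI := formallyUnramified_of_span y₀ hy₀ K₁ fun i => IntermediateField.subset_adjoin k _ ⟨i, rfl⟩
  haveI : Algebra.EssFiniteType K₁ K := Algebra.EssFiniteType.of_comp k K₁ K
  haveI : Algebra.IsSeparable K₁ K := Algebra.FormallyUnramified.isSeparable K₁ K
  haveI : Algebra.IsAlgebraic (Algebra.adjoin k (Set.range fun i => residue A (y₀ i))) K :=
    IntermediateField.isAlgebraic_adjoin_iff_top.1 inferInstance
  obtain ⟨t, hts, ht⟩ := exists_isTranscendenceBasis_subset (R := k) (Set.range fun i => residue A (y₀ i))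
  haveI : Fintype t := ((Set.finite_range _).subset hts).fintype
  choose ι hι using fun v : t => hts v.2
  obtain ⟨j, hj⟩ : ∃ j, j ∉ Finset.univ.image ι := by
    refine (not_forall.1 fun h => ?_)
    refine absurd (Finset.eq_univ_iff_forall.2 h) ((Finset.card_lt_iff_ne_univ _).1 ?_)
    rw [Fintype.card_fin]
    refine lt_of_le_of_lt Finset.card_image_le ?_
    rw [Finset.card_univ]
    have h := ht.cardinalMk_eq_trdeg
    rw [Cardinal.mk_fintype] at h
    rwa [← h, Cardinal.toNat_natCast] at htr
  -- normalise the chosen element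
  let y₁ : Fin m → A := Function.update y₀ j (if residue A (y₀ j) = 0 then y₀ j + 1 else y₀ j)
  have hD₁ : ∀ i, D k A (y₁ i) = D k A (y₀ i) := by
    intro i
    rcases eq_or_ne i j with rfl | hne
    · simp only [y₁, Function.update_self]
      split_ifs <;> simp
    · simp only [y₁, Function.update_of_ne hne]
  have hy₁ : Submodule.span A (Set.range fun i => D k A (y₁ i)) = ⊤ := by simp only [hD₁, hy₀]
  have hβ : residue A (y₁ j) ≠ 0 := by
    simp only [y₁, Function.update_self]
    split_ifs with h
    · rw [map_add, h, map_one, zero_add]; exact one_ne_zero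
    · exact h
  let F := IntermediateField.adjoin k ((fun i => residue A (y₁ i)) '' {i | i ≠ j})
  have htF : IntermediateField.adjoin k t ≤ F := by
    refine IntermediateField.adjoin.mono _ _ _ fun v hv => ?_
    have hne : ι ⟨v, hv⟩ ≠ j := fun h => hj (Finset.mem_image.2 ⟨_, Finset.mem_univ _, h⟩)
    refine ⟨ι ⟨v, hv⟩, hne, ?_⟩
    show residue A (y₁ (ι ⟨v, hv⟩)) = v
    simp only [y₁, Function.update_of_ne hne]
    exact hι ⟨v, hv⟩
  haveI : Algebra.IsAlgebraic F K := by
    haveI : Algebra.IsAlgebraic (IntermediateField.adjoin k t) K := by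
      have := ht.isAlgebraic_field
      rwa [Subtype.range_coe] at this
    letI : Algebra (IntermediateField.adjoin k t) F := (IntermediateField.inclusion htF).toRingHom.toAlgebra
    haveI : IsScalarTower (IntermediateField.adjoin k t) F K := IsScalarTower.of_algebraMap_eq fun _ => rfl
    exact Algebra.IsAlgebraic.tower_top (K := IntermediateField.adjoin k t) F
  haveI : Algebra.EssFiniteType F K := Algebra.EssFiniteType.of_comp k F K
  haveI : FiniteDimensional F K := Algebra.finite_of_essFiniteType_of_isAlgebraic
  haveI : Infinite F := Infinite.of_injective (algebraMap k F) (algebraMap k F).injective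
  haveI : CharP F p := charP_of_injective_algebraMap (algebraMap k F).injective p
  set β := residue A (y₁ j) with hβdef
  haveI : Algebra.IsSeparable (IntermediateField.adjoin F {β}) K := by
    let M : IntermediateField k K := (IntermediateField.adjoin F {β}).restrictScalars k
    haveI := formallyUnramified_of_span y₁ hy₁ M fun i => by
      rcases eq_or_ne i j with rfl | hne
      · exact IntermediateField.mem_adjoin_simple_self F β
      · exact (IntermediateField.adjoin F {β}).algebraMap_mem
          ⟨_, IntermediateField.subset_adjoin k _ ⟨i, hne, rfl⟩⟩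
    haveI : Algebra.EssFiniteType M K := Algebra.EssFiniteType.of_comp k M K
    exact (Algebra.FormallyUnramified.isSeparable M K : Algebra.IsSeparable M K)
  obtain ⟨γ, hγ, htop⟩ := exists_mul_pow_generator (F := F) p β hβ inferInstance
  obtain ⟨g, rfl⟩ := IsLocalRing.residue_surjective γ
  have hg : IsUnit g := (IsLocalRing.residue_ne_zero_iff_isUnit g).1 hγ
  let y : Fin m → A := Function.update y₁ j (y₁ j * g ^ p)
  have hDj : D k A (y₁ j * g ^ p) = g ^ p • D k A (y₁ j) := by
    rw [Derivation.leibniz, Derivation.leibniz_pow, ← Nat.cast_smul_eq_nsmul A p, CharP.cast_eq_zero, zero_smul,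
      smul_zero, zero_add]
  refine ⟨y, ?_, ?_⟩
  · rw [eq_top_iff, ← hy₁, Submodule.span_le]
    rintro _ ⟨i, rfl⟩
    rcases eq_or_ne i j with rfl | hne
    · obtain ⟨w, hw⟩ := (hg.pow p).exists_left_inv
      have h : D k A (y i) ∈ Submodule.span A (Set.range fun i => D k A (y i)) :=
        Submodule.subset_span ⟨i, rfl⟩
      have h2 := Submodule.smul_mem _ w h
      simp only [y, Function.update_self] at h2 ⊢
      rw [hDj, smul_smul, hw, one_smul] at h2
      exact h2
    · refine Submodule.subset_span ⟨i, ?_⟩
      simp only [y, Function.update_of_ne hne]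
  · have h1 := congrArg (IntermediateField.restrictScalars k) htop
    rw [IntermediateField.restrictScalars_top, IntermediateField.adjoin_adjoin_left] at h1
    rw [eq_top_iff, ← h1]
    refine IntermediateField.adjoin.mono k _ _ (Set.union_subset ?_ ?_)
    · rintro _ ⟨i, hne, rfl⟩
      refine ⟨i, ?_⟩
      simp only [y, Function.update_of_ne (show i ≠ j from hne)]
    · rintro _ rfl
      refine ⟨j, ?_⟩
      simp only [y, Function.update_self, map_mul, map_pow, hβdef]

end

end Groth.Agent.CAlg1.Pop
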