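import Mathlib

/-!
A subalgebra of an Artinian local algebra generating the differentials and the residue field is everything.
-/

set_option autoImplicit false
universe u

open IsLocalRing KaehlerDifferential

namespace Groth.Agent.CAlg1.Pop

theorem subalgebra_eq_top_of_span {k A : Type u} [Field k] [CommRing A] [IsLocalRing A]
    [IsArtinianRing A] [Algebra k A] (B : Subalgebra k A)
    (hres : ∀ a : A, ∃ b ∈ B, a - b ∈ maximalIdeal A)
    (hspan : Submodule.span A ((fun b => D k A b) '' (B : Set A)) = ⊤) : B = ⊤ := by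
  let S : Set A := {x | x ∈ B ∧ x ∈ maximalIdeal A}
  let N : Ideal A := Ideal.span S ⊔ maximalIdeal A ^ 2
  let β : B →ₐ[k] ResidueField A := (IsScalarTower.toAlgHom k A (ResidueField A)).comp B.val
  have hmk : ∀ a b : A, a - b ∈ maximalIdeal A → residue A a = residue A b := fun a b h => by
    rw [← sub_eq_zero, ← map_sub]; exact (residue_eq_zero_iff _).2 h
  have hβ : Function.Surjective β := fun z => by
    obtain ⟨a, rfl⟩ := residue_surjective z
    obtain ⟨b, hb, hab⟩ := hres a
    refine ⟨⟨b, hb⟩, ?_⟩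
    exact (hmk a b hab).symm
  let γ : B →ₐ[k] A ⧸ N := (Ideal.Quotient.mkₐ k N).comp B.val
  have hγ : ∀ b, b ∈ RingHom.ker β → γ b = 0 := fun b hb => Ideal.Quotient.eq_zero_iff_mem.2
    (Ideal.mem_sup_left (Ideal.subset_span ⟨b.2, (residue_eq_zero_iff _).1 hb⟩))
  let s : A →ₐ[k] A ⧸ N :=
    ((Ideal.Quotient.liftₐ (RingHom.ker β) γ hγ).comp
      (Ideal.quotientKerAlgEquivOfSurjective (f := β) hβ).symm.toAlgHom).comp
      (IsScalarTower.toAlgHom k A (ResidueField A))
  have hsβ : ∀ (a : A) (b : B), residue A a = β b → s a = γ b := fun a b h => by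
    show Ideal.Quotient.liftₐ (RingHom.ker β) γ hγ
      ((Ideal.quotientKerAlgEquivOfSurjective (f := β) hβ).symm (residue A a)) = γ b
    rw [h, show β b = Ideal.quotientKerAlgEquivOfSurjective (f := β) hβ (Ideal.Quotient.mk _ b) from rfl,
      AlgEquiv.symm_apply_apply]
    rfl
  have hsm : ∀ a ∈ maximalIdeal A, s a = 0 := fun a ha => by
    rw [hsβ a 0 (by rw [(residue_eq_zero_iff a).2 ha, map_zero]), map_zero]
  have hsq : ∀ a b : A, (Ideal.Quotient.mk N a - s a) * (Ideal.Quotient.mk N b - s b) = 0 := by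
    intro a b
    obtain ⟨a', ha', haa⟩ := hres a
    obtain ⟨b', hb', hbb⟩ := hres b
    rw [hsβ a ⟨a', ha'⟩ (hmk _ _ haa),
      hsβ b ⟨b', hb'⟩ (hmk _ _ hbb)]
    show (Ideal.Quotient.mk N a - Ideal.Quotient.mk N a') *
      (Ideal.Quotient.mk N b - Ideal.Quotient.mk N b') = 0
    rw [← map_sub, ← map_sub, ← map_mul, Ideal.Quotient.eq_zero_iff_mem]
    refine Ideal.mem_sup_right ?_
    rw [pow_two]
    exact Ideal.mul_mem_mul haa hbb
  let l : A →ₗ[k] A ⧸ N := (Ideal.Quotient.mkₐ k N).toLinearMap - s.toLinearMap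
  let δ : Derivation k A (A ⧸ N) := Derivation.mk' l fun a b => by
    show Ideal.Quotient.mk N (a * b) - s (a * b) =
      a • (Ideal.Quotient.mk N b - s b) + b • (Ideal.Quotient.mk N a - s a)
    rw [Algebra.smul_def, Algebra.smul_def, Ideal.Quotient.algebraMap_eq, map_mul, map_mul]
    linear_combination (-1 : A ⧸ N) * hsq a b
  have hδB : ∀ b ∈ B, δ b = 0 := fun b hb => by
    show Ideal.Quotient.mk N b - s b = 0
    rw [hsβ b ⟨b, hb⟩ rfl]
    exact sub_self _
  have hlift : δ.liftKaehlerDifferential = 0 := by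
    refine LinearMap.ext_on hspan ?_
    rintro _ ⟨b, hb, rfl⟩
    rw [Derivation.liftKaehlerDifferential_comp_D, hδB b hb]
    rfl
  have hle : maximalIdeal A ≤ Ideal.span S ⊔ maximalIdeal A • maximalIdeal A := by
    intro a ha
    have h0 : δ a = 0 := by rw [← δ.liftKaehlerDifferential_comp_D, hlift]; rfl
    have h1 : Ideal.Quotient.mk N a - s a = 0 := h0
    rw [hsm a ha, sub_zero, Ideal.Quotient.eq_zero_iff_mem] at h1
    rwa [smul_eq_mul, ← pow_two]
  have hm : maximalIdeal A = Ideal.span S :=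
    le_antisymm (Submodule.le_of_le_smul_of_le_jacobson_bot (maximalIdeal A).fg_of_isNoetherianRing
      (maximalIdeal_le_jacobson _) hle) (Ideal.span_le.2 fun x hx => hx.2)
  have hstep : ∀ j : ℕ, ∀ x ∈ maximalIdeal A ^ j, ∃ b ∈ B, x - b ∈ maximalIdeal A ^ (j + 1) := by
    intro j
    induction j with
    | zero => intro x _; simpa using hres x
    | succ j ih =>
      intro x hx
      rw [pow_succ] at hx
      refine Submodule.mul_induction_on hx (fun y hy z hz => ?_) fun a b iha ihb => ?_
      · rw [hm] at hz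
        induction hz using Submodule.span_induction generalizing y with
        | mem g hg =>
          obtain ⟨b, hb, hyb⟩ := ih y hy
          refine ⟨b * g, B.mul_mem hb hg.1, ?_⟩
          rw [← sub_mul, pow_succ _ (j + 1)]
          exact Ideal.mul_mem_mul hyb hg.2
        | zero => exact ⟨0, B.zero_mem, by simp⟩
        | add a b _ _ iha ihb =>
          obtain ⟨u, hu, hua⟩ := iha y hy
          obtain ⟨v, hv, hvb⟩ := ihb y hy
          exact ⟨u + v, B.add_mem hu hv, by
            rw [mul_add, add_sub_add_comm]; exact add_mem hua hvb⟩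
        | smul c a _ iha =>
          rw [smul_eq_mul, ← mul_assoc]
          exact iha (y * c) (Ideal.mul_mem_right _ _ hy)
      · obtain ⟨u, hu, hua⟩ := iha
        obtain ⟨v, hv, hvb⟩ := ihb
        exact ⟨u + v, B.add_mem hu hv, by rw [add_sub_add_comm]; exact add_mem hua hvb⟩
  have hall : ∀ (j : ℕ) (x : A), ∃ b ∈ B, x - b ∈ maximalIdeal A ^ j := by
    intro j
    induction j with
    | zero => exact fun x => ⟨0, B.zero_mem, by simp⟩
    | succ j ih =>
      intro x
      obtain ⟨b, hb, hxb⟩ := ih x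
      obtain ⟨c, hc, hxc⟩ := hstep j _ hxb
      exact ⟨b + c, B.add_mem hb hc, by rwa [← sub_sub]⟩
  obtain ⟨n, hn⟩ : IsNilpotent (maximalIdeal A) := by
    rw [← IsLocalRing.jacobson_eq_maximalIdeal (⊥ : Ideal A) bot_ne_top]
    exact IsArtinianRing.isNilpotent_jacobson_bot
  refine eq_top_iff.2 fun x _ => ?_
  obtain ⟨b, hb, hxb⟩ := hall n x
  rw [hn, Submodule.zero_eq_bot, Ideal.mem_bot, sub_eq_zero] at hxb
  rwa [hxb]

end Groth.Agent.CAlg1.Pop
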