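import Groth.Prelude
import Groth.Agent.Sep12.Index

/-!
Differentials of an Artinian local algebra at the closed point: dimension at most
`edim + trdeg` when derivations of the base extend.
-/

set_option autoImplicit false
universe u

open TensorProduct KaehlerDifferential IsLocalRing

namespace Groth.Agent.CAlg1.Pop

theorem index_bound {F : Type u} [Field F] {U W V T : Type u} [AddCommGroup U] [Module F U]
    [AddCommGroup W] [Module F W] [AddCommGroup V] [Module F V] [AddCommGroup T] [Module F T]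
    (φ : U →ₗ[F] W) (π : W →ₗ[F] V) (q : W →ₗ[F] T) (hφ : Function.Injective φ)
    (hπ : Function.Surjective π) (hq : Function.Surjective q) (hqφ : ∀ x, q (φ x) = 0)
    [Module.Finite F (LinearMap.ker π)] {n : ℤ} (hn : Sep12.HasIndex (π ∘ₗ φ) n) :
    Module.Finite F T ∧ (Module.finrank F T : ℤ) ≤ Module.finrank F (LinearMap.ker π) + n := by
  obtain ⟨hk, hc, heq⟩ := hn
  let T' : Submodule F T := (LinearMap.ker π).map q
  haveI : Module.Finite F T' := Module.Finite.map _ q
  -- the part coming from `ker π`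
  let g : LinearMap.ker π →ₗ[F] T' :=
    (q ∘ₗ (LinearMap.ker π).subtype).codRestrict T' fun x => ⟨x.1, x.2, rfl⟩
  have hg : Function.Surjective g := by
    rintro ⟨_, x, hx, rfl⟩
    exact ⟨⟨x, hx⟩, rfl⟩
  have hrk := g.finrank_range_add_finrank_ker
  rw [LinearMap.range_eq_top.2 hg, finrank_top] at hrk
  let j : LinearMap.ker (π ∘ₗ φ) →ₗ[F] LinearMap.ker g :=
    LinearMap.codRestrict _ (LinearMap.codRestrict _ (φ ∘ₗ (LinearMap.ker (π ∘ₗ φ)).subtype) fun x => x.2)
      fun x => Subtype.ext (hqφ x.1)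
  have hj : Function.Injective j := fun a b h =>
    Subtype.ext (hφ (congrArg (fun z : LinearMap.ker g => (z.1 : W)) h))
  have hjle := LinearMap.finrank_le_finrank_of_injective hj
  -- the quotient
  let f : W →ₗ[F] V ⧸ LinearMap.range (π ∘ₗ φ) := (LinearMap.range (π ∘ₗ φ)).mkQ ∘ₗ π
  let q' : W →ₗ[F] T ⧸ T' := T'.mkQ ∘ₗ q
  have hker : LinearMap.ker f ≤ LinearMap.ker q' := by
    intro w hw
    obtain ⟨x, hx⟩ := (Submodule.Quotient.mk_eq_zero _).1 (LinearMap.mem_ker.1 hw)
    refine (Submodule.Quotient.mk_eq_zero _).2 ⟨w - φ x, ?_, ?_⟩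
    · show π (w - φ x) = 0
      rw [map_sub, ← hx, LinearMap.comp_apply, sub_self]
    · rw [map_sub, hqφ, sub_zero]
  let fe := f.quotKerEquivOfSurjective ((Submodule.mkQ_surjective _).comp hπ)
  let h : (V ⧸ LinearMap.range (π ∘ₗ φ)) →ₗ[F] T ⧸ T' :=
    (LinearMap.ker f).liftQ q' hker ∘ₗ fe.symm.toLinearMap
  have hh : Function.Surjective h := by
    intro t
    obtain ⟨t, rfl⟩ := T'.mkQ_surjective t
    obtain ⟨w, rfl⟩ := hq t
    exact ⟨fe (Submodule.Quotient.mk w), by simp [h, q']⟩
  haveI : Module.Finite F (T ⧸ T') := Module.Finite.of_surjective h hh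
  haveI : Module.Finite F T := Module.Finite.of_submodule_quotient T'
  refine ⟨inferInstance, ?_⟩
  have h1 := T'.finrank_quotient_add_finrank
  have h2 := LinearMap.finrank_le_finrank_of_surjective hh
  omega

variable (k A : Type u) [Field k] [CommRing A] [IsLocalRing A] [Algebra k A]

theorem finrank_kaehler_le [Algebra.EssFiniteType k A] {d : ℕ} (π : Fin d → A)
    (hπ : Ideal.span (Set.range π) = maximalIdeal A)
    (hext : ∀ δ : Derivation ℤ k (ResidueField A), ∃ D : Derivation ℤ A (ResidueField A),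
      ∀ x, D (algebraMap k A x) = δ x) :
    Module.finrank (ResidueField A) (ResidueField A ⊗[A] Ω[A⁄k]) ≤
      d + Cardinal.toNat (Algebra.trdeg k (ResidueField A)) := by
  classical
  let K := ResidueField A
  haveI : Algebra.EssFiniteType A K :=
    Algebra.EssFiniteType.of_surjective (Algebra.ofId A K) IsLocalRing.residue_surjective
  haveI : Algebra.EssFiniteType k K := Algebra.EssFiniteType.comp k A K
  let f : Ω[k⁄ℤ] →ₗ[k] K ⊗[A] Ω[A⁄ℤ] :=
    ((TensorProduct.mk A K Ω[A⁄ℤ] 1).restrictScalars k).comp (KaehlerDifferential.map ℤ ℤ k A)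
  let φ : K ⊗[k] Ω[k⁄ℤ] →ₗ[K] K ⊗[A] Ω[A⁄ℤ] := f.liftBaseChange K
  let pW : K ⊗[A] Ω[A⁄ℤ] →ₗ[K] Ω[K⁄ℤ] := mapBaseChange ℤ A K
  let q : K ⊗[A] Ω[A⁄ℤ] →ₗ[K] K ⊗[A] Ω[A⁄k] :=
    LinearMap.baseChange K (KaehlerDifferential.map ℤ k A A)
  have hψ : pW ∘ₗ φ = mapBaseChange ℤ k K := by
    refine TensorProduct.AlgebraTensorModule.ext fun c ω => ?_
    have : pW.restrictScalars k ∘ₗ f = KaehlerDifferential.map ℤ ℤ k K := by
      refine Derivation.liftKaehlerDifferential_unique _ _ (Derivation.ext fun x => ?_)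
      show pW (1 ⊗ₜ KaehlerDifferential.map ℤ ℤ k A (D ℤ k x)) = KaehlerDifferential.map ℤ ℤ k K (D ℤ k x)
      rw [map_D, map_D, mapBaseChange_tmul, map_D, one_smul, ← IsScalarTower.algebraMap_apply]
    rw [LinearMap.comp_apply, LinearMap.liftBaseChange_tmul, map_smul, mapBaseChange_tmul]
    congr 1
    exact LinearMap.congr_fun this ω
  have hφ : Function.Injective φ := by
    refine (injective_iff_map_eq_zero φ).2 fun z hz => ?_
    by_contra hz0
    obtain ⟨F, hF⟩ : ∃ F : K ⊗[k] Ω[k⁄ℤ] →ₗ[K] K, F z ≠ 0 := by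
      by_contra hcon
      push Not at hcon
      exact hz0 ((Module.forall_dual_apply_eq_zero_iff K z).1 hcon)
    let δ : Derivation ℤ k K :=
      ((F.restrictScalars k).comp ((TensorProduct.mk k K Ω[k⁄ℤ]) 1)).compDer (D ℤ k)
    obtain ⟨D', hD'⟩ := hext δ
    let g : K ⊗[A] Ω[A⁄ℤ] →ₗ[K] K := (D'.liftKaehlerDifferential).liftBaseChange K
    have hg : g ∘ₗ φ = F := by
      refine TensorProduct.AlgebraTensorModule.ext fun c ω => ?_
      have : g.restrictScalars k ∘ₗ f = F.restrictScalars k ∘ₗ (TensorProduct.mk k K Ω[k⁄ℤ]) 1 := by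
        refine Derivation.liftKaehlerDifferential_unique _ _ (Derivation.ext fun x => ?_)
        show g (1 ⊗ₜ KaehlerDifferential.map ℤ ℤ k A (D ℤ k x)) = δ x
        rw [map_D, LinearMap.liftBaseChange_tmul, one_smul, Derivation.liftKaehlerDifferential_comp_D, hD']
      rw [LinearMap.comp_apply, LinearMap.liftBaseChange_tmul, map_smul,
        show g (f ω) = F (1 ⊗ₜ ω) from LinearMap.congr_fun this ω, ← map_smul,
        TensorProduct.smul_tmul', smul_eq_mul, mul_one]
    refine hF ?_
    rw [← hg, LinearMap.comp_apply, hz, map_zero]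
  have hqφ : ∀ x, q (φ x) = 0 := by
    intro x
    induction x using TensorProduct.induction_on with
    | zero => rw [map_zero, map_zero]
    | add a b ha hb => rw [map_add, map_add, ha, hb, add_zero]
    | tmul c ω =>
      rw [LinearMap.liftBaseChange_tmul, map_smul]
      refine smul_eq_zero_of_right c ?_
      show q (1 ⊗ₜ KaehlerDifferential.map ℤ ℤ k A ω) = 0
      rw [LinearMap.baseChange_tmul]
      have h0 := (exact_mapBaseChange_map ℤ k A).apply_apply_eq_zero ((1 : A) ⊗ₜ ω)
      rw [mapBaseChange_tmul, one_smul] at h0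
      rw [h0, TensorProduct.tmul_zero]
  have hq : Function.Surjective q := LinearMap.baseChange_surjective K (map_surjective ℤ k A)
  have hpW : Function.Surjective pW := by
    intro y
    have : y ∈ Submodule.span K (Set.range (D ℤ K)) := by
      rw [span_range_derivation]; trivial
    induction this using Submodule.span_induction with
    | mem z hz =>
      obtain ⟨w, rfl⟩ := hz
      obtain ⟨w, rfl⟩ := IsLocalRing.residue_surjective w
      exact ⟨1 ⊗ₜ D ℤ A w, by rw [mapBaseChange_tmul, map_D, one_smul]; rfl⟩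
    | zero => exact ⟨0, map_zero _⟩
    | add a b _ _ ha hb =>
      obtain ⟨a', rfl⟩ := ha; obtain ⟨b', rfl⟩ := hb
      exact ⟨a' + b', map_add _ _ _⟩
    | smul c a _ ha =>
      obtain ⟨a', rfl⟩ := ha
      exact ⟨c • a', map_smul _ _ _⟩
  have hkerle : LinearMap.ker pW ≤
      Submodule.span K (Set.range fun i => (1 : K) ⊗ₜ[A] D ℤ A (π i)) := by
    intro w hw
    obtain ⟨c, rfl⟩ := (exact_kerCotangentToTensor_mapBaseChange ℤ A K
      IsLocalRing.residue_surjective w).1 hw
    obtain ⟨⟨x, hx⟩, rfl⟩ := Ideal.toCotangent_surjective _ c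
    rw [kerCotangentToTensor_toCotangent]
    have hx' : x ∈ maximalIdeal A := (IsLocalRing.residue_eq_zero_iff x).1 hx
    rw [← hπ, Ideal.mem_span_range_iff_exists_fun] at hx'
    obtain ⟨c, rfl⟩ := hx'
    simp only [map_sum, Derivation.leibniz, TensorProduct.tmul_sum, TensorProduct.tmul_add]
    refine Submodule.sum_mem _ fun i _ => Submodule.add_mem _ ?_ ?_
    · rw [TensorProduct.tmul_smul, ← algebraMap_smul K (c i)]
      exact Submodule.smul_mem _ _ (Submodule.subset_span ⟨i, rfl⟩)
    · rw [TensorProduct.tmul_smul, ← algebraMap_smul K (π i)]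
      rw [show algebraMap A K (π i) = 0 from (IsLocalRing.residue_eq_zero_iff _).2
        (hπ ▸ Ideal.subset_span ⟨i, rfl⟩), zero_smul]
      exact Submodule.zero_mem _
  haveI : Module.Finite K (Submodule.span K (Set.range fun i => (1 : K) ⊗ₜ[A] D ℤ A (π i))) :=
    Module.Finite.span_of_finite K (Set.finite_range _)
  haveI : IsNoetherian K (Submodule.span K (Set.range fun i => (1 : K) ⊗ₜ[A] D ℤ A (π i))) :=
    isNoetherian_span_of_finite K (Set.finite_range _)
  haveI : Module.Finite K (LinearMap.ker pW) :=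
    Module.Finite.of_injective (Submodule.inclusion hkerle) (Submodule.inclusion_injective hkerle)
  have hd : Module.finrank K (LinearMap.ker pW) ≤ d :=
    (Submodule.finrank_mono hkerle).trans ((finrank_span_le_card _).trans (by
      rw [Set.toFinset_range]
      exact Finset.card_image_le.trans (by simp)))
  have hidx : Sep12.HasIndex (pW ∘ₗ φ) (Cardinal.toNat (Algebra.trdeg k K)) := by
    rw [hψ]; exact Sep12.hasIndex_mapBaseChange
  obtain ⟨-, h⟩ := index_bound φ pW q hφ hpW hq hqφ hidx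
  have h' : (Module.finrank K (K ⊗[A] Ω[A⁄k]) : ℤ) ≤ (d : ℤ) + (Cardinal.toNat (Algebra.trdeg k K) : ℤ) :=
    h.trans (add_le_add (by exact_mod_cast hd) le_rfl)
  exact_mod_cast h'

end Groth.Agent.CAlg1.Pop
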