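import Groth.Prelude
import Groth.Agent.CAlg4.H1Inj
import Mathlib

/-!
Derivations of the base extend to adically formally smooth local algebras; finiteness of `H₁` of the
residue field.
-/

set_option autoImplicit false
universe u

open IsLocalRing

namespace Groth.Agent.CAlg1.Pop

theorem exists_derivation_extend {k L : Type u} [Field k] [CommRing L] [IsLocalRing L] [Algebra k L]
    (h : CAlgX.IsAdicFormallySmooth k L (maximalIdeal L)) (δ : Derivation ℤ k (ResidueField L)) :
    ∃ D : Derivation ℤ L (ResidueField L), ∀ x, D (algebraMap k L x) = δ x := by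
  let σ : k →+* (TrivSqZeroExt (ResidueField L) (ResidueField L)) :=
    { toFun := fun c => TrivSqZeroExt.inl (algebraMap k (ResidueField L) c) + TrivSqZeroExt.inr (δ c)
      map_one' := by ext <;> simp
      map_zero' := by ext <;> simp
      map_add' := fun a b => by ext <;> simp
      map_mul' := fun a b => by
        ext
        · simp
        · simp only [TrivSqZeroExt.snd_mul, TrivSqZeroExt.snd_add, TrivSqZeroExt.fst_add, TrivSqZeroExt.snd_inl,
            TrivSqZeroExt.snd_inr, TrivSqZeroExt.fst_inl, TrivSqZeroExt.fst_inr, Derivation.leibniz,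
            smul_eq_mul, MulOpposite.smul_eq_mul_unop, MulOpposite.unop_op, op_smul_eq_smul]
          simp only [Algebra.smul_def]; ring }
  letI : Algebra k (TrivSqZeroExt (ResidueField L) (ResidueField L)) := σ.toAlgebra
  let J : Ideal (TrivSqZeroExt (ResidueField L) (ResidueField L)) := RingHom.ker (TrivSqZeroExt.fstHom (ResidueField L) (ResidueField L) (ResidueField L)).toRingHom
  have hJ : ∀ z ∈ J, TrivSqZeroExt.fst z = 0 := fun z hz => hz
  have hJ2 : J ^ 2 = ⊥ := by
    rw [eq_bot_iff, pow_two, Ideal.mul_le]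
    intro a ha b hb
    rw [Ideal.mem_bot]
    ext
    · simp [hJ a ha]
    · simp [TrivSqZeroExt.snd_mul, hJ a ha, hJ b hb]
  let f : L →+* (TrivSqZeroExt (ResidueField L) (ResidueField L)) ⧸ J := (Ideal.Quotient.mk J).comp ((TrivSqZeroExt.inlHom (ResidueField L) (ResidueField L)).comp (residue L))
  let ψ : L →ₐ[k] (TrivSqZeroExt (ResidueField L) (ResidueField L)) ⧸ J :=
    { f with
      commutes' := fun c => by
        refine Ideal.Quotient.eq.2 ?_
        show TrivSqZeroExt.fst (TrivSqZeroExt.inl (residue L (algebraMap k L c)) - σ c) = 0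
        simp [σ, ← IsLocalRing.ResidueField.algebraMap_eq, ← IsScalarTower.algebraMap_apply] }
  obtain ⟨χ, hχ⟩ := h (TrivSqZeroExt (ResidueField L) (ResidueField L)) J hJ2 ψ ⟨1, fun x hx => by
    rw [pow_one] at hx
    show Ideal.Quotient.mk J (TrivSqZeroExt.inl (residue L x)) = 0
    rw [(residue_eq_zero_iff x).2 hx, TrivSqZeroExt.inl_zero, map_zero]⟩
  have hfst : ∀ x, TrivSqZeroExt.fst (χ x) = residue L x := fun x => by
    have h1 : Ideal.Quotient.mk J (χ x) = Ideal.Quotient.mk J (TrivSqZeroExt.inl (residue L x)) :=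
      DFunLike.congr_fun hχ x
    have h2 := hJ _ (Ideal.Quotient.eq.1 h1)
    rw [TrivSqZeroExt.fst_sub, TrivSqZeroExt.fst_inl, sub_eq_zero] at h2; exact h2
  refine ⟨Derivation.mk' (AddMonoidHom.toIntLinearMap
    { toFun := fun x => TrivSqZeroExt.snd (χ x)
      map_zero' := by simp
      map_add' := fun a b => by simp }) fun a b => ?_, fun c => ?_⟩
  · show TrivSqZeroExt.snd (χ (a * b)) = a • TrivSqZeroExt.snd (χ b) + b • TrivSqZeroExt.snd (χ a)
    rw [map_mul, TrivSqZeroExt.snd_mul, hfst, hfst]
    simp [Algebra.smul_def, mul_comm]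
  · show TrivSqZeroExt.snd (χ (algebraMap k L c)) = δ c
    rw [AlgHom.commutes]
    show TrivSqZeroExt.snd (σ c) = δ c
    simp [σ]

theorem exists_derivation_subalgebra {k L : Type u} [Field k] [CommRing L] [IsLocalRing L] [Algebra k L]
    (h : CAlgX.IsAdicFormallySmooth k L (maximalIdeal L)) (J : Ideal L) (hJ : J ≤ maximalIdeal L ^ 2)
    (A : Subalgebra k (L ⧸ J)) [IsLocalRing A]
    (hA : (maximalIdeal A).map (algebraMap A (L ⧸ J)) ≤ (maximalIdeal L).map (Ideal.Quotient.mk J))
    (δ : Derivation ℤ k (ResidueField A)) :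
    ∃ D : Derivation ℤ A (ResidueField A), ∀ x, D (algebraMap k A x) = δ x := by
  let K := ResidueField L
  let K₀ := ResidueField A
  have hJm : J ≤ maximalIdeal L := hJ.trans (Ideal.pow_le_self two_ne_zero)
  let ρ : L ⧸ J →ₐ[k] K :=
    Ideal.Quotient.liftₐ J (IsScalarTower.toAlgHom k L K) fun x hx => (residue_eq_zero_iff x).2 (hJm hx)
  let ι₀ : K₀ →ₐ[k] K :=
    Ideal.Quotient.liftₐ (maximalIdeal A) (ρ.comp A.val) fun x hx => by
      have h1 := hA (Ideal.mem_map_of_mem _ hx)
      rw [Ideal.mem_map_iff_of_surjective _ Ideal.Quotient.mk_surjective] at h1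
      obtain ⟨y, hy, he⟩ := h1
      show ρ (x : L ⧸ J) = 0
      rw [show (x : L ⧸ J) = Ideal.Quotient.mk J y from he.symm]
      exact (residue_eq_zero_iff y).2 hy
  letI : Algebra K₀ K := ι₀.toRingHom.toAlgebra
  obtain ⟨r, hr⟩ := LinearMap.exists_leftInverse_of_injective (Algebra.linearMap K₀ K)
    (LinearMap.ker_eq_bot.2 (algebraMap K₀ K).injective)
  have hr' : ∀ c, r (ι₀ c) = c := fun c => DFunLike.congr_fun hr c
  have hrmul : ∀ c v, r (ι₀ c * v) = c * r v := fun c v => by
    rw [← smul_eq_mul c, ← map_smul]; rfl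
  let δ' : Derivation ℤ k K := Derivation.mk' (AddMonoidHom.toIntLinearMap
    { toFun := fun x => ι₀ (δ x)
      map_zero' := by simp
      map_add' := fun a b => by simp }) fun a b => by
        show ι₀ (δ (a * b)) = a • ι₀ (δ b) + b • ι₀ (δ a)
        rw [Derivation.leibniz, map_add, map_smul, map_smul]
  obtain ⟨D, hD⟩ := exists_derivation_extend h δ'
  have hDJ : ∀ x ∈ J, D x = 0 := by
    intro x hx
    have hx' := hJ hx
    rw [pow_two] at hx'
    refine Submodule.mul_induction_on hx' (fun a ha b hb => ?_) fun a b iha ihb => ?_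
    · rw [Derivation.leibniz, Algebra.smul_def, Algebra.smul_def, IsLocalRing.ResidueField.algebraMap_eq,
        (residue_eq_zero_iff a).2 ha, (residue_eq_zero_iff b).2 hb, zero_mul, zero_mul, add_zero]
    · rw [map_add, iha, ihb, add_zero]
  let g : L ⧸ J → L := Function.surjInv Ideal.Quotient.mk_surjective
  have hg : ∀ a, Ideal.Quotient.mk J (g a) = a := Function.surjInv_eq _
  have hDg : ∀ x : L, D (g (Ideal.Quotient.mk J x)) = D x := fun x => by
    have h1 := hDJ _ (Ideal.Quotient.eq.1 (hg (Ideal.Quotient.mk J x)))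
    rwa [map_sub, sub_eq_zero] at h1
  have hDadd : ∀ a b, D (g (a + b)) = D (g a) + D (g b) := fun a b => by
    conv_lhs => rw [← hg a, ← hg b, ← map_add, hDg]
    rw [map_add]
  have hDmul : ∀ a b, D (g (a * b)) = ρ a * D (g b) + ρ b * D (g a) := fun a b => by
    conv_lhs => rw [← hg a, ← hg b, ← map_mul, hDg, Derivation.leibniz]
    conv_rhs => rw [← hg a, ← hg b]
    simp only [Algebra.smul_def, IsLocalRing.ResidueField.algebraMap_eq, hg]
    rw [show ρ a = residue L (g a) by conv_lhs => rw [← hg a]
                                      rfl,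
      show ρ b = residue L (g b) by conv_lhs => rw [← hg b]
                                    rfl]
  have hρι : ∀ a : A, ρ (a : L ⧸ J) = ι₀ (residue A a) := fun _ => rfl
  refine ⟨Derivation.mk' (AddMonoidHom.toIntLinearMap
    { toFun := fun a => r (D (g (a : L ⧸ J)))
      map_zero' := by
        rw [show (((0 : A)) : L ⧸ J) = Ideal.Quotient.mk J 0 from (map_zero _).symm, hDg, map_zero, map_zero]
      map_add' := fun a b => by rw [AddMemClass.coe_add, hDadd, map_add] }) fun a b => ?_, fun c => ?_⟩
  · show r (D (g ((a * b : A) : L ⧸ J))) = a • r (D (g (b : L ⧸ J))) + b • r (D (g (a : L ⧸ J)))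
    rw [MulMemClass.coe_mul, hDmul, map_add, hρι, hρι, hrmul, hrmul, Algebra.smul_def, Algebra.smul_def]
    rfl
  · show r (D (g ((algebraMap k A c : A) : L ⧸ J))) = δ c
    rw [show ((algebraMap k A c : A) : L ⧸ J) = Ideal.Quotient.mk J (algebraMap k L c) from rfl, hDg, hD]
    exact hr' _

theorem finite_h1Cotangent_residueField {k L : Type u} [Field k] [CommRing L] [IsLocalRing L]
    [IsNoetherianRing L] [Algebra k L] (h : CAlgX.IsAdicFormallySmooth k L (maximalIdeal L)) :
    Module.Finite (ResidueField L) (Algebra.H1Cotangent k (ResidueField L)) := by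
  haveI : Algebra.FinitePresentation L (ResidueField L) :=
    Algebra.FinitePresentation.of_finiteType.1
      (Algebra.FiniteType.of_surjective (Algebra.ofId L (ResidueField L)) residue_surjective)
  haveI : Subsingleton Ω[ResidueField L⁄L] := KaehlerDifferential.subsingleton_of_surjective _ _ residue_surjective
  haveI : Module.Finite (ResidueField L) (Algebra.H1Cotangent L (ResidueField L)) := inferInstance
  exact Module.Finite.of_injective _ (Groth.Agent.CAlg4.H1Inj.injective k L h)

theorem finite_h1Cotangent_of_equiv {k K K' : Type u} [Field k] [Field K] [Field K'] [Algebra k K]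
    [Algebra k K'] (e : K ≃ₐ[k] K') (h : Module.Finite K (Algebra.H1Cotangent k K)) :
    Module.Finite K' (Algebra.H1Cotangent k K') := by
  letI := e.toRingHom.toAlgebra
  haveI : IsScalarTower k K K' := .of_algebraMap_eq' e.toAlgHom.comp_algebraMap.symm
  haveI : Module.Finite K (Algebra.H1Cotangent k K') :=
    Module.Finite.of_surjective (Algebra.H1Cotangent.map k k K K') fun x =>
      ⟨(Algebra.H1Cotangent.mapEquiv (R := k) (S := K) (S' := K') e).symm x, (Algebra.H1Cotangent.mapEquiv (R := k) (S := K) (S' := K') e).apply_symm_apply x⟩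
  exact Module.Finite.of_restrictScalars_finite K K' _

end Groth.Agent.CAlg1.Pop
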