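import Mathlib

/-!
Stabilising annihilators modulo an ideal; regularity along flat maps; polynomial extensions.
-/

set_option autoImplicit false
universe u

namespace Groth.Agent.CAlg1.Pop

/-- An element regular modulo `J` after localising at `q` becomes stable after multiplying by some
element outside `q`. -/
theorem exists_stable {Λ : Type u} [CommRing Λ] [IsNoetherianRing Λ] (q : Ideal Λ) [q.IsPrime]
    (J : Ideal Λ) (a : Λ) {L : Type u} [CommRing L] [Algebra Λ L] [IsLocalization.AtPrime L q]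
    (hreg : ∀ x : L, algebraMap Λ L a * x ∈ J.map (algebraMap Λ L) → x ∈ J.map (algebraMap Λ L))
    (f : Λ) (hf : f ∉ q) :
    ∃ h : Λ, h ∉ q ∧ f ∣ h ∧ ∀ x, (h * a) ^ 2 * x ∈ J → h * a * x ∈ J := by
  classical
  let A2 : Ideal Λ := Submodule.comap (LinearMap.mulLeft Λ (a ^ 2)) J
  have hA2 : ∀ x, x ∈ A2 ↔ a ^ 2 * x ∈ J := fun x => Iff.rfl
  have hkill : ∀ x ∈ A2, ∃ g ∈ q.primeCompl, g * x ∈ J := by
    intro x hx
    have h1 := Ideal.mem_map_of_mem (algebraMap Λ L) ((hA2 x).1 hx)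
    rw [map_mul, map_pow, pow_two, mul_assoc] at h1
    exact (IsLocalization.algebraMap_mem_map_algebraMap_iff q.primeCompl L J x).1 (hreg _ (hreg _ h1))
  obtain ⟨S, hS⟩ := A2.fg_of_isNoetherianRing
  choose G hG hGx using fun x (hx : x ∈ S) => hkill x (hS ▸ Submodule.subset_span hx)
  let g₀ : Λ := ∏ x ∈ S.attach, G x.1 x.2
  have hg₀ : g₀ ∉ q := prod_mem (S := q.primeCompl) fun x _ => hG x.1 x.2
  have hg₀A : ∀ x ∈ A2, g₀ * x ∈ J := by
    intro x hx
    rw [← hS] at hx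
    induction hx using Submodule.span_induction with
    | mem x hx =>
      obtain ⟨c, hc⟩ : G x hx ∣ g₀ :=
        Finset.dvd_prod_of_mem (fun z : {z // z ∈ S} => G z.1 z.2) (Finset.mem_attach S ⟨x, hx⟩)
      rw [hc, mul_right_comm]
      exact J.mul_mem_right _ (hGx x hx)
    | zero => simp
    | add x z _ _ hx hz => rw [mul_add]; exact J.add_mem hx hz
    | smul r x _ hx => rw [smul_eq_mul, mul_left_comm]; exact J.mul_mem_left r hx
  let w : Λ := f * g₀
  let chain : ℕ →o Ideal Λ :=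
    ⟨fun m => Submodule.comap (LinearMap.mulLeft Λ (w ^ m)) J, fun m m' hmm' x hx => by
      show w ^ m' * x ∈ J
      rw [← Nat.sub_add_cancel hmm', pow_add, mul_assoc]
      exact J.mul_mem_left _ hx⟩
  obtain ⟨M, hM⟩ := monotone_stabilizes_iff_noetherian.2 inferInstance chain
  refine ⟨w ^ (M + 1), fun h => (Ideal.IsPrime.mem_or_mem ‹_› (Ideal.IsPrime.mem_of_pow_mem ‹_› _ h)).elim hf hg₀,
    Dvd.dvd.pow ⟨g₀, rfl⟩ (Nat.succ_ne_zero M), fun x hx => ?_⟩
  have h1 : g₀ * ((w ^ (M + 1)) ^ 2 * x) ∈ J := hg₀A _ (by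
    rw [hA2, show a ^ 2 * ((w ^ (M + 1)) ^ 2 * x) = (w ^ (M + 1) * a) ^ 2 * x by ring]; exact hx)
  have h2 : x ∈ chain ((M + 1) * 2 + 1) := by
    show w ^ ((M + 1) * 2 + 1) * x ∈ J
    rw [show w ^ ((M + 1) * 2 + 1) * x = f * (g₀ * ((w ^ (M + 1)) ^ 2 * x)) by
      rw [← pow_mul, pow_succ]; simp only [w]; ring]
    exact J.mul_mem_left _ h1
  rw [← hM _ (by omega)] at h2
  have h3 : w ^ M * x ∈ J := h2
  rw [show w ^ (M + 1) * a * x = w * a * (w ^ M * x) by rw [pow_succ]; ring]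
  exact J.mul_mem_left _ h3

/-- Regularity modulo an ideal passes along flat maps. -/
theorem mem_map_of_flat {A B : Type u} [CommRing A] [CommRing B] [Algebra A B] [Module.Flat A B]
    (J : Ideal A) (x : A) (h : ∀ a, x * a ∈ J → a ∈ J) (b : B)
    (hb : algebraMap A B x * b ∈ J.map (algebraMap A B)) : b ∈ J.map (algebraMap A B) := by
  let f : (A ⧸ J) →ₗ[A] (A ⧸ J) := LinearMap.lsmul A (A ⧸ J) x
  have hf : Function.Injective f := by
    refine (injective_iff_map_eq_zero _).2 fun z hz => ?_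
    obtain ⟨z, rfl⟩ := Ideal.Quotient.mk_surjective z
    have h1 : Ideal.Quotient.mk J (x * z) = 0 := by
      rw [map_mul]; exact hz
    exact Ideal.Quotient.eq_zero_iff_mem.2 (h z (Ideal.Quotient.eq_zero_iff_mem.1 h1))
  have hinj := Module.Flat.lTensor_preserves_injective_linearMap (M := B) f hf
  let e := Algebra.TensorProduct.quotIdealMapEquivTensorQuot B J
  rw [← Ideal.Quotient.eq_zero_iff_mem] at hb ⊢
  have he : ∀ c : B, e (Ideal.Quotient.mk _ c) = c ⊗ₜ[A] (1 : A ⧸ J) := fun c =>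
    Algebra.TensorProduct.quotIdealMapEquivTensorQuot_mk B (I := J) c
  refine e.injective ((he b).trans ?_)
  rw [map_zero]
  refine hinj ?_
  rw [map_zero, LinearMap.lTensor_tmul]
  show b ⊗ₜ[A] (x • (1 : A ⧸ J)) = 0
  rw [← TensorProduct.smul_tmul, Algebra.smul_def, ← he, hb, map_zero]

theorem span_pow_eq_of_associated {M : Type u} [CommRing M] {ι : Type*} (p y : ι → M)
    (h : ∀ l, Associated (p l) (y l)) (e : ℕ) :
    Ideal.span (Set.range fun l => p l ^ e) = Ideal.span (Set.range fun l => y l ^ e) := by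
  refine le_antisymm (Ideal.span_le.2 ?_) (Ideal.span_le.2 ?_) <;> rintro _ ⟨l, rfl⟩
  · obtain ⟨v, hv⟩ := ((h l).pow_pow (n := e)).symm
    show p l ^ e ∈ _
    rw [← hv]
    exact Ideal.mul_mem_right _ _ (Ideal.subset_span ⟨l, rfl⟩)
  · obtain ⟨v, hv⟩ := (h l).pow_pow (n := e)
    show y l ^ e ∈ _
    rw [← hv]
    exact Ideal.mul_mem_right _ _ (Ideal.subset_span ⟨l, rfl⟩)

theorem regular_of_associated {Q M : Type u} [CommRing Q] [CommRing M] (g : Q →+* M) (hg : g.Flat)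
    {ι : Type*} (x : ι → Q) (p : ι → M) (h : ∀ l, Associated (p l) (g (x l))) (e : ℕ) (x₀ : Q) (p₀ : M)
    (h₀ : Associated p₀ (g x₀))
    (hreg : ∀ z, x₀ * z ∈ Ideal.span (Set.range fun l => x l ^ e) →
      z ∈ Ideal.span (Set.range fun l => x l ^ e))
    (z : M) (hz : p₀ * z ∈ Ideal.span (Set.range fun l => p l ^ e)) :
    z ∈ Ideal.span (Set.range fun l => p l ^ e) := by
  letI := g.toAlgebra
  haveI : Module.Flat Q M := hg
  have hmap : Ideal.span (Set.range fun l => p l ^ e) =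
      (Ideal.span (Set.range fun l => x l ^ e)).map (algebraMap Q M) := by
    rw [span_pow_eq_of_associated p (fun l => g (x l)) h e, Ideal.map_span, ← Set.range_comp]
    congr 2
    funext l
    exact (map_pow g (x l) e).symm
  rw [hmap] at hz ⊢
  refine mem_map_of_flat _ x₀ hreg z ?_
  obtain ⟨v, hv⟩ := h₀
  rw [show algebraMap Q M x₀ = p₀ * v from hv.symm, mul_comm p₀, mul_assoc]
  exact Ideal.mul_mem_left _ _ hz

open Polynomial in
theorem polynomial_stable_C {R : Type u} [CommRing R] (J : Ideal R) (r : R)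
    (h : ∀ x, r ^ 2 * x ∈ J → r * x ∈ J) (f : R[X]) (hf : C r ^ 2 * f ∈ J.map (C : R →+* R[X])) :
    C r * f ∈ J.map (C : R →+* R[X]) := by
  rw [Ideal.mem_map_C_iff] at hf ⊢
  intro n
  have h1 := hf n
  rw [← map_pow, coeff_C_mul] at h1
  rw [coeff_C_mul]
  exact h _ h1

open Polynomial in
theorem polynomial_stable_X_mul_C {R : Type u} [CommRing R] (J : Ideal R) (r : R)
    (h : ∀ x, r ^ 2 * x ∈ J → r * x ∈ J) (f : R[X]) (hf : (X * C r) ^ 2 * f ∈ J.map (C : R →+* R[X])) :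
    X * C r * f ∈ J.map (C : R →+* R[X]) := by
  rw [mul_assoc]
  refine Ideal.mul_mem_left _ _ (polynomial_stable_C J r h f ?_)
  rw [Ideal.mem_map_C_iff] at hf ⊢
  intro n
  have h1 := hf (n + 2)
  rw [show (X * C r) ^ 2 * f = C r ^ 2 * f * X ^ 2 by ring, coeff_mul_X_pow] at h1
  exact h1

end Groth.Agent.CAlg1.Pop
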