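import Groth.Agent.Smooth28.Params
import Groth.Agent.CAlg1.Pop.Stab

/-!
A tower of polynomial extensions in which a regular system of parameters has stable annihilators on
both sides.
-/

set_option autoImplicit false
universe u

open IsLocalRing

namespace Groth.Agent.CAlg1.Pop

section

variable {k Λ : Type u} [Field k] [CommRing Λ] [Algebra k Λ]

/-- The map between local rings induced by `φ`. -/
noncomputable abbrev locMap {R : Type u} [CommRing R] [Algebra k R] (φ : R →ₐ[k] Λ) (q : Ideal Λ) [q.IsPrime] :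
    Localization.AtPrime (q.comap φ.toRingHom) →+* Localization.AtPrime q :=
  Localization.localRingHom (q.comap φ.toRingHom) q φ.toRingHom rfl

set_option maxHeartbeats 1000000 in
theorem exists_tower [IsNoetherianRing Λ] (q : Ideal Λ) [q.IsPrime] {Q : Type u} [CommRing Q] [Algebra k Q]
    [IsRegularLocalRing Q] {d : ℕ} (hd : ringKrullDim Q = d) (x : Fin d → Q)
    (hx : Ideal.span (Set.range x) = maximalIdeal Q) (j : Q →+* Localization.AtPrime q) (hj : j.Flat)
    (hjx : ∀ i, j (x i) ∈ maximalIdeal (Localization.AtPrime q))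
    (I : Ideal Λ) (f : Λ) (hf : f ∉ q) (hfI : ∀ z ∈ q, f * z ∈ I) (e : ℕ) (he : 0 < e)
    (R₀ : Type u) [CommRing R₀] [Algebra k R₀] [Algebra.Smooth k R₀] (φ₀ : R₀ →ₐ[k] Λ)
    (ι₀ : Q →+* Localization.AtPrime (q.comap φ₀.toRingHom)) (hflat₀ : ι₀.Flat)
    (hk₀ : ∀ c : k, ι₀ (algebraMap k Q c) = algebraMap R₀ _ (algebraMap k R₀ c))
    (hcomp₀ : (locMap φ₀ q).comp ι₀ = j) :
    ∃ (R : Type u) (_ : CommRing R) (_ : Algebra k R) (φR : R →ₐ[k] Λ) (π : Fin d → R)
      (ι : Q →+* Localization.AtPrime (q.comap φR.toRingHom)),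
      Algebra.Smooth k R ∧ ι.Flat ∧
      (∀ c : k, ι (algebraMap k Q c) = algebraMap R _ (algebraMap k R c)) ∧
      (locMap φR q).comp ι = j ∧
      (∀ i, Associated (algebraMap R (Localization.AtPrime (q.comap φR.toRingHom)) (π i)) (ι (x i))) ∧
      (∀ i, φR (π i) ∈ I) ∧
      (∀ i : Fin d, ∀ z : R,
        π i ^ 2 * z ∈ Ideal.span (Set.range fun l : {l : Fin d // (l : ℕ) < (i : ℕ)} => π l ^ e) →
        π i * z ∈ Ideal.span (Set.range fun l : {l : Fin d // (l : ℕ) < (i : ℕ)} => π l ^ e)) ∧
      (∀ i : Fin d, ∀ z : Λ,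
        φR (π i) ^ 2 * z ∈ Ideal.span (Set.range fun l : {l : Fin d // (l : ℕ) < (i : ℕ)} => φR (π l) ^ e) →
        φR (π i) * z ∈ Ideal.span (Set.range fun l : {l : Fin d // (l : ℕ) < (i : ℕ)} => φR (π l) ^ e)) := by
  classical
  suffices H : ∀ K ≤ d, ∃ (R : Type u) (_ : CommRing R) (_ : Algebra k R) (φR : R →ₐ[k] Λ) (π : Fin d → R)
      (ι : Q →+* Localization.AtPrime (q.comap φR.toRingHom)),
      Algebra.Smooth k R ∧ ι.Flat ∧
      (∀ c : k, ι (algebraMap k Q c) = algebraMap R _ (algebraMap k R c)) ∧
      (locMap φR q).comp ι = j ∧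
      (∀ i, Associated (algebraMap R (Localization.AtPrime (q.comap φR.toRingHom)) (π i)) (ι (x i))) ∧
      ∀ i : Fin d, (i : ℕ) < K → φR (π i) ∈ I ∧
        (∀ z : R, π i ^ 2 * z ∈ Ideal.span (Set.range fun l : {l : Fin d // (l : ℕ) < (i : ℕ)} => π l ^ e) →
          π i * z ∈ Ideal.span (Set.range fun l : {l : Fin d // (l : ℕ) < (i : ℕ)} => π l ^ e)) ∧
        (∀ z : Λ, φR (π i) ^ 2 * z ∈ Ideal.span (Set.range fun l : {l : Fin d // (l : ℕ) < (i : ℕ)} => φR (π l) ^ e) →
          φR (π i) * z ∈ Ideal.span (Set.range fun l : {l : Fin d // (l : ℕ) < (i : ℕ)} => φR (π l) ^ e)) by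
    obtain ⟨R, cR, aR, φR, π, ι, hft, hfl, hk, hc, hassoc, hP⟩ := H d le_rfl
    exact ⟨R, cR, aR, φR, π, ι, hft, hfl, hk, hc, hassoc, fun i => (hP i i.2).1,
      fun i => (hP i i.2).2.1, fun i => (hP i i.2).2.2⟩
  intro K
  induction K with
  | zero =>
    intro _
    choose r σ hrσ using fun i => IsLocalization.exists_mk'_eq (q.comap φ₀.toRingHom).primeCompl (ι₀ (x i))
    refine ⟨R₀, inferInstance, inferInstance, φ₀, r, ι₀, inferInstance, hflat₀, hk₀, hcomp₀, fun i => ?_,
      fun i hi => absurd hi (Nat.not_lt_zero _)⟩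
    rw [← hrσ i, ← IsLocalization.mk'_spec (Localization.AtPrime (q.comap φ₀.toRingHom)) (r i) (σ i)]
    exact associated_mul_unit_left _ _ (IsLocalization.map_units _ (σ i))
  | succ K ih =>
    intro hK
    obtain ⟨R, cR, aR, φR, π, ι, hft, hfl, hk, hc, hassoc, hP⟩ := ih (by omega)
    haveI := hft
    haveI : IsNoetherianRing R := Algebra.FiniteType.isNoetherianRing k R
    let i₀ : Fin d := ⟨K, by omega⟩
    let p : Ideal R := q.comap φR.toRingHom
    have hπL : ∀ i, algebraMap Λ (Localization.AtPrime q) (φR (π i)) =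
        locMap φR q (algebraMap R _ (π i)) := fun i =>
      (Localization.localRingHom_to_map _ _ _ rfl (π i)).symm
    have hassocL : ∀ i, Associated (algebraMap Λ (Localization.AtPrime q) (φR (π i))) (j (x i)) := fun i => by
      rw [hπL, ← hc]
      exact (hassoc i).map _
    have hπq : ∀ i, φR (π i) ∈ q := fun i => by
      rw [← IsLocalization.AtPrime.to_map_mem_maximal_iff (Localization.AtPrime q) q]
      obtain ⟨v, hv⟩ := (hassocL i).symm
      rw [← hv]
      exact Ideal.mul_mem_right _ _ (hjx i)
    -- stabilisation on the side of `R`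
    obtain ⟨g, hg, -, hgs⟩ := exists_stable p
      (Ideal.span (Set.range fun l : {l : Fin d // (l : ℕ) < (i₀ : ℕ)} => π l ^ e)) (π i₀)
      (L := Localization.AtPrime p) (fun z hz => by
        rw [Ideal.map_span, ← Set.range_comp] at hz ⊢
        simp only [Function.comp_def, map_pow] at hz ⊢
        exact regular_of_associated ι hfl (fun l : {l : Fin d // (l : ℕ) < (i₀ : ℕ)} => x l) _
          (fun l => hassoc l) e (x i₀) _ (hassoc i₀)
          (fun w => Smooth28.regular_mod_powers hd x hx e he i₀ w) z hz)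
      1 (fun h => (inferInstance : p.IsPrime).ne_top ((Ideal.eq_top_iff_one _).2 h))
    -- stabilisation on the side of `Λ`
    obtain ⟨h, hh, hfh, hhs⟩ := exists_stable q
      (Ideal.span (Set.range fun l : {l : Fin d // (l : ℕ) < (i₀ : ℕ)} => φR (π l) ^ e)) (φR (g * π i₀))
      (L := Localization.AtPrime q) (fun z hz => by
        rw [Ideal.map_span, ← Set.range_comp] at hz ⊢
        simp only [Function.comp_def, map_pow] at hz ⊢
        refine regular_of_associated j hj (fun l : {l : Fin d // (l : ℕ) < (i₀ : ℕ)} => x l) _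
          (fun l => hassocL l) e (x i₀) _ ?_
          (fun w => Smooth28.regular_mod_powers hd x hx e he i₀ w) z hz
        rw [map_mul, map_mul]
        exact (associated_unit_mul_left _ _
          (IsLocalization.map_units (Localization.AtPrime q) (⟨φR g, hg⟩ : q.primeCompl))).trans (hassocL i₀))
      f hf
    -- adjoin a variable
    let φ₁ : Polynomial R →ₐ[k] Λ :=
      { Polynomial.eval₂RingHom φR.toRingHom h with
        commutes' := fun c => by
          show Polynomial.eval₂ φR.toRingHom h (algebraMap k (Polynomial R) c) = _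
          rw [IsScalarTower.algebraMap_apply k R (Polynomial R), Polynomial.algebraMap_eq, Polynomial.eval₂_C]
          exact φR.commutes c }
    have hφC : ∀ r, φ₁ (Polynomial.C r) = φR r := fun r => Polynomial.eval₂_C _ _
    have hφX : φ₁ Polynomial.X = h := Polynomial.eval₂_X _ _
    let p₁ : Ideal (Polynomial R) := q.comap φ₁.toRingHom
    have hp₁ : p = p₁.comap Polynomial.C := by
      ext r
      show φR r ∈ q ↔ φ₁ (Polynomial.C r) ∈ q
      rw [hφC]
    let μ : Localization.AtPrime p →+* Localization.AtPrime p₁ := Localization.localRingHom p p₁ Polynomial.C hp₁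
    have hμ : μ.Flat := RingHom.Flat.localRingHom (by
      rw [← Polynomial.algebraMap_eq, RingHom.flat_algebraMap_iff]; infer_instance) p₁ p hp₁
    have hμmap : ∀ r, μ (algebraMap R _ r) = algebraMap _ _ (Polynomial.C r) := fun r =>
      Localization.localRingHom_to_map _ _ _ hp₁ r
    have hloc : (locMap φ₁ q).comp μ = locMap φR q := by
      refine IsLocalization.ringHom_ext p.primeCompl (RingHom.ext fun r => ?_)
      simp only [RingHom.comp_apply, hμmap]
      rw [show locMap φ₁ q (algebraMap (Polynomial R) _ (Polynomial.C r)) = algebraMap Λ _ (φ₁ (Polynomial.C r)) from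
          Localization.localRingHom_to_map _ _ _ rfl _,
        show locMap φR q (algebraMap R _ r) = algebraMap Λ _ (φR r) from
          Localization.localRingHom_to_map _ _ _ rfl _, hφC]
    let π₁ : Fin d → Polynomial R := fun i =>
      if i = i₀ then Polynomial.X * Polynomial.C (g * π i) else Polynomial.C (π i)
    have hne : ∀ i : Fin d, (i : ℕ) < K → ∀ l : {l : Fin d // (l : ℕ) < (i : ℕ)}, (l : Fin d) ≠ i₀ :=
      fun i hi l he => by have := l.2; rw [he] at this; simp only [i₀] at this; omega
    refine ⟨Polynomial R, inferInstance, inferInstance, φ₁, π₁, μ.comp ι,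
      ⟨Algebra.FormallySmooth.comp k R (Polynomial R), Algebra.FinitePresentation.trans k R (Polynomial R)⟩, hfl.comp hμ, fun c => ?_, ?_,
      fun i => ?_, fun i hi => ?_⟩
    · rw [RingHom.comp_apply, hk, hμmap, IsScalarTower.algebraMap_apply k R (Polynomial R), Polynomial.algebraMap_eq]
    · rw [← RingHom.comp_assoc, hloc, hc]
    · have h1 := (hassoc i).map μ
      rw [hμmap] at h1
      by_cases hii : i = i₀
      · simp only [π₁, if_pos hii, RingHom.comp_apply, map_mul]
        refine (associated_unit_mul_left _ _ ?_).trans ((associated_unit_mul_left _ _ ?_).trans h1)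
        · exact IsLocalization.map_units _
            (⟨Polynomial.X, show φ₁ Polynomial.X ∉ q by rw [hφX]; exact hh⟩ : p₁.primeCompl)
        · exact IsLocalization.map_units _
            (⟨Polynomial.C g, show φ₁ (Polynomial.C g) ∉ q by rw [hφC]; exact hg⟩ : p₁.primeCompl)
      · simp only [π₁, if_neg hii]
        exact h1
    · have hspanR : ∀ i : Fin d, (i : ℕ) ≤ K →
          Ideal.span (Set.range fun l : {l : Fin d // (l : ℕ) < (i : ℕ)} => π₁ l ^ e) =
            (Ideal.span (Set.range fun l : {l : Fin d // (l : ℕ) < (i : ℕ)} => π l ^ e)).map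
              (Polynomial.C : R →+* Polynomial R) := by
        intro i hi
        rw [Ideal.map_span, ← Set.range_comp]
        congr 2
        funext l
        have hl : (l : Fin d) ≠ i₀ := fun he => by have := l.2; rw [he] at this; simp only [i₀] at this; omega
        simp only [π₁, if_neg hl, Function.comp_apply, map_pow]
      have hspanΛ : ∀ i : Fin d, (i : ℕ) ≤ K →
          (fun l : {l : Fin d // (l : ℕ) < (i : ℕ)} => φ₁ (π₁ l) ^ e) =
            fun l : {l : Fin d // (l : ℕ) < (i : ℕ)} => φR (π l) ^ e := by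
        intro i hi
        funext l
        have hl : (l : Fin d) ≠ i₀ := fun he => by have := l.2; rw [he] at this; simp only [i₀] at this; omega
        simp only [π₁, if_neg hl, hφC]
      have hile : (i : ℕ) ≤ K := by omega
      rw [hspanΛ i hile, hspanR i hile]
      rcases Nat.lt_succ_iff_lt_or_eq.1 hi with hlt | heq
      · have hii : i ≠ i₀ := fun he => by rw [he] at hlt; simp [i₀] at hlt
        simp only [π₁, if_neg hii, hφC]
        obtain ⟨h1, h2, h3⟩ := hP i hlt
        exact ⟨h1, fun z hz => polynomial_stable_C _ _ h2 z hz, h3⟩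
      · obtain rfl : i = i₀ := Fin.ext heq
        simp only [π₁, if_true]
        have hval : φ₁ (Polynomial.X * Polynomial.C (g * π i₀)) = h * φR (g * π i₀) := by
          rw [map_mul, hφX, hφC]
        rw [hval]
        refine ⟨?_, fun z hz => polynomial_stable_X_mul_C _ _ hgs z hz, hhs⟩
        obtain ⟨c, hc'⟩ := hfh
        rw [hc', mul_assoc]
        exact hfI _ (q.mul_mem_left _ (by rw [map_mul]; exact q.mul_mem_left _ (hπq i₀)))

end

end Groth.Agent.CAlg1.Pop
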