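import Groth.Prelude
import Groth.Agent.S6854
import Groth.Agent.E4O.DimField
import Groth.Agent.CAlgH2.LocalDimField
import Groth.Agent.CAlg1.Miracle
import Groth.Agent.EGA4H10.CompleteUC
import Groth.Agent.CAlg1.Pop.Residual
import Groth.Agent.CAlg1.Pop.ImageTop
import Groth.Agent.CAlg1.Pop.Generators
import Groth.Agent.CAlg1.Pop.OmegaBound
import Groth.Agent.CAlg1.Pop.Chart
import Groth.Agent.CAlg1.Pop.Tower

/-!
The smooth local model below a formally smooth regular local ring in characteristic `p`.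
-/

set_option autoImplicit false
universe u

open IsLocalRing

namespace Groth.Agent.CAlg1.Pop

set_option maxHeartbeats 1000000 in
theorem exists_smooth_model {k Λ : Type u} [Field k] [Infinite k] (p : ℕ) [Fact p.Prime] [CharP k p]
    [CommRing Λ] [Algebra k Λ] (q : Ideal Λ) [q.IsPrime] [IsRegularLocalRing (Localization.AtPrime q)]
    (hfs : CAlgX.IsAdicFormallySmooth k (Localization.AtPrime q) (maximalIdeal (Localization.AtPrime q)))
    {d : ℕ} (hd : ringKrullDim (Localization.AtPrime q) = d) (hdpos : 0 < d) (n : ℕ) (hn : 2 ≤ n)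
    (E : Finset (Localization.AtPrime q)) :
    ∃ (Q : Type u) (_ : CommRing Q) (_ : Algebra k Q) (_ : IsRegularLocalRing Q) (x : Fin d → Q)
      (j : Q →ₐ[k] Localization.AtPrime q) (R₀ : Type u) (_ : CommRing R₀) (_ : Algebra k R₀)
      (φ₀ : R₀ →ₐ[k] Λ) (ι₀ : Q →+* Localization.AtPrime (q.comap φ₀.toRingHom)),
      ringKrullDim Q = d ∧ Ideal.span (Set.range x) = maximalIdeal Q ∧ j.toRingHom.Flat ∧
      (maximalIdeal Q).map j.toRingHom = maximalIdeal (Localization.AtPrime q) ∧
      (∀ z ∈ E, ∃ w, z - j w ∈ maximalIdeal (Localization.AtPrime q) ^ n) ∧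
      Algebra.Smooth k R₀ ∧ ι₀.Flat ∧
      (∀ c : k, ι₀ (algebraMap k Q c) = algebraMap R₀ _ (algebraMap k R₀ c)) ∧
      (locMap φ₀ q).comp ι₀ = j.toRingHom := by
  classical
  let L := Localization.AtPrime q
  let J : Ideal L := maximalIdeal L ^ n
  have hJ2 : J ≤ maximalIdeal L ^ 2 := Ideal.pow_le_pow_right hn
  have hJm : J ≤ maximalIdeal L := Ideal.pow_le_self (by omega)
  let S := L ⧸ J
  haveI : Nontrivial S := Ideal.Quotient.nontrivial_iff.2 fun h =>
    (maximalIdeal.isMaximal L).ne_top (top_le_iff.1 (h.ge.trans hJm))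
  haveI : IsLocalRing S := IsLocalRing.of_surjective' (Ideal.Quotient.mk J) Ideal.Quotient.mk_surjective
  haveI : IsLocalHom (Ideal.Quotient.mk J) := IsLocalHom.of_surjective _ Ideal.Quotient.mk_surjective
  have hmS : maximalIdeal S = (maximalIdeal L).map (Ideal.Quotient.mk J) :=
    (IsLocalRing.map_maximalIdeal_of_surjective (Ideal.Quotient.mk J) Ideal.Quotient.mk_surjective).symm
  haveI : IsNoetherianRing S := inferInstance
  haveI : IsArtinianRing S := by
    refine isArtinianRing_iff_isNoetherianRing_krullDimLE_zero.2 ⟨inferInstance, ?_⟩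
    refine Ring.krullDimLE_zero_iff.2 fun P hP => ?_
    have h : maximalIdeal S ≤ P := by
      rw [hmS]
      intro z hz
      rw [Ideal.mem_map_iff_of_surjective _ Ideal.Quotient.mk_surjective] at hz
      obtain ⟨z, hz, rfl⟩ := hz
      refine hP.mem_of_pow_mem n ?_
      rw [← map_pow, Ideal.Quotient.eq_zero_iff_mem.2 (Ideal.pow_mem_pow hz n)]
      exact P.zero_mem
    rw [← le_antisymm h (le_maximalIdeal hP.ne_top)]
    exact maximalIdeal.isMaximal S
  -- finiteness of `H₁` of the residue field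
  let ρS : L →ₐ[k] ResidueField S := (IsScalarTower.toAlgHom k S (ResidueField S)).comp (Ideal.Quotient.mkₐ k J)
  have hρker : ∀ z ∈ maximalIdeal L, ρS z = 0 := fun z hz =>
    (residue_eq_zero_iff _).2 (hmS ▸ Ideal.mem_map_of_mem _ hz)
  let ρK : ResidueField L →ₐ[k] ResidueField S := Ideal.Quotient.liftₐ (maximalIdeal L) ρS hρker
  let eK : ResidueField L ≃ₐ[k] ResidueField S :=
    AlgEquiv.ofBijective ρK
      ⟨RingHom.injective ρK.toRingHom, fun z => by
        obtain ⟨z, rfl⟩ := residue_surjective z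
        obtain ⟨z, rfl⟩ := Ideal.Quotient.mk_surjective z
        exact ⟨residue L z, rfl⟩⟩
  have hH : Module.Finite (ResidueField S) (Algebra.H1Cotangent k (ResidueField S)) :=
    finite_h1Cotangent_of_equiv eK (finite_h1Cotangent_residueField hfs)
  -- a regular system of parameters
  have hrank : (maximalIdeal L).spanFinrank = d := by
    have h := IsRegularLocalRing.spanFinrank_maximalIdeal (R := L)
    rw [hd] at h
    exact_mod_cast h
  obtain ⟨s, hs, hspan⟩ :=
    Submodule.FG.exists_span_finset_card_eq_spanFinrank (maximalIdeal L).fg_of_isNoetherianRing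
  rw [hrank] at hs
  let xL : Fin d → L := fun i => (s.equivFinOfCardEq hs).symm i
  have hxL : Ideal.span (Set.range xL) = maximalIdeal L := by
    refine Eq.trans ?_ hspan
    congr 1
    ext z
    constructor
    · rintro ⟨i, rfl⟩
      exact ((s.equivFinOfCardEq hs).symm i).2
    · intro hz
      exact ⟨s.equivFinOfCardEq hs ⟨z, hz⟩, by simp [xL]⟩
  -- an artinian subalgebra essentially of finite type
  obtain ⟨A, hAloc, hEA, hAart, hAflat, hAeft, hAmap⟩ := Groth.Agent.S6854.result p hH
    (E.image (Ideal.Quotient.mk J) ∪ (Finset.univ.image fun i => Ideal.Quotient.mk J (xL i)))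
  haveI := hAloc; haveI := hAart; haveI := hAflat; haveI := hAeft
  haveI : IsLocalHom (algebraMap A S) := by
    refine ((IsLocalRing.local_hom_TFAE _).out 0 2).2 ?_
    exact hAmap.le
  haveI : Module.FaithfullyFlat A S := Module.FaithfullyFlat.of_flat_of_isLocalHom (A := A) (B := S)
  have hxA : ∀ i, Ideal.Quotient.mk J (xL i) ∈ A := fun i =>
    hEA (Finset.mem_union_right _ (Finset.mem_image.2 ⟨i, Finset.mem_univ _, rfl⟩))
  let π : Fin d → A := fun i => ⟨_, hxA i⟩
  have hπ : Ideal.span (Set.range π) = maximalIdeal A := by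
    have h1 : (Ideal.span (Set.range π)).map (algebraMap A S) = maximalIdeal S := by
      rw [hmS, ← hxL, Ideal.map_span, Ideal.map_span, ← Set.range_comp, ← Set.range_comp]
      rfl
    rw [← Ideal.comap_map_eq_self_of_faithfullyFlat (B := S) (maximalIdeal A),
      ← Ideal.comap_map_eq_self_of_faithfullyFlat (B := S) (Ideal.span (Set.range π)), h1, hAmap]
  let K₀ := ResidueField A
  let t := Cardinal.toNat (Algebra.trdeg k K₀)
  haveI : Algebra.EssFiniteType A K₀ :=
    Algebra.EssFiniteType.of_surjective (Algebra.ofId A K₀) IsLocalRing.residue_surjective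
  haveI : Algebra.EssFiniteType k K₀ := Algebra.EssFiniteType.comp k A K₀
  have hfin : Module.finrank K₀ (TensorProduct A K₀ Ω[A⁄k]) ≤ d + t :=
    finrank_kaehler_le k A π hπ fun δ =>
      exists_derivation_subalgebra hfs J hJ2 A (hAmap.le.trans hmS.le) δ
  obtain ⟨y, hyspan, hygen⟩ := exists_generators p hfin (show t < d + t by omega)
  let m := d + t
  -- the polynomial ring in lifts of the generators
  choose ŷ hŷ using fun i => Ideal.Quotient.mk_surjective (I := J) (y i : S)
  let M := MvPolynomial (Fin m) k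
  let g : M →ₐ[k] L := MvPolynomial.aeval ŷ
  let gA : M →ₐ[k] A := MvPolynomial.aeval y
  have hgA : ∀ z, (gA z : S) = Ideal.Quotient.mk J (g z) := by
    have h : A.val.comp gA = (Ideal.Quotient.mkₐ k J).comp g := MvPolynomial.algHom_ext fun i => by
      show (gA (MvPolynomial.X i) : S) = Ideal.Quotient.mk J (g (MvPolynomial.X i))
      rw [show gA (MvPolynomial.X i) = y i from MvPolynomial.aeval_X (R := k) y i,
        show g (MvPolynomial.X i) = ŷ i from MvPolynomial.aeval_X (R := k) ŷ i, hŷ]
    exact fun z => DFunLike.congr_fun h z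
  let P₀ : Ideal M := (maximalIdeal L).comap g
  haveI : P₀.IsPrime := Ideal.comap_isPrime g (maximalIdeal L)
  let Q := Localization.AtPrime P₀
  have hju : ∀ z : P₀.primeCompl, IsUnit (g (z : M)) := fun z => notMem_maximalIdeal.1 z.2
  let j : Q →ₐ[k] L := IsLocalization.liftAlgHom (M := P₀.primeCompl) (f := g) hju
  have hτu : ∀ z : P₀.primeCompl, IsUnit (gA (z : M)) := fun z => by
    refine isUnit_of_map_unit (algebraMap A S) _ ?_
    rw [show algebraMap A S (gA z) = (gA z : S) from rfl, hgA]
    exact (hju z).map _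
  let τ : Q →ₐ[k] A := IsLocalization.liftAlgHom (M := P₀.primeCompl) (f := gA) hτu
  have hjτ : ∀ w, (τ w : S) = Ideal.Quotient.mk J (j w) := by
    have h : A.val.comp τ = (Ideal.Quotient.mkₐ k J).comp j :=
      IsLocalization.algHom_ext P₀.primeCompl (AlgHom.ext fun z => by
        show (τ (algebraMap M Q z) : S) = Ideal.Quotient.mk J (j (algebraMap M Q z))
        rw [show τ (algebraMap M Q z) = gA z from IsLocalization.lift_eq _ z,
          show j (algebraMap M Q z) = g z from IsLocalization.lift_eq _ z, hgA])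
    exact fun w => DFunLike.congr_fun h w
  have hjloc : (maximalIdeal Q).map j.toRingHom ≤ maximalIdeal L := by
    rw [Ideal.map_le_iff_le_comap]
    intro w hw
    obtain ⟨a, b, rfl⟩ := IsLocalization.exists_mk'_eq P₀.primeCompl w
    rw [IsLocalization.AtPrime.mk'_mem_maximal_iff (S := Q) (I := P₀)] at hw
    show j (IsLocalization.mk' Q a b) ∈ maximalIdeal L
    rw [← Ideal.mul_unit_mem_iff_mem _ (hju b),
      show g (b : M) = j (algebraMap M Q b) from (IsLocalization.lift_eq _ _).symm, ← map_mul,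
      IsLocalization.mk'_spec, show j (algebraMap M Q a) = g a from IsLocalization.lift_eq _ _]
    exact hw
  have hτloc : ∀ w ∈ maximalIdeal Q, τ w ∈ maximalIdeal A := fun w hw => by
    intro hu
    have h1 := hu.map (algebraMap A S)
    rw [show algebraMap A S (τ w) = Ideal.Quotient.mk J (j w) from hjτ w] at h1
    exact (isUnit_of_map_unit (Ideal.Quotient.mk J) _ h1) |> (hjloc (Ideal.mem_map_of_mem _ hw))
  -- `τ` is surjective
  let τ₀ : Q →ₐ[k] K₀ := (IsScalarTower.toAlgHom k A K₀).comp τ
  have hinv : ∀ z ∈ τ₀.range, z⁻¹ ∈ τ₀.range := by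
    rintro _ ⟨w, rfl⟩
    rcases eq_or_ne (τ₀ w) 0 with h0 | h0
    · exact ⟨0, by simp [show τ₀.toRingHom w = τ₀ w from rfl, h0]⟩
    · have hw : IsUnit w := notMem_maximalIdeal.1 fun hm => h0 ((residue_eq_zero_iff _).2 (hτloc w hm))
      obtain ⟨v, hv⟩ := hw.exists_right_inv
      refine ⟨v, ?_⟩
      show τ₀ v = (τ₀ w)⁻¹
      exact eq_inv_of_mul_eq_one_right (by rw [← map_mul, hv, map_one])
  have hτX : ∀ i, τ (algebraMap M Q (MvPolynomial.X i)) = y i := fun i =>
    (IsLocalization.lift_eq _ _).trans (MvPolynomial.aeval_X (R := k) y i)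
  have hτ₀surj : Function.Surjective τ₀ := fun z => by
    have h1 : IntermediateField.adjoin k (Set.range fun i => residue A (y i)) ≤
        τ₀.range.toIntermediateField hinv := by
      rw [IntermediateField.adjoin_le_iff]
      rintro _ ⟨i, rfl⟩
      exact ⟨algebraMap M Q (MvPolynomial.X i), congrArg (residue A) (hτX i)⟩
    rw [hygen] at h1
    exact h1 (IntermediateField.mem_top (x := z))
  have hτsurj : Function.Surjective τ := by
    have h := subalgebra_eq_top_of_span τ.range (fun a => by
      obtain ⟨w, hw⟩ := hτ₀surj (residue A a)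
      refine ⟨τ w, ⟨w, rfl⟩, ?_⟩
      rw [← residue_eq_zero_iff, map_sub, sub_eq_zero]
      exact hw.symm) (by
      rw [eq_top_iff, ← hyspan]
      refine Submodule.span_mono ?_
      rintro _ ⟨i, rfl⟩
      exact ⟨y i, ⟨_, hτX i⟩, rfl⟩)
    exact (AlgHom.range_eq_top τ).1 h
  -- regularity and dimension
  haveI : IsRegularRing M := inferInstance
  haveI : IsRegularLocalRing Q := IsRegularRing.isRegularLocalRing_localization P₀
  have hker : RingHom.ker τ₀ = maximalIdeal Q := by
    refine le_antisymm (le_maximalIdeal (RingHom.ker_ne_top _)) fun w hw => ?_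
    exact (residue_eq_zero_iff _).2 (hτloc w hw)
  let eQ : P₀.ResidueField ≃ₐ[k] K₀ :=
    let ρQ : P₀.ResidueField →ₐ[k] K₀ :=
      Ideal.Quotient.liftₐ (maximalIdeal Q) τ₀ fun w hw => (hker.ge hw : w ∈ RingHom.ker τ₀)
    AlgEquiv.ofBijective ρQ
      ⟨RingHom.injective ρQ.toRingHom,
        fun z => by
          obtain ⟨w, rfl⟩ := hτ₀surj z
          exact ⟨residue Q w, rfl⟩⟩
  haveI : IsDomain M := inferInstance
  have hht : P₀.height = (d : ℕ∞) := by
    have h := Groth.Agent.E4O.height_add_trdeg_eq k M P₀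
    rw [← CAlgH2.trdeg_residueField k P₀, eQ.trdeg_eq, MvPolynomial.trdeg_of_isDomain,
      Cardinal.mk_fin, Cardinal.lift_natCast] at h
    have hlt : Algebra.trdeg k K₀ < Cardinal.aleph0 :=
      lt_of_le_of_lt ((le_add_self).trans_eq h) (Cardinal.natCast_lt_aleph0 (n := m))
    rw [show Algebra.trdeg k K₀ = (t : Cardinal.{u}) from (Cardinal.cast_toNat_of_lt_aleph0 hlt).symm] at h
    obtain ⟨hh, hhe⟩ : ∃ a : ℕ, P₀.height = a := ENat.ne_top_iff_exists.1 (Ideal.height_ne_top Ideal.IsPrime.ne_top') |>.imp fun _ h => h.symm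
    rw [hhe] at h ⊢
    simp only [Cardinal.ofENat_nat] at h
    have h' : hh + t = d + t := by exact_mod_cast h
    exact_mod_cast (show hh = d by omega)
  have hdimQ : ringKrullDim Q = d := by
    rw [IsLocalization.AtPrime.ringKrullDim_eq_height P₀ Q, hht]
    rfl
  have hrankQ : (maximalIdeal Q).spanFinrank = d := by
    have h := IsRegularLocalRing.spanFinrank_maximalIdeal (R := Q)
    rw [hdimQ] at h
    exact_mod_cast h
  obtain ⟨sQ, hsQ, hspanQ⟩ :=
    Submodule.FG.exists_span_finset_card_eq_spanFinrank (maximalIdeal Q).fg_of_isNoetherianRing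
  rw [hrankQ] at hsQ
  let x : Fin d → Q := fun i => (sQ.equivFinOfCardEq hsQ).symm i
  have hx : Ideal.span (Set.range x) = maximalIdeal Q := by
    refine Eq.trans ?_ hspanQ
    congr 1
    ext z
    constructor
    · rintro ⟨i, rfl⟩
      exact ((sQ.equivFinOfCardEq hsQ).symm i).2
    · intro hz
      exact ⟨sQ.equivFinOfCardEq hsQ ⟨z, hz⟩, by simp [x]⟩
  -- the maximal ideal generates
  have hgen : maximalIdeal L ≤ (maximalIdeal Q).map j.toRingHom ⊔ J := by
    have h1 : ((maximalIdeal Q).map τ.toRingHom).map (algebraMap A S) = maximalIdeal S := by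
      refine Eq.trans (congrArg _ ?_) hAmap
      refine le_antisymm (Ideal.map_le_iff_le_comap.2 hτloc) fun a ha => ?_
      obtain ⟨w, rfl⟩ := hτsurj a
      refine Ideal.mem_map_of_mem τ.toRingHom ?_
      by_contra hw
      exact ha ((notMem_maximalIdeal.1 hw).map τ)
    rw [Ideal.map_map, show (algebraMap A S).comp τ.toRingHom = (Ideal.Quotient.mk J).comp j.toRingHom from
      RingHom.ext hjτ, ← Ideal.map_map, hmS] at h1
    intro z hz
    have h2 := h1.ge (Ideal.mem_map_of_mem _ hz)
    rwa [← Ideal.mem_comap, Ideal.comap_map_of_surjective _ Ideal.Quotient.mk_surjective,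
      ← RingHom.ker_eq_comap_bot, Ideal.mk_ker] at h2
  have hjmax : (maximalIdeal Q).map j.toRingHom = maximalIdeal L :=
    le_antisymm hjloc (Submodule.le_of_le_smul_of_le_jacobson_bot (maximalIdeal L).fg_of_isNoetherianRing
      (maximalIdeal_le_jacobson _) (hgen.trans (sup_le_sup le_rfl
        (hJ2.trans (by rw [pow_two, smul_eq_mul])))))
  have hjflat : j.toRingHom.Flat := by
    letI := j.toRingHom.toAlgebra
    haveI : IsLocalHom (algebraMap Q L) := ((IsLocalRing.local_hom_TFAE _).out 0 2).2 hjloc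
    haveI := EGA4H10.isCohenMacaulayLocalRing_of_regular L
    show Module.Flat Q L
    refine miracle_flatness _ Q L rfl ?_
    haveI : Nontrivial (L ⧸ maximalIdeal L) := Ideal.Quotient.nontrivial_iff.2 (maximalIdeal.isMaximal L).ne_top
    have h0 : ringKrullDim (L ⧸ (maximalIdeal Q).map (algebraMap Q L)) = 0 := by
      rw [show (maximalIdeal Q).map (algebraMap Q L) = maximalIdeal L from hjmax]
      letI := Ideal.Quotient.field (maximalIdeal L)
      exact ringKrullDim_eq_zero_of_field _
    rw [h0, add_zero, hdimQ, hd]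
  -- the chart in numerators and denominator
  obtain ⟨b, hb⟩ := IsLocalization.exist_integer_multiples_of_finite q.primeCompl ŷ
  choose lam hlam using hb
  let R₀ := MvPolynomial (Option (Fin m)) k
  let φ₀ : R₀ →ₐ[k] Λ := MvPolynomial.aeval fun o : Option (Fin m) => o.elim (b : Λ) lam
  let P₁ : Ideal R₀ := q.comap φ₀.toRingHom
  have hXn : φ₀ (MvPolynomial.X none) = (b : Λ) := MvPolynomial.aeval_X (R := k) _ none
  have hXs : ∀ i, φ₀ (MvPolynomial.X (some i)) = lam i := fun i => MvPolynomial.aeval_X (R := k) _ (some i)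
  obtain ⟨χ, hχflat, hχX⟩ := exists_flat_chart k m P₁ (show φ₀ (MvPolynomial.X none) ∉ q by rw [hXn]; exact b.2)
  have hlmap : ∀ r, locMap φ₀ q (algebraMap R₀ _ r) = algebraMap Λ L (φ₀ r) := fun r =>
    Localization.localRingHom_to_map _ _ _ rfl r
  have hχg : ∀ z : M, locMap φ₀ q (χ z) = g z := by
    intro z
    refine RingHom.congr_fun (f := (locMap φ₀ q).comp χ.toRingHom) (g := g.toRingHom)
      (MvPolynomial.ringHom_ext (fun c => ?_) fun i => ?_) z
    · show locMap φ₀ q (χ (algebraMap k M c)) = g (algebraMap k M c)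
      rw [AlgHom.commutes, AlgHom.commutes, IsScalarTower.algebraMap_apply k R₀, hlmap, AlgHom.commutes,
        ← IsScalarTower.algebraMap_apply]
    · show locMap φ₀ q (χ (MvPolynomial.X i)) = g (MvPolynomial.X i)
      rw [show g (MvPolynomial.X i) = ŷ i from MvPolynomial.aeval_X (R := k) ŷ i]
      refine (IsLocalization.map_units L b).mul_left_injective ?_
      show locMap φ₀ q (χ (MvPolynomial.X i)) * algebraMap Λ L b = ŷ i * algebraMap Λ L b
      rw [← hXn, ← hlmap, ← map_mul, hχX, hlmap, hXs, hlam i, hlmap, hXn, Algebra.smul_def, mul_comm]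
  have hιu : ∀ z : P₀.primeCompl, IsUnit (χ (z : M)) := fun z => by
    haveI := Localization.isLocalHom_localRingHom P₁ q φ₀.toRingHom rfl
    refine isUnit_of_map_unit (locMap φ₀ q) _ ?_
    rw [hχg]
    exact hju z
  let ι₀ : Q →ₐ[k] Localization.AtPrime P₁ := IsLocalization.liftAlgHom (M := P₀.primeCompl) (f := χ) hιu
  have hι₀ : ∀ z, ι₀ (algebraMap M Q z) = χ z := fun z => IsLocalization.lift_eq _ z
  have hιflat : ι₀.toRingHom.Flat := by
    letI := ι₀.toRingHom.toAlgebra
    letI := χ.toRingHom.toAlgebra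
    haveI : IsScalarTower M Q (Localization.AtPrime P₁) :=
      IsScalarTower.of_algebraMap_eq fun z => (hι₀ z).symm
    exact (Module.flat_iff_of_isLocalization Q P₀.primeCompl (Localization.AtPrime P₁)).2 hχflat
  refine ⟨Q, inferInstance, inferInstance, inferInstance, x, j, R₀, inferInstance, inferInstance, φ₀,
    ι₀.toRingHom, hdimQ, hx, hjflat, hjmax, fun z hz => ?_, ⟨inferInstance, inferInstance⟩, hιflat, fun c => ?_, ?_⟩
  · obtain ⟨w, hw⟩ := hτsurj ⟨_, hEA (Finset.mem_union_left _ (Finset.mem_image.2 ⟨z, hz, rfl⟩))⟩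
    refine ⟨w, ?_⟩
    rw [← Ideal.Quotient.eq, ← hjτ, hw]
  · show ι₀ (algebraMap k Q c) = _
    rw [AlgHom.commutes, IsScalarTower.algebraMap_apply k R₀]
  · refine IsLocalization.ringHom_ext P₀.primeCompl (RingHom.ext fun z => ?_)
    show locMap φ₀ q (ι₀ (algebraMap M Q z)) = j (algebraMap M Q z)
    rw [hι₀, hχg]
    exact (IsLocalization.lift_eq _ z).symm

end Groth.Agent.CAlg1.Pop
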