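import Groth.Prelude
import Groth.Agent.S2034
import Groth.Agent.S6829
import Groth.Agent.Smooth28.Singular

/-!
Lifting lemmas for the desingularisation in characteristic `p`.
-/

set_option autoImplicit false
universe u

open TensorProduct IsLocalRing

namespace Groth.Agent.CAlg1.Pop

/-- A map congruent to elements of `Q` modulo `J L` descends to `Q/J` when `Q → L` is faithfully flat. -/
theorem exists_algHom_quotient {k A Q L : Type u} [Field k] [CommRing A] [Algebra k A] [CommRing Q]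
    [Algebra k Q] [CommRing L] [Algebra k L] [Algebra Q L] [IsScalarTower k Q L] [Module.FaithfullyFlat Q L]
    (J : Ideal Q) (φ : A →ₐ[k] L) (G : Set A) (hG : Algebra.adjoin k G = ⊤)
    (h : ∀ z ∈ G, ∃ w, φ z - algebraMap Q L w ∈ J.map (algebraMap Q L)) :
    ∃ g₁ : A →ₐ[k] Q ⧸ J, ∀ a w, Ideal.Quotient.mk J w = g₁ a →
      φ a - algebraMap Q L w ∈ J.map (algebraMap Q L) := by
  let JL := J.map (algebraMap Q L)
  let χ : (Q ⧸ J) →ₐ[k] L ⧸ JL :=
    Ideal.Quotient.liftₐ J ((Ideal.Quotient.mkₐ k JL).comp (IsScalarTower.toAlgHom k Q L)) fun w hw =>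
      Ideal.Quotient.eq_zero_iff_mem.2 (Ideal.mem_map_of_mem _ hw)
  have hχ : ∀ w, χ (Ideal.Quotient.mk J w) = Ideal.Quotient.mk JL (algebraMap Q L w) := fun _ => rfl
  have hinj : Function.Injective χ := by
    refine (injective_iff_map_eq_zero _).2 fun w hw => ?_
    obtain ⟨w, rfl⟩ := Ideal.Quotient.mk_surjective w
    rw [hχ, Ideal.Quotient.eq_zero_iff_mem] at hw
    rw [Ideal.Quotient.eq_zero_iff_mem, ← Ideal.comap_map_eq_self_of_faithfullyFlat (B := L) J]
    exact hw
  let ψ : A →ₐ[k] L ⧸ JL := (Ideal.Quotient.mkₐ k JL).comp φ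
  have hrange : ∀ a, ψ a ∈ χ.range := by
    intro a
    have ha : a ∈ Algebra.adjoin k G := hG ▸ Algebra.mem_top
    have h1 : Algebra.adjoin k G ≤ χ.range.comap ψ := Algebra.adjoin_le fun z hz => by
      obtain ⟨w, hw⟩ := h z hz
      exact ⟨Ideal.Quotient.mk J w, (hχ w).trans (Ideal.Quotient.eq.2 hw).symm⟩
    exact h1 ha
  refine ⟨(AlgEquiv.ofInjective χ hinj).symm.toAlgHom.comp (ψ.codRestrict χ.range hrange), fun a w hw => ?_⟩
  have h2 := congrArg χ hw
  rw [hχ] at h2
  have h3 : χ ((AlgEquiv.ofInjective χ hinj).symm ⟨ψ a, hrange a⟩) = ψ a :=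
    congrArg Subtype.val ((AlgEquiv.ofInjective χ hinj).apply_symm_apply ⟨ψ a, hrange a⟩)
  exact Ideal.Quotient.eq.1 (h3.symm.trans h2.symm)

/-- Solutions modulo `J L` of a linear equation over `Q` come from solutions over `Q` and relations. -/
theorem exists_solution {Q L : Type u} [CommRing Q] [CommRing L] [Algebra Q L] [Module.FaithfullyFlat Q L]
    {s τ₀ : ℕ} (u : Fin τ₀ → Q) (a : Fin s → Q) (l : Fin s → L) (v : L) (hv : IsUnit v) (y : Q)
    (h : ∑ i, algebraMap Q L (a i) * l i - v * algebraMap Q L y ∈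
      (Ideal.span (Set.range u)).map (algebraMap Q L)) :
    ∃ (z : Fin s → Q) (τ : ℕ) (A : Fin τ → Fin s → Q) (b : Fin τ → L),
      (∑ i, a i * z i - y ∈ Ideal.span (Set.range u)) ∧
      (∀ t, ∑ i, a i * A t i ∈ Ideal.span (Set.range u)) ∧
      ∀ i, l i = v * algebraMap Q L (z i) + ∑ t, b t * algebraMap Q L (A t i) := by
  let J := Ideal.span (Set.range u)
  have hy : y ∈ Ideal.span (Set.range a) ⊔ J := by
    rw [← Ideal.comap_map_eq_self_of_faithfullyFlat (B := L) (Ideal.span (Set.range a) ⊔ J), Ideal.mem_comap,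
      Ideal.map_sup, ← Ideal.unit_mul_mem_iff_mem _ hv,
      show v * algebraMap Q L y = ∑ i, algebraMap Q L (a i) * l i -
        (∑ i, algebraMap Q L (a i) * l i - v * algebraMap Q L y) by ring]
    exact Submodule.sub_mem _
      (Submodule.sum_mem _ fun i _ => Ideal.mul_mem_right _ _
        (Ideal.mem_sup_left (Ideal.mem_map_of_mem _ (Ideal.subset_span ⟨i, rfl⟩))))
      (Ideal.mem_sup_right h)
  obtain ⟨y₁, hy₁, y₂, hy₂, hsum⟩ := Submodule.mem_sup.1 hy
  obtain ⟨z, hz⟩ := Ideal.mem_span_range_iff_exists_fun.1 hy₁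
  have hzy : ∑ i, a i * z i - y ∈ J := by
    rw [← hsum, ← hz, Finset.sum_congr rfl fun i _ => mul_comm (a i) (z i)]
    simpa using hy₂
  have h2 : ∑ i, algebraMap Q L (a i) * (l i - v * algebraMap Q L (z i)) ∈
      Ideal.span (Set.range fun t => algebraMap Q L (u t)) := by
    rw [show Ideal.span (Set.range fun t => algebraMap Q L (u t)) = J.map (algebraMap Q L) by
      rw [Ideal.map_span, ← Set.range_comp]; rfl]
    have h3 : ∑ i, algebraMap Q L (a i) * (l i - v * algebraMap Q L (z i)) =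
        (∑ i, algebraMap Q L (a i) * l i - v * algebraMap Q L y) -
          v * algebraMap Q L (∑ i, a i * z i - y) := by
      rw [map_sub, map_sum, mul_sub, Finset.mul_sum, sub_sub_sub_cancel_right, ← Finset.sum_sub_distrib]
      exact Finset.sum_congr rfl fun i _ => by rw [map_mul]; ring
    rw [h3]
    exact Submodule.sub_mem _ h (Ideal.mul_mem_left _ _ (Ideal.mem_map_of_mem _ hzy))
  obtain ⟨c, hc⟩ := Ideal.mem_span_range_iff_exists_fun.1 h2
  obtain ⟨τ, A, b, hx, hA⟩ := Module.Flat.isTrivialRelation_of_sum_smul_eq_zero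
    (f := Sum.elim a u) (x := Sum.elim (fun i => l i - v * algebraMap Q L (z i)) fun t => -c t) (by
      simp only [Fintype.sum_sum_type, Sum.elim_inl, Sum.elim_inr, Algebra.smul_def]
      rw [← hc, ← Finset.sum_add_distrib]
      exact Finset.sum_eq_zero fun t _ => by ring)
  refine ⟨z, τ, fun t i => A (Sum.inl i) t, b, hzy, fun t => ?_, fun i => ?_⟩
  · have h4 := hA t
    rw [Fintype.sum_sum_type, add_eq_zero_iff_eq_neg] at h4
    simp only [Sum.elim_inl, Sum.elim_inr] at h4
    rw [h4]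
    exact J.neg_mem (Submodule.sum_mem _ fun t' _ => Ideal.mul_mem_right _ _ (Ideal.subset_span ⟨t', rfl⟩))
  · have h5 := hx (Sum.inl i)
    simp only [Sum.elim_inl, Algebra.smul_def] at h5
    rw [Finset.sum_congr rfl fun t _ => mul_comm (b t) _, ← h5]
    ring

/-- Localising a quotient. -/
theorem isLocalization_atPrime_quotient {Λ L : Type u} [CommRing Λ] [CommRing L] [Algebra Λ L] (q : Ideal Λ)
    [q.IsPrime] [IsLocalization.AtPrime L q] (J : Ideal Λ) (qb : Ideal (Λ ⧸ J)) [qb.IsPrime]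
    (hqb : qb.comap (Ideal.Quotient.mk J) = q) (JL : Ideal L) (hJL : JL = J.map (algebraMap Λ L))
    [Algebra (Λ ⧸ J) (L ⧸ JL)]
    (hcompat : ∀ z, algebraMap (Λ ⧸ J) (L ⧸ JL) (Ideal.Quotient.mk J z) =
      Ideal.Quotient.mk JL (algebraMap Λ L z)) :
    IsLocalization.AtPrime (L ⧸ JL) qb := by
  have h := IsLocalization.of_surjective q.primeCompl L (R' := Λ ⧸ J) (S' := L ⧸ JL) (Ideal.Quotient.mk J)
    Ideal.Quotient.mk_surjective (Ideal.Quotient.mk JL) Ideal.Quotient.mk_surjective
    (RingHom.ext fun z => (hcompat z).symm)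
    (by rw [Ideal.mk_ker, Ideal.mk_ker, hJL])
  have hM : q.primeCompl.map (Ideal.Quotient.mk J : Λ →* Λ ⧸ J) = qb.primeCompl := by
    ext y
    constructor
    · rintro ⟨z, hz, rfl⟩
      exact fun hy => hz (hqb ▸ hy)
    · intro hy
      obtain ⟨z, rfl⟩ := Ideal.Quotient.mk_surjective y
      exact ⟨z, fun hz => hy (show z ∈ qb.comap (Ideal.Quotient.mk J) by rw [hqb]; exact hz), rfl⟩
  show IsLocalization qb.primeCompl (L ⧸ JL)
  rw [← hM]
  exact h

/-- A problem with zero-dimensional localisation is resolved by a smooth local factorisation. -/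
theorem resolvable_of_local_factor {R A Λ : Type u} [CommRing R] [IsNoetherianRing R] [CommRing A]
    [Algebra R A] [Algebra.FinitePresentation R A] [CommRing Λ] [Algebra R Λ] (φ : A →ₐ[R] Λ)
    (q : Ideal Λ) [q.IsPrime] {Rₚ : Type u} [CommRing Rₚ] [Algebra R Rₚ]
    [IsLocalization.AtPrime Rₚ (q.comap (algebraMap R Λ))] {L : Type u} [CommRing L] [Algebra Λ L]
    [IsLocalization.AtPrime L q] [Algebra R L] [IsScalarTower R Λ L] [Algebra Rₚ L] [IsScalarTower R Rₚ L]
    (hdim : ringKrullDim L = 0) {B : Type u} [CommRing B] [Algebra Rₚ B] (hB : Algebra.Smooth Rₚ B)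
    (γ : A →+* B) (hγ : ∀ r, γ (algebraMap R A r) = algebraMap Rₚ B (algebraMap R Rₚ r))
    (h : B →ₐ[Rₚ] L) (hcomp : ∀ a, h (γ a) = algebraMap Λ L (φ a)) :
    Smoothing.Resolvable R φ q := by
  by_cases hle : Smoothing.singRad R φ ≤ q
  swap
  · exact ⟨A, inferInstance, inferInstance, inferInstance, AlgHom.id R A, φ, AlgHom.comp_id φ, le_rfl, hle⟩
  have hht : q.height = 0 := by
    have h := IsLocalization.AtPrime.ringKrullDim_eq_height q L
    rw [hdim] at h
    exact_mod_cast h.symm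
  have hmin : q ∈ (Smoothing.singRad R φ).minimalPrimes := by
    refine ⟨⟨inferInstance, hle⟩, fun p' hp' hp'q => ?_⟩
    have hqmin : q ∈ minimalPrimes Λ := Ideal.height_eq_zero_iff.1 hht
    exact hqmin.2 ⟨hp'.1, bot_le⟩ hp'q
  letI : Algebra R B := ((algebraMap Rₚ B).comp (algebraMap R Rₚ)).toAlgebra
  haveI : IsScalarTower R Rₚ B := IsScalarTower.of_algebraMap_eq fun _ => rfl
  let γR : A →ₐ[R] B := { γ with commutes' := hγ }
  have htop : Smoothing.singRad Rₚ h = ⊤ := by
    haveI := hB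
    rw [Smoothing.singRad, Smoothing.singularIdeal, Algebra.smoothLocus_eq_univ, Set.compl_univ,
      PrimeSpectrum.vanishingIdeal_empty, Ideal.map_top, Ideal.radical_top]
  refine Groth.Agent.S2034.result φ q hmin (Rₚ := Rₚ) (Λq := L) hdim
    ⟨B, inferInstance, inferInstance, hB.finitePresentation,
      Algebra.TensorProduct.lift (Algebra.ofId Rₚ B) γR (fun _ _ => Commute.all _ _), h,
      Algebra.TensorProduct.ext (AlgHom.ext fun r => ?_) (AlgHom.ext fun a => ?_), htop ▸ le_top, ?_⟩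
  · simp
  · simp only [AlgHom.comp_apply, AlgHom.restrictScalars_apply, Algebra.TensorProduct.includeRight_apply,
      Algebra.TensorProduct.lift_tmul, map_one, one_mul]
    exact hcomp a
  rw [htop, top_le_iff]
  haveI := IsLocalization.AtPrime.isLocalRing L q
  rw [IsLocalization.AtPrime.map_eq_maximalIdeal q L]
  exact (maximalIdeal.isMaximal L).ne_top

/-- The singular ideal extends under base change. -/
theorem mem_singularIdeal_baseChange {R A R' : Type u} [CommRing R] [CommRing A] [Algebra R A]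
    [Algebra.FinitePresentation R A] [CommRing R'] [Algebra R R'] {a : A}
    (ha : a ∈ Smoothing.singularIdeal R A) :
    (1 : R') ⊗ₜ[R] a ∈ Smoothing.singularIdeal R' (R' ⊗[R] A) := by
  have hrad : (Smoothing.singularIdeal R' (R' ⊗[R] A)).IsRadical := PrimeSpectrum.isRadical_vanishingIdeal _
  let ι : A →+* R' ⊗[R] A := (Algebra.TensorProduct.includeRight : A →ₐ[R] R' ⊗[R] A).toRingHom
  have h : Smoothing.singularIdeal R A ≤ (Smoothing.singularIdeal R' (R' ⊗[R] A)).comap ι := by
    refine Smooth28.singularIdeal_le_radical_elementary.trans ?_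
    rw [(hrad.comap ι).radical_le_iff, Ideal.span_le]
    intro b hb
    exact Smooth28.mem_singularIdeal_of_isStrictlyStandard
      ((Groth.Agent.S6829.result b).2 (Smooth28.isStrictlyStandard_of_isElementaryStandard hb))
  exact h ha

end Groth.Agent.CAlg1.Pop
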