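import Groth.Prelude
import Groth.Agent.Sep12.Basic

/-!
# Separable field extensions are ind-smooth
-/

set_option autoImplicit false
universe u

namespace Groth.Agent.CAlg1.Pop

theorem indSmooth_of_geometricallyReduced (k K : Type u) [Field k] [Field K] [Algebra k K]
    [Algebra.IsGeometricallyReduced k K] : Smoothing.IndSmooth k K := by
  intro A _ _ hA φ
  let B := φ.range
  haveI : Algebra.FiniteType k B :=
    Algebra.FiniteType.of_surjective φ.rangeRestrict φ.rangeRestrict_surjective
  haveI : Algebra.FinitePresentation k B := Algebra.FinitePresentation.of_finiteType.mp inferInstance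
  let F := FractionRing B
  let ι : F →ₐ[k] K := IsFractionRing.liftAlgHom (g := B.val) Subtype.val_injective
  haveI : Algebra.IsGeometricallyReduced k F :=
    Algebra.IsGeometricallyReduced.of_injective ι ι.injective
  haveI : Algebra.FormallySmooth k F := Sep12.formallySmooth_iff_isGeometricallyReduced.mpr inferInstance
  haveI : IsFractionRing B (Localization.AtPrime (⊥ : Ideal B)) := by
    show IsLocalization (nonZeroDivisors B) (Localization.AtPrime (⊥ : Ideal B))
    rw [← Ideal.primeCompl_bot]; infer_instance
  haveI : Algebra.IsSmoothAt k (⊥ : Ideal B) :=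
    Algebra.FormallySmooth.of_equiv ((FractionRing.algEquiv B (Localization.AtPrime (⊥ : Ideal B))).restrictScalars k)
  obtain ⟨f, hf, hsm⟩ := Algebra.IsSmoothAt.exists_notMem_smooth k (⊥ : Ideal B)
  have hu : IsUnit (B.val f) := isUnit_iff_ne_zero.2 fun h0 => hf (by
    rw [Ideal.mem_bot]; exact Subtype.ext h0)
  have hM : ∀ y : Submonoid.powers f, IsUnit (B.val (y : B)) := by
    rintro ⟨_, m, rfl⟩
    rw [map_pow]; exact hu.pow m
  refine ⟨Localization.Away f, inferInstance, inferInstance, hsm,
    (IsScalarTower.toAlgHom k B (Localization.Away f)).comp φ.rangeRestrict,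
    IsLocalization.liftAlgHom (M := Submonoid.powers f) (f := B.val) hM, AlgHom.ext fun a => ?_⟩
  simp only [AlgHom.comp_apply, IsScalarTower.coe_toAlgHom', IsLocalization.liftAlgHom_apply,
    IsLocalization.lift_eq]
  rfl

end Groth.Agent.CAlg1.Pop
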