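import Groth.Prelude
import Groth.Agent.S2022
import Groth.Agent.S2034
import Groth.Agent.S10903
import Groth.Agent.CAlg1.Miracle
import Groth.Agent.EGA4H10.CompleteUC
import Groth.Agent.CAlg1.Regular

/-!
Resolving problems with Artinian localizations; flatness over a polynomial ring at a regular system
of parameters.
-/

set_option autoImplicit false
universe u

open TensorProduct IsLocalRing

namespace Groth.Agent.CAlg1.Pop

/-- Ind-smoothness passes along isomorphisms. -/
theorem indSmooth_of_equiv {k K R' Λ' : Type u} [CommRing k] [CommRing K] [Algebra k K] [CommRing R']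
    [Algebra k R'] [CommRing Λ'] [Algebra R' Λ'] [Algebra k Λ'] [IsScalarTower k R' Λ']
    (hR' : Function.Bijective (algebraMap k R')) (e : K ≃ₐ[k] Λ') (h : Smoothing.IndSmooth k K) :
    Smoothing.IndSmooth R' Λ' := by
  intro A _ _ hA f
  letI : Algebra k A := ((algebraMap R' A).comp (algebraMap k R')).toAlgebra
  haveI : IsScalarTower k R' A := IsScalarTower.of_algebraMap_eq fun _ => rfl
  haveI : Algebra.FinitePresentation k R' :=
    Algebra.FinitePresentation.equiv (AlgEquiv.ofBijective (Algebra.ofId k R') hR')
  haveI : Algebra.FinitePresentation k A := Algebra.FinitePresentation.trans k R' A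
  obtain ⟨B, _, _, hB, g, h', hgh⟩ := h A inferInstance (e.symm.toAlgHom.comp (f.restrictScalars k))
  let g₀ : A →ₐ[k] R' ⊗[k] B := Algebra.TensorProduct.includeRight.comp g
  have hcomm : ∀ r : R', g₀ (algebraMap R' A r) = algebraMap R' (R' ⊗[k] B) r := by
    intro r
    obtain ⟨x, rfl⟩ := hR'.2 r
    rw [← IsScalarTower.algebraMap_apply, ← IsScalarTower.algebraMap_apply]
    exact g₀.commutes x
  refine ⟨R' ⊗[k] B, inferInstance, inferInstance, inferInstance, { g₀.toRingHom with commutes' := hcomm },
    Algebra.TensorProduct.lift (Algebra.ofId R' Λ') (e.toAlgHom.comp h') (fun _ _ => Commute.all _ _),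
    AlgHom.ext fun a => ?_⟩
  show Algebra.TensorProduct.lift (Algebra.ofId R' Λ') (e.toAlgHom.comp h') (fun _ _ => Commute.all _ _) ((1 : R') ⊗ₜ[k] g a) = f a
  rw [Algebra.TensorProduct.lift_tmul, map_one, one_mul]
  show e (h' (g a)) = f a
  rw [show h' (g a) = e.symm (f a) from DFunLike.congr_fun hgh a, AlgEquiv.apply_symm_apply]

/-- A problem with zero-dimensional localisation over a local base is resolved by ind-smoothness. -/
theorem resolvable_artinian {R A Λ : Type u} [CommRing R] [IsNoetherianRing R] [CommRing A]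
    [Algebra R A] [Algebra.FinitePresentation R A] [CommRing Λ] [Algebra R Λ] (φ : A →ₐ[R] Λ)
    (q : Ideal Λ) [q.IsPrime] (hunit : ∀ r : R, algebraMap R Λ r ∉ q → IsUnit r)
    (L : Type u) [CommRing L] [Algebra Λ L] [IsLocalization.AtPrime L q] [Algebra R L]
    [IsScalarTower R Λ L] (hdim : ringKrullDim L = 0) (hind : Smoothing.IndSmooth R L) :
    Smoothing.Resolvable R φ q := by
  by_cases hle : Smoothing.singRad R φ ≤ q
  swap
  · exact ⟨A, inferInstance, inferInstance, inferInstance, AlgHom.id R A, φ, AlgHom.comp_id φ, le_rfl, hle⟩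
  have hht : q.height = 0 := by
    have h := IsLocalization.AtPrime.ringKrullDim_eq_height q L
    rw [hdim] at h
    exact_mod_cast h.symm
  have hmin : q ∈ (Smoothing.singRad R φ).minimalPrimes := by
    refine ⟨⟨inferInstance, hle⟩, fun p' hp' hp'q => ?_⟩
    have hqmin : q ∈ minimalPrimes Λ := Ideal.height_eq_zero_iff.1 hht
    exact hqmin.2 ⟨hp'.1, bot_le⟩ hp'q
  haveI : IsLocalization.AtPrime R (q.comap (algebraMap R Λ)) :=
    IsLocalization.self fun r hr => hunit r hr
  obtain ⟨B, _, _, hB, g, h, hgh⟩ := hind (R ⊗[R] A) inferInstance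
    (Algebra.TensorProduct.lift (Algebra.ofId R L) ((IsScalarTower.toAlgHom R Λ L).comp φ)
      (fun _ _ => Commute.all _ _))
  have htop : Smoothing.singRad R h = ⊤ := by
    rw [Smoothing.singRad, Smoothing.singularIdeal, Algebra.smoothLocus_eq_univ, Set.compl_univ,
      PrimeSpectrum.vanishingIdeal_empty, Ideal.map_top, Ideal.radical_top]
  refine Groth.Agent.S2034.result φ q hmin (Rₚ := R) (Λq := L) hdim
    ⟨B, inferInstance, inferInstance, inferInstance, g, h, hgh, htop ▸ le_top, ?_⟩
  rw [htop, top_le_iff]
  haveI := IsLocalization.AtPrime.isLocalRing L q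
  rw [IsLocalization.AtPrime.map_eq_maximalIdeal q L]
  exact (maximalIdeal.isMaximal L).ne_top

/-- Flatness over the polynomial ring at a regular system of parameters. -/
theorem flat_params {k L : Type u} [Field k] [CommRing L] [IsRegularLocalRing L] {d : ℕ}
    [Algebra (MvPolynomial (Fin d) k) L] (hd : ringKrullDim L = d)
    (hspan : Ideal.span (Set.range fun i => algebraMap (MvPolynomial (Fin d) k) L (MvPolynomial.X i)) =
      maximalIdeal L) :
    Module.Flat (MvPolynomial (Fin d) k) L := by
  let R := MvPolynomial (Fin d) k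
  let p : Ideal R := RingHom.ker (MvPolynomial.constantCoeff (σ := Fin d) (R := k))
  haveI : p.IsPrime := RingHom.ker_isPrime _
  have hp : p = Ideal.span (Set.range fun i => (MvPolynomial.X i : R)) := by
    refine le_antisymm (fun f hf => ?_) (Ideal.span_le.2 ?_)
    · rw [show Set.range (fun i => (MvPolynomial.X i : R)) = MvPolynomial.X '' Set.univ from Set.image_univ.symm,
        MvPolynomial.mem_ideal_span_X_image]
      intro m hm
      by_contra hcon
      push Not at hcon
      have : m = 0 := Finsupp.ext fun i => by simpa using hcon i (Set.mem_univ i)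
      subst this
      rw [MvPolynomial.mem_support_iff] at hm
      exact hm hf
    · rintro _ ⟨i, rfl⟩
      simp [p, RingHom.mem_ker]
  have hcomap : ∀ r : R, r ∉ p → IsUnit (algebraMap R L r) := by
    intro r hr
    rw [← IsLocalRing.notMem_maximalIdeal]
    intro hm
    have hsub : r - MvPolynomial.C (MvPolynomial.constantCoeff r) ∈ p := by
      show MvPolynomial.constantCoeff (r - MvPolynomial.C (MvPolynomial.constantCoeff r)) = 0
      rw [map_sub, MvPolynomial.constantCoeff_C, sub_self]
    have hmap : p.map (algebraMap R L) ≤ maximalIdeal L := by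
      rw [hp, Ideal.map_span, ← Set.range_comp]; exact hspan.le
    have h1 := hmap (Ideal.mem_map_of_mem (algebraMap R L) hsub)
    rw [map_sub] at h1
    have h2 := Ideal.sub_mem _ hm h1
    rw [sub_sub_cancel] at h2
    exact h2 (((isUnit_iff_ne_zero.2 fun h0 => hr h0).map (MvPolynomial.C (σ := Fin d))).map (algebraMap R L))
  let A₀ := Localization.AtPrime p
  letI : Algebra A₀ L :=
    (IsLocalization.lift (M := p.primeCompl) (g := algebraMap R L) fun y => hcomap y y.2).toAlgebra
  haveI : IsScalarTower R A₀ L := IsScalarTower.of_algebraMap_eq fun r => (IsLocalization.lift_eq _ r).symm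
  haveI : IsRegularRing R := inferInstance
  haveI : IsRegularLocalRing A₀ := IsRegularRing.isRegularLocalRing_localization p
  have hmax : (maximalIdeal A₀).map (algebraMap A₀ L) = maximalIdeal L := by
    rw [← Localization.AtPrime.map_eq_maximalIdeal, Ideal.map_map, ← IsScalarTower.algebraMap_eq, hp,
      Ideal.map_span, ← Set.range_comp]
    exact hspan
  haveI : IsLocalHom (algebraMap A₀ L) := by
    refine ((IsLocalRing.local_hom_TFAE _).out 0 2).2 ?_
    exact hmax.le
  haveI := EGA4H10.isCohenMacaulayLocalRing_of_regular L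
  have hdim : ringKrullDim A₀ = d := by
    rw [IsLocalization.AtPrime.ringKrullDim_eq_height p A₀]
    refine le_antisymm ?_ (WithBot.coe_le_coe.2 (Groth.Agent.S10903.height_ker_constantCoeff k d))
    refine WithBot.coe_le_coe.2 ((Ideal.height_le_spanFinrank p Ideal.IsPrime.ne_top').trans ?_)
    have h1 : p.spanFinrank ≤ (Set.range fun i => (MvPolynomial.X i : R)).ncard := by
      rw [hp]; exact Submodule.spanFinrank_span_le_ncard_of_finite (Set.finite_range _)
    exact Nat.cast_le.2 (h1.trans (by
      rw [← Set.image_univ]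
      exact (Set.ncard_image_le Set.finite_univ).trans (by simp [Set.ncard_univ])))
  haveI : Module.Flat A₀ L := miracle_flatness _ A₀ L rfl (by
    haveI : Nontrivial (L ⧸ maximalIdeal L) := Ideal.Quotient.nontrivial_iff.2 (maximalIdeal.isMaximal L).ne_top
    have h0 : ringKrullDim (L ⧸ (maximalIdeal A₀).map (algebraMap A₀ L)) = 0 := by
      rw [hmax]
      letI := Ideal.Quotient.field (maximalIdeal L)
      exact ringKrullDim_eq_zero_of_field _
    rw [h0, add_zero, hdim, hd])
  exact Module.Flat.trans R A₀ L

/-- Powers of the variables have stable annihilators modulo powers of the previous ones. -/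
theorem X_pow_cancel {k : Type u} [CommRing k] {d : ℕ} (e n : ℕ) (i : Fin d)
    (x : MvPolynomial (Fin d) k)
    (h : MvPolynomial.X i ^ n * x ∈
      Ideal.span (Set.range fun j : {j : Fin d // (j : ℕ) < (i : ℕ)} => (MvPolynomial.X j.1 : MvPolynomial (Fin d) k) ^ e)) :
    x ∈ Ideal.span (Set.range fun j : {j : Fin d // (j : ℕ) < (i : ℕ)} => (MvPolynomial.X j.1 : MvPolynomial (Fin d) k) ^ e) := by
  classical
  have hs : (Set.range fun j : {j : Fin d // (j : ℕ) < (i : ℕ)} => (MvPolynomial.X j.1 : MvPolynomial (Fin d) k) ^ e) =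
      (fun s => MvPolynomial.monomial s (1 : k)) ''
        Set.range fun j : {j : Fin d // (j : ℕ) < (i : ℕ)} => Finsupp.single j.1 e := by
    rw [← Set.range_comp]
    exact congrArg Set.range (funext fun j => MvPolynomial.X_pow_eq_monomial)
  rw [hs, MvPolynomial.mem_ideal_span_monomial_image] at h ⊢
  intro m hm
  obtain ⟨_, ⟨j, rfl⟩, hle⟩ := h (Finsupp.single i n + m) (by
    rw [MvPolynomial.mem_support_iff, MvPolynomial.X_pow_eq_monomial, MvPolynomial.coeff_monomial_mul, one_mul]
    exact MvPolynomial.mem_support_iff.1 hm)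
  refine ⟨_, ⟨j, rfl⟩, fun l => ?_⟩
  have hl := hle l
  rcases eq_or_ne l j.1 with rfl | hne
  · have hne : (j.1 : Fin d) ≠ i := fun h => by have := j.2; rw [h] at this; omega
    rw [Finsupp.single_eq_same] at hl ⊢
    rw [Finsupp.add_apply, Finsupp.single_eq_of_ne hne, zero_add] at hl
    exact hl
  · rw [Finsupp.single_eq_of_ne hne]
    exact Nat.zero_le _

end Groth.Agent.CAlg1.Pop
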