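import Groth.Agent.Smooth28.FreeKaehler

/-!
A retract with free differentials which is formally smooth at every smooth localization
(variant of `Smooth28.exists_retract_free_differentials`).
-/

namespace Groth.Agent.CAlg1.Pop

open MvPolynomial Groth.Agent.Smooth28

universe u

set_option maxHeartbeats 1000000 in
theorem exists_retract_free_smooth {R A : Type u} [CommRing R] [CommRing A] [Algebra R A]
    [Algebra.FinitePresentation R A] :
    ∃ (C : Type u) (_ : CommRing C) (_ : Algebra A C) (_ : Algebra R C) (_ : IsScalarTower R A C),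
      Algebra.FiniteType A C ∧ Nonempty (C →ₐ[A] A) ∧
      ∀ a : A, Algebra.Smooth R (Localization.Away a) →
        Module.Free (Localization.Away (algebraMap A C a)) Ω[Localization.Away (algebraMap A C a)⁄R] ∧
          Algebra.FormallySmooth A (Localization.Away (algebraMap A C a)) := by
  classical
  obtain ⟨n, φ, hφ, hfg⟩ := (inferInstance : Algebra.FinitePresentation R A).out
  obtain ⟨m, f, hf⟩ := Submodule.fg_iff_exists_fin_generating_family.1 hfg
  replace hf : RingHom.ker φ.toRingHom = Ideal.span (Set.range f) := hf.symm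
  have hf0 : ∀ j, φ (f j) = 0 := fun j =>
    show f j ∈ RingHom.ker φ.toRingHom from hf ▸ Ideal.subset_span ⟨j, rfl⟩
  -- the syzygies of the conormal module
  let κ := {b : Fin m → MvPolynomial (Fin n) R // ∑ j, b j * f j ∈ RingHom.ker φ.toRingHom ^ 2}
  let rel : κ → MvPolynomial (Fin m) A := fun b => ∑ j, MvPolynomial.C (φ (b.1 j)) * X j
  let S0 := MvPolynomial (Fin m) A ⧸ Ideal.span (Set.range rel)
  let mk : MvPolynomial (Fin m) A →ₐ[A] S0 := Ideal.Quotient.mkₐ A _
  let z : Fin m → S0 := fun j => mk (X j)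
  have hrel : ∀ b : κ, ∑ j, algebraMap A S0 (φ (b.1 j)) * z j = 0 := fun b => by
    have h : mk (rel b) = 0 := Ideal.Quotient.eq_zero_iff_mem.2 (Ideal.subset_span ⟨b, rfl⟩)
    simpa only [rel, map_sum, map_mul, ← algebraMap_eq, AlgHom.commutes, z] using h
  let π0' : MvPolynomial (Fin m) A →ₐ[A] A := aeval fun _ => 0
  have hπ0 : ∀ x ∈ Ideal.span (Set.range rel), π0' x = 0 := by
    intro x hx
    refine (Ideal.span_le.2 ?_ : Ideal.span (Set.range rel) ≤ RingHom.ker π0'.toRingHom) hx
    rintro _ ⟨b, rfl⟩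
    show π0' (rel b) = 0
    simp [π0', rel]
  refine ⟨S0, inferInstance, inferInstance, inferInstance, inferInstance, inferInstance,
    ⟨Ideal.Quotient.liftₐ _ π0' hπ0⟩, fun a ha => ?_⟩
  -- the presentation over the base
  let P := MvPolynomial (Fin n ⊕ Fin m) R
  let ι0 : MvPolynomial (Fin n) R →ₐ[R] P := rename Sum.inl
  let Φ : P →ₐ[R] S0 := aeval (Sum.elim (fun i => algebraMap A S0 (φ (X i))) z)
  have hΦι : ∀ p, Φ (ι0 p) = algebraMap A S0 (φ p) := fun p => by
    have : Φ.comp ι0 = (IsScalarTower.toAlgHom R A S0).comp φ :=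
      MvPolynomial.algHom_ext fun i => by
        show Φ (rename Sum.inl (X i)) = algebraMap A S0 (φ (X i))
        rw [rename_X]
        exact aeval_X _ _
    exact AlgHom.congr_fun this p
  have hΦz : ∀ j, Φ (X (Sum.inr j)) = z j := fun j => aeval_X _ _
  let κ2 := Fin m ⊕ κ
  let F : κ2 → P := Sum.elim (fun j => ι0 (f j)) fun b => ∑ j, ι0 (b.1 j) * X (Sum.inr j)
  have hΦs : Function.Surjective Φ := by
    intro s
    obtain ⟨q, rfl⟩ := Ideal.Quotient.mk_surjective s
    induction q using MvPolynomial.induction_on with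
    | C c =>
      obtain ⟨p, rfl⟩ := hφ c
      exact ⟨ι0 p, hΦι p⟩
    | add p q hp hq =>
      obtain ⟨a, ha⟩ := hp
      obtain ⟨b, hb⟩ := hq
      exact ⟨a + b, by rw [map_add, map_add, ha, hb]⟩
    | mul_X p i hp =>
      obtain ⟨a, ha⟩ := hp
      exact ⟨a * X (Sum.inr i), by rw [map_mul, map_mul, ha, hΦz]; rfl⟩
  have hker : RingHom.ker Φ.toRingHom = Ideal.span (Set.range F) := by
    refine le_antisymm (fun x hx => ?_) (Ideal.span_le.2 ?_)
    swap
    · rintro _ ⟨j | b, rfl⟩
      · show Φ (ι0 (f j)) = 0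
        rw [hΦι, hf0, map_zero]
      · show Φ (∑ j, ι0 (b.1 j) * X (Sum.inr j)) = 0
        simp only [map_sum, map_mul, hΦι, hΦz, hrel]
    let K := Ideal.span (Set.range F)
    have hι : ∀ p, φ p = 0 → ι0 p ∈ K := by
      intro p hp
      have h1 := Ideal.mem_map_of_mem ι0 (show p ∈ Ideal.span (Set.range f) from hf ▸ hp)
      rw [Ideal.map_span] at h1
      refine Ideal.span_le.2 ?_ h1
      rintro _ ⟨_, ⟨j, rfl⟩, rfl⟩
      exact Ideal.subset_span ⟨Sum.inl j, rfl⟩
    let σ : A →ₐ[R] P ⧸ K := AlgHom.liftOfSurjective φ hφ ((Ideal.Quotient.mkₐ R K).comp ι0)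
      fun p hp => Ideal.Quotient.eq_zero_iff_mem.2 (hι p hp)
    have hσ : ∀ p, σ (φ p) = Ideal.Quotient.mk K (ι0 p) := fun p =>
      AlgHom.liftOfSurjective_apply φ hφ ((Ideal.Quotient.mkₐ R K).comp ι0) _ p
    let τ : MvPolynomial (Fin m) A →+* P ⧸ K :=
      MvPolynomial.eval₂Hom σ.toRingHom fun i => Ideal.Quotient.mk K (X (Sum.inr i))
    have hτ : ∀ z ∈ Ideal.span (Set.range rel), τ z = 0 := by
      intro z hz
      refine (Ideal.span_le.2 ?_ : Ideal.span (Set.range rel) ≤ RingHom.ker τ) hz
      rintro _ ⟨b, rfl⟩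
      show τ (rel b) = 0
      simp only [τ, rel, map_sum, map_mul, eval₂Hom_C, eval₂Hom_X']
      simp only [AlgHom.toRingHom_eq_coe, RingHom.coe_coe, hσ, ← map_mul, ← map_sum]
      exact Ideal.Quotient.eq_zero_iff_mem.2 (Ideal.subset_span ⟨Sum.inr b, rfl⟩)
    let τ' : S0 →+* P ⧸ K := Ideal.Quotient.lift _ τ hτ
    have hτA : ∀ c, τ' (algebraMap A S0 c) = σ c := fun c => eval₂Hom_C _ _ c
    have hτy : ∀ i, τ' (z i) = Ideal.Quotient.mk K (X (Sum.inr i)) := fun i => eval₂Hom_X' _ _ i
    have hcomp : τ'.comp Φ.toRingHom = Ideal.Quotient.mk K := by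
      refine MvPolynomial.ringHom_ext (fun c => ?_) fun j => ?_
      · show τ' (Φ (MvPolynomial.C c)) = _
        rw [show Φ (MvPolynomial.C c) = algebraMap A S0 (algebraMap R A c) by
          rw [← algebraMap_eq, AlgHom.commutes, IsScalarTower.algebraMap_apply R A S0],
          hτA, AlgHom.commutes]
        rfl
      · show τ' (Φ (X j)) = _
        rcases j with i | i
        · rw [show (X (Sum.inl i) : P) = ι0 (X i) from (rename_X _ _).symm, hΦι, hτA, hσ]
        · rw [hΦz, hτy]
    rw [← Ideal.Quotient.eq_zero_iff_mem, ← RingHom.congr_fun hcomp x]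
    show τ' (Φ x) = 0
    rw [show Φ x = 0 from hx, map_zero]
  -- the splitting
  obtain ⟨a', rfl⟩ := hφ a
  haveI := ha
  obtain ⟨k, h, hh, H⟩ :=
    exists_split_of_formallySmooth (S := Localization.Away (φ a')) φ hφ hfg (φ a') a' rfl
  have hco : ∀ i, ∃ co : Fin m → MvPolynomial (Fin n) R, ∑ l, co l * f l = h i := fun i =>
    (Submodule.mem_span_range_iff_exists_fun _).1
      (show h i ∈ Ideal.span (Set.range f) from hf ▸ hh i)
  choose Hc hHc using hco
  let Sc := Localization.Away (algebraMap A S0 (φ a'))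
  let eS : MvPolynomial (Fin n) R →+* Sc :=
    (algebraMap S0 Sc).comp ((algebraMap A S0).comp φ.toRingHom)
  have heS : ∀ p, φ p = 0 → eS p = 0 := fun p hp => by
    show algebraMap S0 Sc (algebraMap A S0 (φ p)) = 0
    rw [hp, map_zero, map_zero]
  let zS : Fin m → Sc := fun j => algebraMap S0 Sc (z j)
  have hzrel : ∀ b : κ, ∑ j, eS (b.1 j) * zS j = 0 := fun b => by
    have h := congrArg (algebraMap S0 Sc) (hrel b)
    rw [map_sum, map_zero] at h
    simp only [map_mul] at h
    exact h
  have hunit : IsUnit (eS a' ^ k) :=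
    (IsLocalization.Away.algebraMap_isUnit (algebraMap A S0 (φ a')) (S := Sc)).pow k
  obtain ⟨w, hw⟩ := hunit.exists_left_inv
  refine ⟨?_, ?fs⟩
  case fs =>
    refine Algebra.FormallySmooth.iff_comp_surjective.2 fun D _ _ N hN g => ?_
    obtain ⟨u, hu⟩ : ∃ u : D, u * algebraMap A D (φ a' ^ k) = 1 := by
      have h1 : IsUnit (Ideal.Quotient.mk N (algebraMap A D (φ a' ^ k))) := by
        rw [Ideal.Quotient.mk_algebraMap, ← AlgHom.commutes g, IsScalarTower.algebraMap_apply A S0 Sc,
          map_pow, map_pow]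
        exact ((IsLocalization.Away.algebraMap_isUnit (algebraMap A S0 (φ a')) (S := Sc)).pow k).map g
      exact ((IsNilpotent.isUnit_quotient_mk_iff ⟨2, hN⟩).1 h1).exists_left_inv
    choose x hx using fun j => Ideal.Quotient.mk_surjective (g (zS j))
    let G' : Fin m → Fin m → MvPolynomial (Fin n) R := fun j l => ∑ i, pderiv i (f j) * Hc i l
    let y : Fin m → D := fun j => u * ∑ l, algebraMap A D (φ (G' j l)) * x l
    have hy : ∀ b : κ, ∑ j, algebraMap A D (φ (b.1 j)) * y j = 0 := by
      intro b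
      have h0 : ∀ i, ∑ j, φ (b.1 j) * φ (pderiv i (f j)) = 0 := fun i => by
        have h1 : φ (pderiv i (∑ j, b.1 j * f j)) = 0 := pderiv_mem_of_mem_sq b.2 i
        simpa [pderiv_mul, hf0] using h1
      have h2 : ∀ l, ∑ j, φ (b.1 j) * φ (G' j l) = 0 := fun l => by
        simp only [G', map_sum, map_mul, Finset.mul_sum]
        rw [Finset.sum_comm]
        refine Finset.sum_eq_zero fun i _ => ?_
        rw [show ∑ j, φ (b.1 j) * (φ (pderiv i (f j)) * φ (Hc i l)) =
          (∑ j, φ (b.1 j) * φ (pderiv i (f j))) * φ (Hc i l) by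
            rw [Finset.sum_mul]; exact Finset.sum_congr rfl fun j _ => (mul_assoc _ _ _).symm, h0, zero_mul]
      simp only [y, Finset.mul_sum]
      rw [Finset.sum_comm]
      refine Finset.sum_eq_zero fun l _ => ?_
      rw [show ∑ j, algebraMap A D (φ (b.1 j)) * (u * (algebraMap A D (φ (G' j l)) * x l)) =
        u * x l * algebraMap A D (∑ j, φ (b.1 j) * φ (G' j l)) by
          rw [map_sum, Finset.mul_sum]; exact Finset.sum_congr rfl fun j _ => by rw [map_mul]; ring,
        h2, map_zero, mul_zero]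
    let e : S0 →ₐ[A] D := Ideal.Quotient.liftₐ _ (aeval y) fun p hp => by
      refine (Ideal.span_le.2 ?_ : Ideal.span (Set.range rel) ≤ RingHom.ker (aeval (R := A) y).toRingHom) hp
      rintro _ ⟨b, rfl⟩
      show aeval y (rel b) = 0
      simp only [rel, map_sum, map_mul, aeval_C, aeval_X]
      exact hy b
    have hea : IsUnit (e (algebraMap A S0 (φ a'))) := by
      rw [AlgHom.commutes]
      refine (IsNilpotent.isUnit_quotient_mk_iff ⟨2, hN⟩).1 ?_
      rw [Ideal.Quotient.mk_algebraMap, ← AlgHom.commutes g, IsScalarTower.algebraMap_apply A S0 Sc]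
      exact (IsLocalization.Away.algebraMap_isUnit (algebraMap A S0 (φ a')) (S := Sc)).map g
    have hM : ∀ z : Submonoid.powers (algebraMap A S0 (φ a')), IsUnit (e (z : S0)) := by
      rintro ⟨_, i, rfl⟩
      rw [map_pow]; exact hea.pow i
    let eL : Sc →ₐ[A] D := IsLocalization.liftAlgHom (M := Submonoid.powers (algebraMap A S0 (φ a'))) (f := e) hM
    refine ⟨eL, ?_⟩
    have hmk : ((Ideal.Quotient.mkₐ A N).comp eL).comp (IsScalarTower.toAlgHom A S0 Sc) =
        g.comp (IsScalarTower.toAlgHom A S0 Sc) := by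
      refine Ideal.Quotient.algHom_ext _ (MvPolynomial.algHom_ext fun j => ?_)
      show Ideal.Quotient.mk N (eL (algebraMap S0 Sc (z j))) = g (zS j)
      rw [show eL (algebraMap S0 Sc (z j)) = e (z j) from IsLocalization.lift_eq _ _,
        show e (z j) = y j from aeval_X _ _]
      have hrel' := hzrel ⟨fun l => (if l = j then a' ^ k else 0) - G' j l, by
        have := H _ (hf0 j)
        convert this using 1
        simp only [sub_mul, Finset.sum_sub_distrib, G', Finset.sum_mul, ite_mul, zero_mul,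
          Finset.sum_ite_eq', Finset.mem_univ, if_true]
        rw [Finset.sum_comm]
        congr 1
        refine Finset.sum_congr rfl fun i _ => ?_
        rw [← hHc i, Finset.mul_sum]
        exact Finset.sum_congr rfl fun l _ => mul_assoc _ _ _⟩
      simp only [map_sub, sub_mul, Finset.sum_sub_distrib, sub_eq_zero] at hrel'
      rw [Finset.sum_eq_single j (fun l _ hl => by simp [hl]) (by simp), if_pos rfl] at hrel'
      have hg := congrArg g hrel'
      have hq : ∀ p, g (eS p) = Ideal.Quotient.mk N (algebraMap A D (φ p)) := fun p => by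
        show g (algebraMap S0 Sc (algebraMap A S0 (φ p))) = _
        rw [← IsScalarTower.algebraMap_apply, AlgHom.commutes, Ideal.Quotient.mk_algebraMap]
      simp only [map_mul, map_sum, hq, ← hx] at hg
      simp only [← map_mul, ← map_sum] at hg
      show Ideal.Quotient.mk N (u * ∑ l, algebraMap A D (φ (G' j l)) * x l) = _
      rw [map_mul, ← hg, ← map_mul, ← mul_assoc, map_pow, map_pow,
        show u * algebraMap A D (φ a') ^ k = 1 by rw [← map_pow]; exact hu, one_mul, hx]
    refine IsLocalization.algHom_ext (Submonoid.powers (algebraMap A S0 (φ a'))) ?_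
    exact hmk
  let J : Fin m → Fin n → Sc := fun j i => eS (pderiv i (f j))
  let row : MvPolynomial (Fin n) R → Fin n → Sc := fun p i => eS (pderiv i p)
  let σ : (Fin m → MvPolynomial (Fin n) R) → Fin n → Sc := fun b i => ∑ j, eS (pderiv i (b j)) * zS j
  let ρ : (Fin n → Sc) →ₗ[Sc] (Fin n → Sc) := Fintype.linearCombination Sc fun i => w • row (h i)
  let iota : (Fin m → Sc) →ₗ[Sc] (Fin n → Sc) := Fintype.linearCombination Sc J
  have hrowmem : ∀ p, φ p = 0 → row p ∈ LinearMap.range iota := by
    intro p hp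
    obtain ⟨c, hc⟩ := (Submodule.mem_span_range_iff_exists_fun _).1
      (show p ∈ Ideal.span (Set.range f) from hf ▸ hp)
    refine ⟨fun j => eS (c j), ?_⟩
    ext i
    simp [iota, J, row, Fintype.linearCombination_apply, ← hc, pderiv_mul, heS _ (hf0 _),
      Finset.sum_apply]
  have hρJ : ∀ j, ρ (J j) = J j := by
    intro j
    ext l
    have h1 : φ (pderiv l (a' ^ k * f j - ∑ i, pderiv i (f j) * h i)) = 0 :=
      pderiv_mem_of_mem_sq (H _ (hf0 j)) l
    simp only [map_sub, map_sum, pderiv_mul, map_add, map_mul, hf0, hh, mul_zero, zero_add,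
      sub_eq_zero] at h1
    have h2 := congrArg (fun x => algebraMap S0 Sc (algebraMap A S0 x)) h1
    simp only [map_sum, map_mul, map_pow] at h2
    simp only [ρ, Fintype.linearCombination_apply, Finset.sum_apply, Pi.smul_apply, smul_eq_mul]
    calc ∑ i, J j i * (w * row (h i) l) = w * ∑ i, J j i * row (h i) l := by
          rw [Finset.mul_sum]; exact Finset.sum_congr rfl fun i _ => mul_left_comm _ _ _
      _ = w * (eS a' ^ k * J j l) := congrArg (w * ·) h2.symm
      _ = J j l := by rw [← mul_assoc, hw, one_mul]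
  have hρiota : ∀ t, ρ (iota t) = iota t := fun t => by
    simp only [iota, Fintype.linearCombination_apply, map_sum, map_smul, hρJ]
  have hρK : ∀ v, ρ v ∈ LinearMap.range iota := fun v => by
    simp only [ρ, Fintype.linearCombination_apply]
    exact Submodule.sum_mem _ fun i _ =>
      Submodule.smul_mem _ _ (Submodule.smul_mem _ _ (hrowmem _ (hh i)))
  have hρ2 : ∀ v, ρ (ρ v) = ρ v := fun v => by
    obtain ⟨t, ht⟩ := hρK v
    rw [← ht, hρiota]
  let G : Fin m → Fin m → MvPolynomial (Fin n) R := fun j l => ∑ i, pderiv i (f j) * Hc i l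
  let s : Fin m → κ := fun j => ⟨fun l => (if l = j then a' ^ k else 0) - G j l, by
    have := H _ (hf0 j)
    convert this using 1
    simp only [sub_mul, Finset.sum_sub_distrib, G, Finset.sum_mul, ite_mul, zero_mul,
      Finset.sum_ite_eq', Finset.mem_univ, if_true]
    rw [Finset.sum_comm]
    congr 1
    refine Finset.sum_congr rfl fun i _ => ?_
    rw [← hHc i, Finset.mul_sum]
    exact Finset.sum_congr rfl fun l _ => mul_assoc _ _ _⟩
  let Γ : (Fin m → Sc) →ₗ[Sc] (Fin n → Sc) :=
    Fintype.linearCombination Sc fun j => w • (σ (s j).1 - ρ (σ (s j).1))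
  have hΓσ : ∀ b : κ, Γ (fun j => eS (b.1 j)) = σ b.1 - ρ (σ b.1) := by
    intro b
    let T : (Fin n → Sc) →ₗ[Sc] (Fin n → Sc) := LinearMap.id - ρ
    have hT : ∀ x, φ x = 0 → T (row x) = 0 := fun x hx => by
      obtain ⟨t, ht⟩ := hrowmem x hx
      show row x - ρ (row x) = 0
      rw [← ht, hρiota, sub_self]
    let β : Fin n → MvPolynomial (Fin n) R := fun i => ∑ j, b.1 j * pderiv i (f j)
    have hβ : ∀ i, φ (β i) = 0 := fun i => by
      have h1 : φ (pderiv i (∑ j, b.1 j * f j)) = 0 := pderiv_mem_of_mem_sq b.2 i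
      simp only [map_sum, pderiv_mul, map_add, map_mul, hf0, mul_zero, zero_add] at h1
      simpa only [β, map_sum, map_mul] using h1
    have hid : ∑ j, eS (b.1 j) • σ (s j).1 = eS a' ^ k • σ b.1 -
        ∑ i, (∑ l, eS (Hc i l) * zS l) • row (β i) := by
      ext p
      simp only [Finset.sum_apply, Pi.smul_apply, Pi.sub_apply, smul_eq_mul, σ, row]
      have hd : ∀ j l, eS (pderiv p ((s j).1 l)) =
          (if l = j then eS (pderiv p (a' ^ k)) else 0) -
            ∑ i, (eS (pderiv p (pderiv i (f j))) * eS (Hc i l) +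
              eS (pderiv i (f j)) * eS (pderiv p (Hc i l))) := fun j l => by
        simp only [s, G, map_sub, map_sum, pderiv_mul, map_add, map_mul]
        split <;> simp
      have hb : ∀ i, eS (pderiv p (β i)) = ∑ j, (eS (pderiv p (b.1 j)) * eS (pderiv i (f j)) +
          eS (b.1 j) * eS (pderiv p (pderiv i (f j)))) := fun i => by
        simp only [β, map_sum, pderiv_mul, map_add, map_mul]
      have h0 : ∀ i, ∑ j, eS (b.1 j) * eS (pderiv i (f j)) = 0 := fun i => by
        rw [← heS _ (hβ i)]; simp only [β, map_sum, map_mul]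
      have hs : ∀ j, eS a' ^ k * zS j = ∑ l, ∑ i, eS (pderiv i (f j)) * eS (Hc i l) * zS l := fun j => by
        have := hzrel (s j)
        simp only [s, G, map_sub, sub_mul, Finset.sum_sub_distrib, sub_eq_zero, map_sum, map_mul,
          Finset.sum_mul] at this
        rw [← this, Finset.sum_eq_single j (fun l _ hl => by simp [hl]) (by simp)]
        simp
      simp only [hd, hb]
      exact syzygy_identity _ _ _ _ _ (fun i j => eS (pderiv i (f j)))
        (fun i j => eS (pderiv p (pderiv i (f j)))) (fun i l => eS (Hc i l))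
        (fun i l => eS (pderiv p (Hc i l))) h0 (hzrel b)
        (fun j => by
          rw [hs j, Finset.sum_comm]
          simp only [mul_assoc, ← Finset.mul_sum])
    have h1 : T (∑ j, eS (b.1 j) • σ (s j).1) = eS a' ^ k • T (σ b.1) := by
      rw [hid, map_sub, map_smul, map_sum, Finset.sum_eq_zero fun i _ => ?_, sub_zero]
      rw [map_smul, hT _ (hβ i), smul_zero]
    calc Γ (fun j => eS (b.1 j)) = w • T (∑ j, eS (b.1 j) • σ (s j).1) := by
          simp only [Γ, Fintype.linearCombination_apply, map_sum, map_smul, Finset.smul_sum]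
          exact Finset.sum_congr rfl fun j _ => smul_comm _ _ _
      _ = T (σ b.1) := by rw [h1, smul_smul, hw, one_smul]
  -- the isomorphism
  let pl : (Fin n ⊕ Fin m → Sc) →ₗ[Sc] (Fin n → Sc) := LinearMap.funLeft Sc Sc Sum.inl
  let pr : (Fin n ⊕ Fin m → Sc) →ₗ[Sc] (Fin m → Sc) := LinearMap.funLeft Sc Sc Sum.inr
  let Ψ : (Fin n ⊕ Fin m → Sc) →ₗ[Sc] (Fin n → Sc) :=
    (LinearMap.id - ρ).comp pl + (iota - Γ).comp pr
  have hΨ : ∀ v, Ψ v = (pl v - ρ (pl v)) + (iota (pr v) - Γ (pr v)) := fun v => rfl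
  have hρΓ : ∀ t, ρ (Γ t) = 0 := fun t => by
    simp only [Γ, Fintype.linearCombination_apply, map_sum, map_smul, map_sub, hρ2, sub_self,
      smul_zero, Finset.sum_const_zero]
  have hΨs : Function.Surjective Ψ := by
    intro v
    obtain ⟨t, ht⟩ := hρK v
    refine ⟨Sum.elim (v - ρ v + Γ t) t, ?_⟩
    rw [hΨ, show pl (Sum.elim (v - ρ v + Γ t) t) = v - ρ v + Γ t from rfl,
      show pr (Sum.elim (v - ρ v + Γ t) t) = t from rfl, map_add, map_sub, hρ2, hρΓ, ht]
    abel
  have hrl : ∀ j, jacRow Sc Φ (F (Sum.inl j)) = Sum.elim (J j) 0 := by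
    intro j
    ext (i | l)
    · show algebraMap S0 Sc (Φ (pderiv (Sum.inl i) (rename Sum.inl (f j)))) = _
      rw [pderiv_rename Sum.inl_injective]
      exact congrArg (algebraMap S0 Sc) (hΦι _)
    · show algebraMap S0 Sc (Φ (pderiv (Sum.inr l) (rename Sum.inl (f j)))) = _
      rw [pderiv_eq_zero_of_notMem_vars, map_zero, map_zero]
      · rfl
      · intro hmem
        have := vars_rename Sum.inl (f j) hmem
        simp at this
  have hrr : ∀ b : κ, jacRow Sc Φ (F (Sum.inr b)) = Sum.elim (σ b.1) fun j => eS (b.1 j) := by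
    intro b
    ext (i | l)
    · show algebraMap S0 Sc (Φ (pderiv (Sum.inl i) (∑ j, rename Sum.inl (b.1 j) * X (Sum.inr j)))) = _
      simp only [map_sum, pderiv_mul, pderiv_rename Sum.inl_injective,
        pderiv_X_of_ne Sum.inr_ne_inl, mul_zero, add_zero, map_mul, hΦz]
      exact Finset.sum_congr rfl fun j _ => congrArg (· * zS j) (congrArg (algebraMap S0 Sc) (hΦι _))
    · show algebraMap S0 Sc (Φ (pderiv (Sum.inr l) (∑ j, rename Sum.inl (b.1 j) * X (Sum.inr j)))) = _
      have h0 : ∀ j, pderiv (Sum.inr l) (rename Sum.inl (b.1 j) : P) = 0 := fun j =>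
        pderiv_eq_zero_of_notMem_vars fun hmem => by
          have := vars_rename Sum.inl (b.1 j) hmem
          simp at this
      rw [map_sum, Finset.sum_eq_single l (fun j _ hj => by
        rw [pderiv_mul, h0, pderiv_X_of_ne (Sum.inr_injective.ne hj), zero_mul, mul_zero, add_zero])
        (by simp), pderiv_mul, h0, pderiv_X_self, zero_mul, zero_add, mul_one]
      exact congrArg (algebraMap S0 Sc) (hΦι _)
  have hkerΩ := ker_toOmega Sc hΦs (Submonoid.powers (algebraMap A S0 (φ a'))) F hker
  have hkerΨ : LinearMap.ker (toOmega Sc Φ) = LinearMap.ker Ψ := by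
    rw [hkerΩ]
    refine le_antisymm (Submodule.span_le.2 ?_) fun v hv => ?_
    · rintro _ ⟨j | b, rfl⟩
      · show Ψ (jacRow Sc Φ (F (Sum.inl j))) = 0
        rw [hrl, hΨ, show pl (Sum.elim (J j) 0) = J j from rfl,
          show pr (Sum.elim (J j) 0) = (0 : Fin m → Sc) from rfl, hρJ, sub_self, map_zero, map_zero,
          sub_self, add_zero]
      · show Ψ (jacRow Sc Φ (F (Sum.inr b))) = 0
        rw [hrr, hΨ, show pl (Sum.elim (σ b.1) fun j => eS (b.1 j)) = σ b.1 from rfl,
          show pr (Sum.elim (σ b.1) fun j => eS (b.1 j)) = fun j => eS (b.1 j) from rfl, hΓσ]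
        have : iota (fun j => eS (b.1 j)) = 0 := by
          ext i
          have h1 : φ (pderiv i (∑ j, b.1 j * f j)) = 0 := pderiv_mem_of_mem_sq b.2 i
          have := heS _ h1
          simpa [pderiv_mul, heS _ (hf0 _), iota, J, Fintype.linearCombination_apply,
            Finset.sum_apply] using this
        rw [this]
        abel
    have hv' : (pl v - ρ (pl v)) + (iota (pr v) - Γ (pr v)) = 0 := (hΨ v).symm.trans hv
    have hρv := congrArg ρ hv'
    simp only [map_add, map_sub, hρ2, hρiota, hρΓ, sub_self, sub_zero, zero_add, map_zero] at hρv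
    set t := pr v with ht
    have ht2 : t = ∑ j, (w * t j) • fun l => eS ((s j).1 l) := by
      ext l
      simp only [Finset.sum_apply, Pi.smul_apply, smul_eq_mul, s, G, map_sub, mul_sub,
        Finset.sum_sub_distrib, map_sum, map_mul, Finset.mul_sum]
      rw [Finset.sum_eq_single l (fun j _ hj => by simp [Ne.symm hj]) (by simp), if_pos rfl, map_pow,
        mul_right_comm, hw, one_mul]
      have h0 : ∀ i, ∑ j, t j * eS (pderiv i (f j)) = 0 := fun i => by
        simpa [iota, J, Fintype.linearCombination_apply, Finset.sum_apply] using congrFun hρv i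
      rw [Finset.sum_comm, Finset.sum_eq_zero fun i _ => ?_, sub_zero]
      rw [show (∑ j, w * t j * (eS (pderiv i (f j)) * eS (Hc i l))) =
        w * eS (Hc i l) * ∑ j, t j * eS (pderiv i (f j)) by
          rw [Finset.mul_sum]; exact Finset.sum_congr rfl fun j _ => by ring, h0, mul_zero]
    let v' : Fin n ⊕ Fin m → Sc := ∑ j, (w * t j) • Sum.elim (σ (s j).1) fun l => eS ((s j).1 l)
    set S' := Submodule.span Sc (Set.range fun j => jacRow Sc Φ (F j))
    have hv'S : v' ∈ S' := Submodule.sum_mem _ fun j _ =>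
      S'.smul_mem _ (Submodule.subset_span ⟨Sum.inr (s j), hrr (s j)⟩)
    have hprv : pr v' = t := by
      rw [map_sum]
      simp only [map_smul]
      exact ht2.symm
    have hΨv' : Ψ v' = 0 := by
      rw [map_sum]
      refine Finset.sum_eq_zero fun j _ => ?_
      rw [map_smul, hΨ, show pl (Sum.elim (σ (s j).1) fun l => eS ((s j).1 l)) = σ (s j).1 from rfl,
        show pr (Sum.elim (σ (s j).1) fun l => eS ((s j).1 l)) = fun l => eS ((s j).1 l) from rfl, hΓσ]
      have : iota (fun l => eS ((s j).1 l)) = 0 := by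
        ext i
        have h1 : φ (pderiv i (∑ l, (s j).1 l * f l)) = 0 := pderiv_mem_of_mem_sq (s j).2 i
        have := heS _ h1
        simpa [pderiv_mul, heS _ (hf0 _), iota, J, Fintype.linearCombination_apply,
          Finset.sum_apply] using this
      rw [this]
      simp
    have hd : pl (v - v') - ρ (pl (v - v')) = 0 := by
      have h1 : Ψ (v - v') = 0 := by rw [map_sub, hΨv', show Ψ v = 0 from hv, sub_zero]
      rw [hΨ, show pr (v - v') = 0 by rw [map_sub, hprv, sub_self], map_zero, map_zero, sub_self,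
        add_zero] at h1
      exact h1
    obtain ⟨c, hc⟩ := hρK (pl (v - v'))
    rw [← sub_eq_zero.1 hd] at hc
    have hvd : v - v' = ∑ j, c j • Sum.elim (J j) 0 := by
      ext (i | l)
      · refine (congrFun hc i).symm.trans ?_
        simp [iota, Fintype.linearCombination_apply, Finset.sum_apply]
      · have : pr (v - v') = 0 := by rw [map_sub, hprv, sub_self]
        refine (congrFun this l).trans ?_
        simp [Finset.sum_apply]
    rw [← sub_add_cancel v v', hvd]
    exact add_mem (Submodule.sum_mem _ fun j _ =>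
      S'.smul_mem _ (Submodule.subset_span ⟨Sum.inl j, hrl j⟩)) hv'S
  exact Module.Free.of_equiv ((Ψ.quotKerEquivOfSurjective hΨs).symm.trans
    ((Submodule.quotEquivOfEq _ _ hkerΨ.symm).trans ((toOmega Sc Φ).quotKerEquivOfSurjective
      (toOmega_surjective Sc hΦs (Submonoid.powers (algebraMap A S0 (φ a')))))))

end Groth.Agent.CAlg1.Pop
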