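import Groth.Prelude
import Groth.Agent.CAlg1.Pop.FreeKaehler
import Groth.Agent.Smooth28.Glue
import Groth.Agent.Smooth28.Stably

/-!
The universal algebra over a polynomial ring in which powers of the variables are strictly standard.
-/

set_option autoImplicit false
universe u

open MvPolynomial

namespace Groth.Agent.CAlg1.Pop

theorem exists_quotient_lift {A : Type u} [CommRing A] {s : ℕ} (d : ℕ) (a : Fin s → A) (m : ℕ)
    (rel : Fin d → MvPolynomial (Fin d ⊕ Fin d × Fin s) A)
    (hrel : ∀ i, rel i = X (Sum.inl i) ^ m - ∑ j, MvPolynomial.C (a j) * X (Sum.inr (i, j))) :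
    ∃ Φ : ∀ (Λ : Type u) [CommRing Λ] (φ : A →+* Λ) (π : Fin d → Λ) (l : Fin d → Fin s → Λ),
        (∀ i, π i ^ m = ∑ j, φ (a j) * l i j) →
          (MvPolynomial (Fin d ⊕ Fin d × Fin s) A ⧸ Ideal.span (Set.range rel)) →+* Λ,
      (∀ (Λ : Type u) [CommRing Λ] (φ : A →+* Λ) (π : Fin d → Λ) (l : Fin d → Fin s → Λ)
        (h : ∀ i, π i ^ m = ∑ j, φ (a j) * l i j), (∀ y, Φ Λ φ π l h (algebraMap A _ y) = φ y) ∧
          ∀ i, Φ Λ φ π l h (Ideal.Quotient.mk _ (X (Sum.inl i))) = π i) ∧
      ∀ (Λ Λ' : Type u) [CommRing Λ] [CommRing Λ'] (u : Λ →+* Λ') (φ : A →+* Λ) (π : Fin d → Λ)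
        (l : Fin d → Fin s → Λ) (h : ∀ i, π i ^ m = ∑ j, φ (a j) * l i j)
        (h' : ∀ i, u (π i) ^ m = ∑ j, u.comp φ (a j) * u (l i j)),
        Φ Λ' (u.comp φ) (fun i => u (π i)) (fun i j => u (l i j)) h' = u.comp (Φ Λ φ π l h) := by
  have h0 : ∀ (Λ : Type u) [CommRing Λ] (φ : A →+* Λ) (π : Fin d → Λ) (l : Fin d → Fin s → Λ),
      (∀ i, π i ^ m = ∑ j, φ (a j) * l i j) → ∀ q ∈ Ideal.span (Set.range rel),
        MvPolynomial.eval₂Hom φ (Sum.elim π fun p => l p.1 p.2) q = 0 := by
    intro Λ _ φ π l hl q hq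
    refine (Ideal.span_le.2 ?_ : Ideal.span (Set.range rel) ≤
      RingHom.ker (MvPolynomial.eval₂Hom φ (Sum.elim π fun p => l p.1 p.2))) hq
    rintro _ ⟨i, rfl⟩
    show MvPolynomial.eval₂Hom φ (Sum.elim π fun p => l p.1 p.2) (rel i) = 0
    simp only [hrel, map_sub, map_pow, map_sum, map_mul, eval₂Hom_C, eval₂Hom_X', Sum.elim_inl,
      Sum.elim_inr]
    exact sub_eq_zero.2 (hl i)
  refine ⟨fun Λ _ φ π l hl =>
      Ideal.Quotient.lift _ (MvPolynomial.eval₂Hom φ (Sum.elim π fun p => l p.1 p.2)) (h0 Λ φ π l hl),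
    fun Λ _ φ π l hl => ⟨fun y => eval₂Hom_C _ _ y, fun i => eval₂Hom_X' _ _ (Sum.inl i)⟩,
    fun Λ Λ' _ _ u φ π l hl hl' => ?_⟩
  refine Ideal.Quotient.ringHom_ext (MvPolynomial.ringHom_ext (fun y => ?_) fun v => ?_)
  · simp only [RingHom.comp_apply, Ideal.Quotient.lift_mk, eval₂Hom_C]
  · simp only [RingHom.comp_apply, Ideal.Quotient.lift_mk, eval₂Hom_X']
    rcases v with i | ⟨i, j⟩ <;> rfl

theorem exists_universal_natural {k A : Type u} [Field k] [CommRing A] [Algebra k A]
    [Algebra.FinitePresentation k A] {s : ℕ} (d : ℕ) (a : Fin s → A)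
    (ha : ∀ j, a j ∈ Smoothing.singularIdeal k A) (m : ℕ) :
    ∃ (C : Type u) (_ : CommRing C) (_ : Algebra (MvPolynomial (Fin d) k) C),
      Algebra.FinitePresentation (MvPolynomial (Fin d) k) C ∧
      ∃ α : A →+* C, (∀ r : k, α (algebraMap k A r) =
          algebraMap (MvPolynomial (Fin d) k) C (MvPolynomial.C r)) ∧
        (∀ j, α (a j) ∈ Smoothing.singularIdeal (MvPolynomial (Fin d) k) C) ∧
        (∃ c : ℕ, 0 < c ∧ ∀ i, Smoothing.IsStrictlyStandard (MvPolynomial (Fin d) k) C
          (algebraMap (MvPolynomial (Fin d) k) C (X i ^ c))) ∧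
        ∃ Ψ : ∀ (Λ : Type u) [CommRing Λ] (φ : A →+* Λ) (π : Fin d → Λ) (l : Fin d → Fin s → Λ),
            (∀ i, π i ^ m = ∑ j, φ (a j) * l i j) → (C →+* Λ),
          (∀ (Λ : Type u) [CommRing Λ] (φ : A →+* Λ) (π : Fin d → Λ) (l : Fin d → Fin s → Λ)
            (h : ∀ i, π i ^ m = ∑ j, φ (a j) * l i j), (Ψ Λ φ π l h).comp α = φ ∧
              ∀ i, Ψ Λ φ π l h (algebraMap (MvPolynomial (Fin d) k) C (X i)) = π i) ∧
          ∀ (Λ Λ' : Type u) [CommRing Λ] [CommRing Λ'] (u : Λ →+* Λ') (φ : A →+* Λ) (π : Fin d → Λ)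
            (l : Fin d → Fin s → Λ) (h : ∀ i, π i ^ m = ∑ j, φ (a j) * l i j)
            (h' : ∀ i, u (π i) ^ m = ∑ j, u.comp φ (a j) * u (l i j)),
            Ψ Λ' (u.comp φ) (fun i => u (π i)) (fun i j => u (l i j)) h' = u.comp (Ψ Λ φ π l h) := by
  classical
  let R := MvPolynomial (Fin d) k
  let rel : Fin d → (MvPolynomial (Fin d ⊕ Fin d × Fin s) A) := fun i =>
    X (Sum.inl i) ^ m - ∑ j, MvPolynomial.C (a j) * X (Sum.inr (i, j))
  let C0 := (MvPolynomial (Fin d ⊕ Fin d × Fin s) A) ⧸ Ideal.span (Set.range rel)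
  let mk : (MvPolynomial (Fin d ⊕ Fin d × Fin s) A) →ₐ[A] C0 := Ideal.Quotient.mkₐ A _
  let x : Fin d → C0 := fun i => mk (X (Sum.inl i))
  let z : Fin d → Fin s → C0 := fun i j => mk (X (Sum.inr (i, j)))
  have hrel : ∀ i, x i ^ m = ∑ j, algebraMap A C0 (a j) * z i j := fun i => by
    have h : mk (rel i) = 0 := Ideal.Quotient.eq_zero_iff_mem.2 (Ideal.subset_span ⟨i, rfl⟩)
    simp only [rel, map_sub, map_pow, map_sum, map_mul, sub_eq_zero] at h
    refine h.trans (Finset.sum_congr rfl fun j _ => ?_)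
    rfl
  letI : Algebra R C0 := ((MvPolynomial.aeval (R := k) x).toRingHom).toAlgebra
  haveI : IsScalarTower k R C0 := IsScalarTower.of_algebraMap_eq fun r =>
    ((MvPolynomial.aeval (R := k) x).commutes r).symm
  haveI : Algebra.FiniteType k A := inferInstance
  haveI : Algebra.FiniteType A C0 := inferInstance
  haveI : Algebra.FiniteType k C0 := Algebra.FiniteType.trans (S := A) inferInstance inferInstance
  haveI : Algebra.FiniteType R C0 := Algebra.FiniteType.of_restrictScalars_finiteType k R C0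
  haveI : Algebra.FinitePresentation R C0 := Algebra.FinitePresentation.of_finiteType.1 inferInstance
  have hX : ∀ i, algebraMap R C0 (X i) = x i := fun i => MvPolynomial.aeval_X (R := k) x i
  -- smoothness off the singular ideal
  have hsing : ∀ j₀, algebraMap A C0 (a j₀) ∈ Smoothing.singularIdeal R C0 := by
    intro j₀
    set b := algebraMap A C0 (a j₀)
    suffices h : Algebra.FormallySmooth R (Localization.Away b) by
      haveI := h
      exact Smooth28.mem_singularIdeal_of_formallySmooth_away b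
    haveI := Smooth28.smooth_away_of_mem_singularIdeal (ha j₀)
    let L := Localization.Away b
    let aL : A →ₐ[k] L := (IsScalarTower.toAlgHom k C0 L).comp (IsScalarTower.toAlgHom k A C0)
    refine Algebra.FormallySmooth.iff_comp_surjective.2 fun D _ _ N hN g => ?_
    letI : Algebra k D := ((algebraMap R D).comp (algebraMap k R)).toAlgebra
    haveI : IsScalarTower k R D := IsScalarTower.of_algebraMap_eq fun _ => rfl
    have hb : IsUnit (algebraMap C0 L b) := IsLocalization.Away.algebraMap_isUnit b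
    have hau : ∀ y : Submonoid.powers (a j₀), IsUnit (((g.restrictScalars k).comp aL) (y : A)) := by
      rintro ⟨_, i, rfl⟩
      rw [map_pow]
      exact ((hb.map g).pow i)
    obtain ⟨g₁, hg₁⟩ := Algebra.FormallySmooth.comp_surjective k (Localization.Away (a j₀)) N hN
      (IsLocalization.liftAlgHom (M := Submonoid.powers (a j₀)) (f := (g.restrictScalars k).comp aL) hau)
    let gA : A →ₐ[k] D := g₁.comp (IsScalarTower.toAlgHom k A (Localization.Away (a j₀)))
    have hgA : ∀ y, Ideal.Quotient.mk N (gA y) = g (algebraMap C0 L (algebraMap A C0 y)) := fun y => by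
      refine (DFunLike.congr_fun hg₁ (algebraMap A _ y)).trans ?_
      exact IsLocalization.lift_eq _ y
    obtain ⟨u, hu⟩ := ((IsLocalization.Away.algebraMap_isUnit (a j₀)
      (S := Localization.Away (a j₀))).map g₁).exists_right_inv
    choose w hw using fun i j => Ideal.Quotient.mk_surjective (g (algebraMap C0 L (z i j)))
    let xD : Fin d → D := fun i => algebraMap R D (X i)
    let err : Fin d → D := fun i => xD i ^ m - ∑ j, gA (a j) * w i j
    let z' : Fin d → Fin s → D := fun i j => w i j + if j = j₀ then u * err i else 0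
    have hz' : ∀ i, ∑ j, gA (a j) * z' i j = xD i ^ m := by
      intro i
      simp only [z', mul_add, Finset.sum_add_distrib, mul_ite, mul_zero, Finset.sum_ite_eq',
        Finset.mem_univ, if_true]
      rw [← mul_assoc, show gA (a j₀) * u = 1 from hu, one_mul]
      simp only [err]; ring
    have hxN : ∀ i, Ideal.Quotient.mk N (xD i) = g (algebraMap C0 L (x i)) := fun i => by
      rw [← hX, ← IsScalarTower.algebraMap_apply, AlgHom.commutes]
      rfl
    have herr : ∀ i, Ideal.Quotient.mk N (err i) = 0 := fun i => by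
      simp only [err, map_sub, map_pow, map_sum, map_mul, hxN, hgA, hw]
      simp only [← map_pow, ← map_mul, ← map_sum, ← hrel, sub_self]
    let e₀ : (MvPolynomial (Fin d ⊕ Fin d × Fin s) A) →+* D := MvPolynomial.eval₂Hom gA.toRingHom (Sum.elim xD fun p => z' p.1 p.2)
    have he₀ : ∀ q ∈ Ideal.span (Set.range rel), e₀ q = 0 := by
      intro q hq
      refine (Ideal.span_le.2 ?_ : Ideal.span (Set.range rel) ≤ RingHom.ker e₀) hq
      rintro _ ⟨i, rfl⟩
      show e₀ (rel i) = 0
      simp only [e₀, rel, map_sub, map_pow, map_sum, map_mul, eval₂Hom_C, eval₂Hom_X', Sum.elim_inl,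
        Sum.elim_inr]
      exact sub_eq_zero.2 (hz' i).symm
    let e₁ : C0 →+* D := Ideal.Quotient.lift _ e₀ he₀
    have he₁A : ∀ y, e₁ (algebraMap A C0 y) = gA y := fun y => eval₂Hom_C _ _ y
    have he₁R : e₁.comp (algebraMap R C0) = algebraMap R D := by
      refine MvPolynomial.ringHom_ext (fun r => ?_) fun i => ?_
      · rw [RingHom.comp_apply, ← MvPolynomial.algebraMap_eq, ← IsScalarTower.algebraMap_apply,
          IsScalarTower.algebraMap_apply k A C0, he₁A, AlgHom.commutes]
        rfl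
      · rw [RingHom.comp_apply, hX]
        exact eval₂Hom_X' _ _ (Sum.inl i)
    let e₂ : C0 →ₐ[R] D := { e₁ with commutes' := fun r => RingHom.congr_fun he₁R r }
    have hM : ∀ y : Submonoid.powers b, IsUnit (e₂ (y : C0)) := by
      rintro ⟨_, i, rfl⟩
      rw [map_pow]
      refine IsUnit.pow i ?_
      show IsUnit (e₁ b)
      rw [he₁A]
      exact IsUnit.of_mul_eq_one u hu
    refine ⟨IsLocalization.liftAlgHom (M := Submonoid.powers b) (f := e₂) hM,
      IsLocalization.algHom_ext (Submonoid.powers b) ?_⟩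
    refine AlgHom.ext fun c => ?_
    show Ideal.Quotient.mk N (IsLocalization.liftAlgHom (M := Submonoid.powers b) (f := e₂) hM
      (algebraMap C0 L c)) = g (algebraMap C0 L c)
    rw [IsLocalization.liftAlgHom_apply, IsLocalization.lift_eq]
    have hc : ((Ideal.Quotient.mk N).comp e₁).comp mk.toRingHom =
        (g.toRingHom.comp (algebraMap C0 L)).comp mk.toRingHom := by
      refine MvPolynomial.ringHom_ext (fun y => ?_) ?_
      · show Ideal.Quotient.mk N (e₁ (algebraMap A C0 y)) = g (algebraMap C0 L (algebraMap A C0 y))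
        rw [he₁A, hgA]
      · rintro (i | ⟨i, j⟩)
        · show Ideal.Quotient.mk N (e₀ (X (Sum.inl i))) = g (algebraMap C0 L (x i))
          rw [eval₂Hom_X']
          exact hxN i
        · show Ideal.Quotient.mk N (e₀ (X (Sum.inr (i, j)))) = g (algebraMap C0 L (z i j))
          rw [eval₂Hom_X']
          show Ideal.Quotient.mk N (z' i j) = _
          simp only [z', map_add]
          rw [← hw]
          split_ifs <;> simp [herr]
    obtain ⟨c, rfl⟩ := Ideal.Quotient.mk_surjective c
    exact RingHom.congr_fun hc c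
  have hxsing : ∀ i, algebraMap R C0 (X i) ∈ Smoothing.singularIdeal R C0 := by
    intro i
    rw [hX, Smoothing.singularIdeal, PrimeSpectrum.mem_vanishingIdeal]
    intro q hq
    refine q.isPrime.mem_of_pow_mem m ?_
    rw [hrel]
    refine Submodule.sum_mem _ fun j _ => Ideal.mul_mem_right _ _ ?_
    have := hsing j
    rw [Smoothing.singularIdeal, PrimeSpectrum.mem_vanishingIdeal] at this
    exact this q hq
  -- retract with free differentials
  obtain ⟨C1, _, _, _, _, hft, ⟨σ⟩, hfree⟩ := exists_retract_free_smooth (R := R) (A := C0)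
  haveI : Algebra.FiniteType R C1 := Algebra.FiniteType.trans (S := C0) inferInstance hft
  haveI : Algebra.FinitePresentation R C1 := Algebra.FinitePresentation.of_finiteType.1 inferInstance
  have hmove : ∀ c ∈ Smoothing.singularIdeal R C0,
      algebraMap C0 C1 c ∈ Smoothing.singularIdeal R C1 := by
    intro c hc
    haveI := Smooth28.smooth_away_of_mem_singularIdeal hc
    obtain ⟨-, hfs⟩ := hfree c inferInstance
    haveI := hfs
    let L := Localization.Away (algebraMap C0 C1 c)
    have hu : IsUnit (algebraMap C0 L c) := by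
      rw [IsScalarTower.algebraMap_apply C0 C1 L]
      exact IsLocalization.Away.algebraMap_isUnit _
    let : Algebra (Localization.Away c) L := (IsLocalization.Away.lift c hu).toAlgebra
    haveI : IsScalarTower C0 (Localization.Away c) L :=
      IsScalarTower.of_algebraMap_eq fun y => (IsLocalization.Away.lift_eq c hu y).symm
    haveI : IsScalarTower R (Localization.Away c) L := IsScalarTower.of_algebraMap_eq fun y => by
      rw [IsScalarTower.algebraMap_apply R C0 (Localization.Away c),
        ← IsScalarTower.algebraMap_apply C0 (Localization.Away c) L, ← IsScalarTower.algebraMap_apply]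
    haveI : Algebra.FormallySmooth (Localization.Away c) L :=
      Algebra.FormallySmooth.localization_base (Submonoid.powers c)
    haveI := Algebra.FormallySmooth.comp R (Localization.Away c) L
    exact Smooth28.mem_singularIdeal_of_formallySmooth_away _
  have hstd : ∀ i, ∃ e₀ : ℕ, ∀ n, e₀ ≤ n →
      Smoothing.IsStrictlyStandard R C1 (algebraMap R C1 (X i) ^ n) := by
    intro i
    set c := algebraMap R C1 (X i) with hcdef
    have hc : algebraMap C0 C1 (algebraMap R C0 (X i)) = c := (IsScalarTower.algebraMap_apply R C0 C1 _).symm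
    haveI : Algebra.Smooth R (Localization.Away c) :=
      Smooth28.smooth_away_of_mem_singularIdeal (hc ▸ hmove _ (hxsing i))
    haveI := Smooth28.smooth_away_of_mem_singularIdeal (hxsing i)
    obtain ⟨hfr, -⟩ := hfree (algebraMap R C0 (X i)) inferInstance
    rw [hc] at hfr
    haveI := hfr
    let bas := Module.Free.chooseBasis (Localization.Away c) Ω[Localization.Away c⁄R]
    obtain ⟨q, ⟨er⟩⟩ := Finite.exists_equiv_fin (Module.Free.ChooseBasisIndex (Localization.Away c) Ω[Localization.Away c⁄R])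
    exact Smooth28.exists_standard_pow c 0 q
      (LinearEquiv.prodUnique.trans (bas.equivFun.trans (LinearEquiv.funCongrLeft _ _ er.symm)))
  choose e₀ he₀ using hstd
  obtain ⟨Φ, hΦ, hΦnat⟩ := exists_quotient_lift d a m rel fun _ => rfl
  refine ⟨C1, inferInstance, inferInstance, inferInstance,
    (algebraMap C0 C1).comp (algebraMap A C0), fun r => ?_, fun j => hmove _ (hsing j),
    ⟨Finset.univ.sup e₀ + 1, by omega, fun i => ?_⟩,
    fun Λ _ φ π l hl => (Φ Λ φ π l hl).comp σ.toRingHom,
    fun Λ _ φ π l hl => ⟨RingHom.ext fun y => ?_, fun i => ?_⟩, fun Λ Λ' _ _ u φ π l hl hl' => ?_⟩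
  · rw [RingHom.comp_apply, ← IsScalarTower.algebraMap_apply k A C0, IsScalarTower.algebraMap_apply k R C0,
      MvPolynomial.algebraMap_eq, ← IsScalarTower.algebraMap_apply R C0 C1]
  · rw [map_pow]
    exact he₀ i _ ((Finset.le_sup (Finset.mem_univ i)).trans (Nat.le_succ _))
  · show Φ Λ φ π l hl (σ (algebraMap C0 C1 (algebraMap A C0 y))) = φ y
    rw [AlgHom.commutes]
    exact (hΦ Λ φ π l hl).1 y
  · show Φ Λ φ π l hl (σ (algebraMap R C1 (X i))) = π i
    rw [IsScalarTower.algebraMap_apply R C0 C1, AlgHom.commutes, hX]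
    exact (hΦ Λ φ π l hl).2 i
  · exact (congrArg (RingHom.comp · σ.toRingHom) (hΦnat Λ Λ' u φ π l hl hl')).trans (RingHom.comp_assoc _ _ _)

theorem exists_universal {k A : Type u} [Field k] [CommRing A] [Algebra k A]
    [Algebra.FinitePresentation k A] {s : ℕ} (d : ℕ) (a : Fin s → A)
    (ha : ∀ j, a j ∈ Smoothing.singularIdeal k A) (m : ℕ) :
    ∃ (C : Type u) (_ : CommRing C) (_ : Algebra (MvPolynomial (Fin d) k) C),
      Algebra.FinitePresentation (MvPolynomial (Fin d) k) C ∧
      ∃ α : A →+* C, (∀ r : k, α (algebraMap k A r) =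
          algebraMap (MvPolynomial (Fin d) k) C (MvPolynomial.C r)) ∧
        (∀ j, α (a j) ∈ Smoothing.singularIdeal (MvPolynomial (Fin d) k) C) ∧
        (∃ c : ℕ, 0 < c ∧ ∀ i, Smoothing.IsStrictlyStandard (MvPolynomial (Fin d) k) C
          (algebraMap (MvPolynomial (Fin d) k) C (X i ^ c))) ∧
        ∀ (Λ : Type u) [CommRing Λ] (φ : A →+* Λ) (π : Fin d → Λ) (l : Fin d → Fin s → Λ),
          (∀ i, π i ^ m = ∑ j, φ (a j) * l i j) → ∃ ψ : C →+* Λ, ψ.comp α = φ ∧
            ∀ i, ψ (algebraMap (MvPolynomial (Fin d) k) C (X i)) = π i := by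
  obtain ⟨C, _, _, h1, α, h2, h3, h4, Ψ, hΨ, -⟩ := exists_universal_natural d a ha m
  exact ⟨C, inferInstance, inferInstance, h1, α, h2, h3, h4,
    fun Λ _ φ π l hl => ⟨Ψ Λ φ π l hl, hΨ Λ φ π l hl⟩⟩

end Groth.Agent.CAlg1.Pop
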