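import Groth.Prelude
import Groth.Agent.S6822
import Groth.Agent.Smooth28.Glue
import Groth.Agent.CAlg1.Pop.Params
import Groth.Agent.CAlg1.Pop.Universal
import Groth.Agent.CAlg1.Pop.Local
import Groth.Agent.CAlg1.Pop.GR

/-!
Resolving over a field at a prime with separable residue field.
-/

set_option autoImplicit false
universe u

open TensorProduct IsLocalRing

namespace Groth.Agent.CAlg1.Pop

theorem pow_cancel {Λ : Type u} [CommRing Λ] (J : Ideal Λ) (π : Λ)
    (h : ∀ x : Λ ⧸ J, Ideal.Quotient.mk J π ^ 2 * x = 0 → Ideal.Quotient.mk J π * x = 0) :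
    ∀ n, 1 ≤ n → ∀ x : Λ ⧸ J, Ideal.Quotient.mk J π ^ n * x = 0 → Ideal.Quotient.mk J π * x = 0 := by
  intro n hn
  induction n, hn using Nat.le_induction with
  | base => intro x hx; rwa [pow_one] at hx
  | succ n hn ih =>
    intro x hx
    obtain ⟨m, rfl⟩ : ∃ m, n = m + 1 := ⟨n - 1, by omega⟩
    refine ih x ?_
    rw [pow_succ', mul_assoc]
    refine h _ ?_
    rw [← hx]; ring

theorem resolvable_dim_zero_field {k A Λ : Type u} [Field k] [CommRing A] [Algebra k A]
    [Algebra.FinitePresentation k A] [CommRing Λ] [Algebra k Λ] [IsNoetherianRing Λ]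
    (φ : A →ₐ[k] Λ) (q : Ideal Λ) [q.IsPrime] [IsRegularLocalRing (Localization.AtPrime q)]
    [Algebra.IsGeometricallyReduced k q.ResidueField]
    (hd : ringKrullDim (Localization.AtPrime q) = 0) : Smoothing.Resolvable k φ q := by
  refine resolvable_artinian φ q (fun r hr => isUnit_iff_ne_zero.2 fun h0 => hr ?_)
    (Localization.AtPrime q) hd ?_
  · rw [h0, map_zero]; exact zero_mem _
  · let L := Localization.AtPrime q
    have hmax : maximalIdeal L = ⊥ := by
      have h := IsRegularLocalRing.spanFinrank_maximalIdeal (R := L)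
      rw [hd] at h
      exact (Submodule.spanFinrank_eq_zero_iff_eq_bot (maximalIdeal L).fg_of_isNoetherianRing).mp
        (by exact_mod_cast h)
    let e : L ≃ₐ[k] q.ResidueField := AlgEquiv.ofBijective (IsScalarTower.toAlgHom k L q.ResidueField)
      ⟨(injective_iff_map_eq_zero _).2 fun x hx => by
          have hmem : x ∈ maximalIdeal L := (IsLocalRing.residue_eq_zero_iff x).1 hx
          rwa [hmax, Ideal.mem_bot] at hmem, IsLocalRing.residue_surjective⟩
    exact indSmooth_of_equiv Function.bijective_id e.symm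
      (indSmooth_of_geometricallyReduced k q.ResidueField)

set_option maxHeartbeats 1000000 in
theorem resolvable_separable {k A Λ : Type u} [Field k] [CommRing A] [Algebra k A]
    [Algebra.FinitePresentation k A] [CommRing Λ] [Algebra k Λ] [IsNoetherianRing Λ]
    (φ : A →ₐ[k] Λ) (q : Ideal Λ) [q.IsPrime] (hmin : q ∈ (Smoothing.singRad k φ).minimalPrimes)
    [IsRegularLocalRing (Localization.AtPrime q)]
    [Algebra.IsGeometricallyReduced k q.ResidueField] : Smoothing.Resolvable k φ q := by
  classical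
  let L := Localization.AtPrime q
  let d := (maximalIdeal L).spanFinrank
  have hd : ringKrullDim L = d := (IsRegularLocalRing.spanFinrank_maximalIdeal (R := L)).symm
  rcases Nat.eq_zero_or_pos d with hd0 | hdpos
  · exact resolvable_dim_zero_field φ q (hd.trans (by rw [hd0]; rfl))
  -- generators of the singular ideal
  haveI : IsNoetherianRing A := Algebra.FiniteType.isNoetherianRing k A
  obtain ⟨s, a, ha⟩ := Submodule.fg_iff_exists_fin_generating_family.1
    (IsNoetherian.noetherian (Smoothing.singularIdeal k A))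
  have haI : ∀ j, a j ∈ Smoothing.singularIdeal k A := fun j => ha ▸ Submodule.subset_span ⟨j, rfl⟩
  set H : Ideal Λ := (Smoothing.singularIdeal k A).map φ with hH
  set I : Ideal Λ := Smoothing.singRad k φ with hI
  obtain ⟨m, hm⟩ := H.exists_radical_pow_le_of_fg (IsNoetherian.noetherian _)
  have hpow : (q ^ 1).map (algebraMap Λ L) ≤ I.map (algebraMap Λ L) := by
    have hrad : (I.map (algebraMap Λ L)).radical = I.map (algebraMap Λ L) := by
      rw [← IsLocalization.map_radical q.primeCompl L]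
      congr 1
      exact Ideal.radical_idem H
    rw [pow_one, ← hrad, Ideal.radical_eq_sInf]
    refine le_sInf ?_
    rintro Q ⟨hIQ, hQ⟩
    haveI := hQ
    have h1 : Q.comap (algebraMap Λ L) ≤ q := by
      refine le_trans ?_ (Localization.AtPrime.comap_maximalIdeal (I := q)).le
      exact Ideal.comap_mono (IsLocalRing.le_maximalIdeal hQ.ne_top)
    have h2 : I ≤ Q.comap (algebraMap Λ L) := Ideal.map_le_iff_le_comap.1 hIQ
    exact Ideal.map_le_iff_le_comap.2 (hmin.2 ⟨inferInstance, h2⟩ h1)
  -- the universal algebra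
  obtain ⟨C, _, _, hCfp, α, hα, hαsing, ⟨c, hc, hstd⟩, huniv⟩ := exists_universal (k := k) d a haI m
  haveI := hCfp
  obtain ⟨π, hspan, hπI, hann⟩ := exists_parameters I q 1 (8 * c) d one_pos (by omega) hpow hd
  simp only [pow_one] at hπI
  have hl : ∀ i, ∃ l : Fin s → Λ, π i ^ m = ∑ j, φ (a j) * l j := by
    intro i
    have h1 : π i ^ m ∈ H := hm (Ideal.pow_mem_pow (hπI i) m)
    rw [hH, ← ha, Ideal.map_span, ← Set.range_comp, Ideal.mem_span_range_iff_exists_fun] at h1
    obtain ⟨l, hl⟩ := h1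
    exact ⟨l, hl.symm.trans (Finset.sum_congr rfl fun j _ => mul_comm _ _)⟩
  choose l hl using hl
  obtain ⟨ψ, hψα, hψX⟩ := huniv Λ φ.toRingHom π l hl
  -- the structure over the polynomial ring
  let R := MvPolynomial (Fin d) k
  letI : Algebra R Λ := (MvPolynomial.aeval (R := k) π).toRingHom.toAlgebra
  haveI : IsScalarTower k R Λ := IsScalarTower.of_algebraMap_eq fun r =>
    ((MvPolynomial.aeval (R := k) π).commutes r).symm
  have hRX : ∀ i, algebraMap R Λ (MvPolynomial.X i) = π i := fun i => MvPolynomial.aeval_X (R := k) π i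
  have hψR : ψ.comp (algebraMap R C) = algebraMap R Λ := by
    refine MvPolynomial.ringHom_ext (fun r => ?_) fun i => ?_
    · rw [RingHom.comp_apply, ← hα, ← RingHom.comp_apply, hψα]
      show φ (algebraMap k A r) = _
      rw [AlgHom.commutes, ← MvPolynomial.algebraMap_eq, ← IsScalarTower.algebraMap_apply]
    · rw [RingHom.comp_apply, hψX, hRX]
  let ψR : C →ₐ[R] Λ := { ψ with commutes' := fun r => RingHom.congr_fun hψR r }
  suffices hres : Smoothing.Resolvable R ψR q by
    obtain ⟨B, _, _, hB, g, h, hgh, hle, hnle⟩ := hres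
    letI : Algebra k B := ((algebraMap R B).comp (algebraMap k R)).toAlgebra
    haveI : IsScalarTower k R B := IsScalarTower.of_algebraMap_eq fun _ => rfl
    haveI : Algebra.FinitePresentation k B := Algebra.FinitePresentation.trans k R B
    let g' : A →ₐ[k] B :=
      { g.toRingHom.comp α with
        commutes' := fun r => by
          show g (α (algebraMap k A r)) = algebraMap k B r
          rw [hα, AlgHom.commutes, ← MvPolynomial.algebraMap_eq, ← IsScalarTower.algebraMap_apply] }
    have hsub : Smoothing.singularIdeal R B ≤ Smoothing.singularIdeal k B := by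
      intro b hb
      haveI := Smooth28.smooth_away_of_mem_singularIdeal hb
      haveI : Algebra.FormallySmooth k (Localization.Away b) :=
        Algebra.FormallySmooth.comp k R (Localization.Away b)
      exact Smooth28.mem_singularIdeal_of_formallySmooth_away b
    have h1 : Smoothing.singRad R h ≤ Smoothing.singRad k (h.restrictScalars k) :=
      Ideal.radical_mono (Ideal.map_mono hsub)
    refine ⟨B, inferInstance, inferInstance, inferInstance, g', h.restrictScalars k,
      AlgHom.ext fun y => ?_, le_trans ?_ (hle.trans h1), fun hq => hnle (h1.trans hq)⟩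
    · show h (g (α y)) = φ y
      rw [show h (g (α y)) = ψ (α y) from DFunLike.congr_fun hgh (α y), ← RingHom.comp_apply, hψα]
      rfl
    · refine Ideal.radical_mono ?_
      rw [← ha, Ideal.map_span, Ideal.span_le]
      rintro _ ⟨_, ⟨j, rfl⟩, rfl⟩
      have h2 : ψR (α (a j)) ∈ (Smoothing.singularIdeal R C).map ψR := Ideal.mem_map_of_mem _ (hαsing j)
      rwa [show ψR (α (a j)) = φ (a j) from RingHom.congr_fun hψα (a j)] at h2
  -- apply the desingularisation modulo eighth powers
  let π' : Fin d → R := fun i => MvPolynomial.X i ^ c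
  set K : Ideal R := Ideal.span (Set.range fun i => π' i ^ 8) with hK
  let φK : (C ⧸ K.map (algebraMap R C)) →ₐ[R ⧸ K] (Λ ⧸ K.map (algebraMap R Λ)) :=
    { toRingHom := Ideal.quotientMap _ ψ (by
        rw [Ideal.map_le_iff_le_comap, Ideal.comap_comap, hψR, ← Ideal.map_le_iff_le_comap])
      commutes' := fun r => by
        obtain ⟨r, rfl⟩ := Ideal.Quotient.mk_surjective r
        show Ideal.Quotient.mk _ ((ψ.comp (algebraMap R C)) r) = Ideal.Quotient.mk _ (algebraMap R Λ r)
        rw [hψR] }
  have hπq : ∀ i, π i ∈ q := fun i => hmin.1.2 (hπI i)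
  have hKq : K.map (algebraMap R Λ) ≤ q := by
    rw [hK, Ideal.map_span, Ideal.span_le]
    rintro _ ⟨_, ⟨i, rfl⟩, rfl⟩
    simp only [π', map_pow, hRX, SetLike.mem_coe]
    exact Ideal.pow_mem_of_mem _ (Ideal.pow_mem_of_mem _ (hπq i) c hc) 8 (by norm_num)
  refine Groth.Agent.S6822.result ψR q hdpos π' (fun i => ?_) (fun i x hx => ?_) (fun i x hx => ?_)
    (fun i => hstd i) K hK φK (fun _ => rfl) ?_
  · simp only [π', map_pow, hRX]
    exact Ideal.pow_mem_of_mem _ (hπq i) c hc
  · obtain ⟨y, rfl⟩ := Ideal.Quotient.mk_surjective x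
    rw [← map_pow, ← map_mul, Ideal.Quotient.eq_zero_iff_mem] at hx
    simp only [π', ← pow_mul] at hx
    have := X_pow_cancel (c * 8) (c * 2) i y hx
    rw [← map_mul, Ideal.Quotient.eq_zero_iff_mem]
    refine Ideal.mul_mem_left _ _ ?_
    simpa only [π', ← pow_mul] using this
  · have hJ : Ideal.span (Set.range fun j : {j : Fin d // (j : ℕ) < (i : ℕ)} => algebraMap R Λ (π' j) ^ 8) =
        Ideal.span (Set.range fun j : {j : Fin d // (j : ℕ) < (i : ℕ)} => π j ^ (8 * c)) := by
      congr 2; funext j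
      simp only [π', map_pow, hRX, ← pow_mul, mul_comm c 8]
    revert x hx
    rw [hJ]
    intro x hx
    simp only [π', map_pow, hRX, ← pow_mul] at hx ⊢
    have h1 := pow_cancel _ (π i) (hann i) (c * 2) (by omega) x hx
    obtain ⟨c', rfl⟩ : ∃ c', c = c' + 1 := ⟨c - 1, by omega⟩
    rw [pow_succ, mul_assoc, h1, mul_zero]
  -- the reduced problem
  set J : Ideal Λ := K.map (algebraMap R Λ) with hJdef
  let qb : Ideal (Λ ⧸ J) := q.map (Ideal.Quotient.mk J)
  have hqb : qb.comap (Ideal.Quotient.mk J) = q := by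
    rw [Ideal.comap_map_of_surjective _ Ideal.Quotient.mk_surjective, ← RingHom.ker_eq_comap_bot,
      Ideal.mk_ker, sup_eq_left.2 hKq]
  haveI : qb.IsPrime :=
    Ideal.map_isPrime_of_surjective Ideal.Quotient.mk_surjective (by rw [Ideal.mk_ker]; exact hKq)
  let JL : Ideal L := K.map (algebraMap R L)
  have hJJL : J ≤ JL.comap (algebraMap Λ L) := by
    rw [← Ideal.map_le_iff_le_comap, hJdef, Ideal.map_map, ← IsScalarTower.algebraMap_eq]
  let L₁ := L ⧸ JL
  letI : Algebra (Λ ⧸ J) L₁ := (Ideal.quotientMap JL (algebraMap Λ L) hJJL).toAlgebra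
  haveI : IsScalarTower (R ⧸ K) (Λ ⧸ J) L₁ := IsScalarTower.of_algebraMap_eq fun r => by
    obtain ⟨r, rfl⟩ := Ideal.Quotient.mk_surjective r
    show Ideal.Quotient.mk JL (algebraMap R L r) = Ideal.Quotient.mk JL (algebraMap Λ L (algebraMap R Λ r))
    rw [← IsScalarTower.algebraMap_apply]
  haveI : IsLocalization.AtPrime L₁ qb := by
    have h := IsLocalization.of_surjective q.primeCompl L (R' := Λ ⧸ J) (S' := L₁) (Ideal.Quotient.mk J)
      Ideal.Quotient.mk_surjective (Ideal.Quotient.mk JL) Ideal.Quotient.mk_surjective rfl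
      (by rw [Ideal.mk_ker, Ideal.mk_ker, hJdef, Ideal.map_map, ← IsScalarTower.algebraMap_eq])
    have hM : q.primeCompl.map (Ideal.Quotient.mk J : Λ →* Λ ⧸ J) = qb.primeCompl := by
      ext y
      constructor
      · rintro ⟨z, hz, rfl⟩
        exact fun hy => hz (hqb ▸ hy)
      · intro hy
        obtain ⟨z, rfl⟩ := Ideal.Quotient.mk_surjective y
        exact ⟨z, fun hz => hy (Ideal.mem_map_of_mem _ hz), rfl⟩
    show IsLocalization qb.primeCompl L₁
    rw [← hM]
    exact h
  have hxK : ∀ i, Ideal.Quotient.mk K (MvPolynomial.X i) ^ (c * 8) = 0 := fun i => by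
    rw [← map_pow, Ideal.Quotient.eq_zero_iff_mem, pow_mul]
    exact Ideal.subset_span ⟨i, rfl⟩
  let I₁ : Ideal (R ⧸ K) := Ideal.span (Set.range fun i => Ideal.Quotient.mk K (MvPolynomial.X i))
  have hI₁ : I₁ ≤ nilradical (R ⧸ K) := Ideal.span_le.2 (by rintro _ ⟨i, rfl⟩; exact ⟨_, hxK i⟩)
  have hconst : ∀ r : R ⧸ K, ∃ t : k, r - algebraMap k (R ⧸ K) t ∈ I₁ := by
    intro r
    obtain ⟨f, rfl⟩ := Ideal.Quotient.mk_surjective r
    refine ⟨MvPolynomial.constantCoeff f, ?_⟩
    rw [← Ideal.Quotient.mk_algebraMap, MvPolynomial.algebraMap_eq, ← map_sub,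
      show I₁ = (Ideal.span (MvPolynomial.X '' (Set.univ : Set (Fin d)))).map (Ideal.Quotient.mk K) by
        rw [Ideal.map_span, Set.image_univ, ← Set.range_comp]; rfl]
    refine Ideal.mem_map_of_mem _ ?_
    rw [MvPolynomial.mem_ideal_span_X_image]
    intro mm hmm
    by_contra hcon
    push Not at hcon
    have : mm = 0 := Finsupp.ext fun i => by simpa using hcon i (Set.mem_univ i)
    subst this
    rw [MvPolynomial.mem_support_iff] at hmm
    exact hmm (by
      rw [← MvPolynomial.constantCoeff_eq]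
      show MvPolynomial.constantCoeff (f - MvPolynomial.C (MvPolynomial.constantCoeff f)) = 0
      rw [map_sub, MvPolynomial.constantCoeff_C, sub_self])
  haveI : Algebra.FiniteType R (C ⧸ K.map (algebraMap R C)) :=
    Algebra.FiniteType.of_surjective (Ideal.Quotient.mkₐ R _) Ideal.Quotient.mk_surjective
  haveI : Algebra.FiniteType (R ⧸ K) (C ⧸ K.map (algebraMap R C)) :=
    Algebra.FiniteType.of_restrictScalars_finiteType R (R ⧸ K) (C ⧸ K.map (algebraMap R C))
  haveI : Algebra.FinitePresentation (R ⧸ K) (C ⧸ K.map (algebraMap R C)) :=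
    Algebra.FinitePresentation.of_finiteType.1 inferInstance
  refine resolvable_artinian φK qb (fun r hr => ?_) L₁ ?_ ?_
  · obtain ⟨t, ht⟩ := hconst r
    have hnil : IsNilpotent (r - algebraMap k (R ⧸ K) t) := hI₁ ht
    have ht0 : t ≠ 0 := by
      intro h0
      rw [h0, map_zero, sub_zero] at hnil
      exact hr (nilradical_le_prime qb (hnil.map _))
    rw [show r = algebraMap k (R ⧸ K) t + (r - algebraMap k (R ⧸ K) t) by abel]
    exact hnil.isUnit_add_left_of_commute ((isUnit_iff_ne_zero.2 ht0).map _) (Commute.all _ _)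
  · haveI : Nontrivial L₁ :=
      (IsLocalization.AtPrime.isLocalRing L₁ qb).toNontrivial
    refine ringKrullDimZero_iff_ringKrullDim_eq_zero.1 (Ring.krullDimLE_zero_iff.2 fun Q hQ => ?_)
    haveI := hQ
    have hQ' : Q.comap (Ideal.Quotient.mk JL) = maximalIdeal L := by
      refine le_antisymm (IsLocalRing.le_maximalIdeal Ideal.IsPrime.ne_top') ?_
      rw [← Localization.AtPrime.map_eq_maximalIdeal, ← hspan, Ideal.span_le]
      rintro _ ⟨i, rfl⟩
      have h0 : Ideal.Quotient.mk JL (algebraMap Λ L (π i)) ^ (c * 8) = 0 := by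
        rw [← map_pow, Ideal.Quotient.eq_zero_iff_mem, ← hRX, ← IsScalarTower.algebraMap_apply, ← map_pow,
          pow_mul]
        exact Ideal.mem_map_of_mem _ (Ideal.subset_span ⟨i, rfl⟩)
      exact hQ.mem_of_pow_mem (c * 8) (by rw [h0]; exact zero_mem _)
    haveI : (Q.comap (Ideal.Quotient.mk JL)).IsMaximal := hQ' ▸ maximalIdeal.isMaximal L
    rw [← Ideal.map_comap_of_surjective (Ideal.Quotient.mk JL) Ideal.Quotient.mk_surjective Q]
    exact Ideal.IsMaximal.map_of_surjective_of_ker_le Ideal.Quotient.mk_surjective (Ideal.ker_le_comap _)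
  · -- flat with ind-smooth special fibre
    haveI : Module.Flat R L := flat_params hd (by
      rw [← Localization.AtPrime.map_eq_maximalIdeal, ← hspan]
      congr 2; funext i
      show algebraMap R L (MvPolynomial.X i) = _
      rw [IsScalarTower.algebraMap_apply R Λ L, hRX])
    haveI : Module.Flat (R ⧸ K) L₁ := by
      let e : (R ⧸ K) ⊗[R] L ≃ₐ[R] L₁ :=
        (Algebra.TensorProduct.comm R (R ⧸ K) L).trans
          ((Algebra.TensorProduct.quotIdealMapEquivTensorQuot L K).symm.restrictScalars R)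
      let e' : (R ⧸ K) ⊗[R] L ≃ₗ[R ⧸ K] L₁ :=
        { e.toLinearEquiv with
          map_smul' := fun r x => by
            obtain ⟨r, rfl⟩ := Ideal.Quotient.mk_surjective r
            show e (Ideal.Quotient.mk K r • x) = Ideal.Quotient.mk K r • e x
            rw [show Ideal.Quotient.mk K r • x = r • x from
              (algebraMap_smul (R ⧸ K) r x), map_smul]
            exact (algebraMap_smul (R ⧸ K) r (e x)).symm }
      exact Module.Flat.of_linearEquiv e'.symm
    have hnilI : IsNilpotent I₁ := by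
      obtain ⟨N, hN⟩ := IsNoetherianRing.isNilpotent_nilradical (R ⧸ K)
      exact ⟨N, le_bot_iff.1 (le_of_le_of_eq (Ideal.pow_right_mono hI₁ N) hN)⟩
    refine Groth.Agent.S2022.result I₁ hnilI ?_
    let T := L₁ ⧸ I₁.map (algebraMap (R ⧸ K) L₁)
    have hle : I₁.map (algebraMap (R ⧸ K) L₁) ≤ (maximalIdeal L).map (Ideal.Quotient.mk JL) := by
      rw [Ideal.map_span, Ideal.span_le]
      rintro _ ⟨_, ⟨i, rfl⟩, rfl⟩
      refine Ideal.mem_map_of_mem _ ?_
      rw [IsScalarTower.algebraMap_apply R Λ L, hRX, ← Localization.AtPrime.map_eq_maximalIdeal]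
      exact Ideal.mem_map_of_mem _ (hπq i)
    let ρ : L →ₐ[k] T :=
      (Ideal.Quotient.mkₐ k (I₁.map (algebraMap (R ⧸ K) L₁))).comp (Ideal.Quotient.mkₐ k JL)
    have hmaxker : ∀ x ∈ maximalIdeal L, ρ x = 0 := by
      intro x hx
      rw [← Localization.AtPrime.map_eq_maximalIdeal, ← hspan] at hx
      refine (Ideal.span_le (I := RingHom.ker ρ)).2 ?_ hx
      rintro _ ⟨i, rfl⟩
      rw [SetLike.mem_coe, RingHom.mem_ker]
      refine Ideal.Quotient.eq_zero_iff_mem.2 ?_
      have hmem : Ideal.Quotient.mk K (MvPolynomial.X i) ∈ I₁ := Ideal.subset_span ⟨i, rfl⟩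
      have := Ideal.mem_map_of_mem (algebraMap (R ⧸ K) L₁) hmem
      rwa [show algebraMap (R ⧸ K) L₁ (Ideal.Quotient.mk K (MvPolynomial.X i)) =
        Ideal.Quotient.mk JL (algebraMap Λ L (π i)) by
          rw [← hRX, ← IsScalarTower.algebraMap_apply]; rfl] at this
    have hT : ∀ x, ρ x = 0 → x ∈ maximalIdeal L := by
      intro x hx
      have h1 : Ideal.Quotient.mk JL x ∈ (maximalIdeal L).map (Ideal.Quotient.mk JL) :=
        hle (Ideal.Quotient.eq_zero_iff_mem.1 hx)
      have h2 : x ∈ ((maximalIdeal L).map (Ideal.Quotient.mk JL)).comap (Ideal.Quotient.mk JL) := h1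
      rw [Ideal.comap_map_of_surjective _ Ideal.Quotient.mk_surjective, ← RingHom.ker_eq_comap_bot,
        Ideal.mk_ker] at h2
      refine (sup_le le_rfl ?_ : maximalIdeal L ⊔ JL ≤ maximalIdeal L) h2
      show K.map (algebraMap R L) ≤ maximalIdeal L
      rw [IsScalarTower.algebraMap_eq R Λ L, ← Ideal.map_map, ← hJdef,
        ← Localization.AtPrime.map_eq_maximalIdeal]
      exact Ideal.map_mono hKq
    let eres : q.ResidueField ≃ₐ[k] T := AlgEquiv.ofBijective
      (Ideal.Quotient.liftₐ (maximalIdeal L) ρ hmaxker)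
      ⟨(injective_iff_map_eq_zero _).2 fun y hy => by
          obtain ⟨y, rfl⟩ := Ideal.Quotient.mk_surjective y
          exact Ideal.Quotient.eq_zero_iff_mem.2 (hT y hy), fun z => by
        obtain ⟨z, rfl⟩ := Ideal.Quotient.mk_surjective z
        obtain ⟨z, rfl⟩ := Ideal.Quotient.mk_surjective z
        exact ⟨Ideal.Quotient.mk _ z, rfl⟩⟩
    haveI : IsScalarTower k (R ⧸ K) L₁ := by
      constructor
      intro r y z
      obtain ⟨y', rfl⟩ := Ideal.Quotient.mk_surjective (I := K) y
      obtain ⟨z', rfl⟩ := Ideal.Quotient.mk_surjective (I := JL) z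
      have e : ∀ (y : R) (z : L), Ideal.Quotient.mk K y • Ideal.Quotient.mk JL z = Ideal.Quotient.mk JL (y • z) :=
        fun y z => by
          rw [Algebra.smul_def (Ideal.Quotient.mk K y), Algebra.smul_def y, map_mul]
          rfl
      have e1 : ∀ y : R, r • Ideal.Quotient.mk K y = Ideal.Quotient.mk K (r • y) :=
        fun y => (map_smul (Ideal.Quotient.mkₐ k K) r y).symm
      have e2 : ∀ z : L, r • Ideal.Quotient.mk JL z = Ideal.Quotient.mk JL (r • z) :=
        fun z => (map_smul (Ideal.Quotient.mkₐ k JL) r z).symm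
      rw [e1, e, e, e2, smul_assoc]
    haveI : IsScalarTower k ((R ⧸ K) ⧸ I₁) (L₁ ⧸ I₁.map (algebraMap (R ⧸ K) L₁)) := by
      constructor
      intro r y z
      obtain ⟨y', rfl⟩ := Ideal.Quotient.mk_surjective (I := I₁) y
      obtain ⟨z', rfl⟩ := Ideal.Quotient.mk_surjective (I := I₁.map (algebraMap (R ⧸ K) L₁)) z
      have e : ∀ (y : R ⧸ K) (z : L₁), Ideal.Quotient.mk I₁ y • Ideal.Quotient.mk (I₁.map (algebraMap (R ⧸ K) L₁)) z =
          Ideal.Quotient.mk (I₁.map (algebraMap (R ⧸ K) L₁)) (y • z) := fun y z => by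
        rw [Algebra.smul_def (Ideal.Quotient.mk I₁ y), Algebra.smul_def y, map_mul]
        rfl
      have e1 : ∀ y : R ⧸ K, r • Ideal.Quotient.mk I₁ y = Ideal.Quotient.mk I₁ (r • y) :=
        fun y => (map_smul (Ideal.Quotient.mkₐ k I₁) r y).symm
      have e2 : ∀ z : L₁, r • Ideal.Quotient.mk (I₁.map (algebraMap (R ⧸ K) L₁)) z =
          Ideal.Quotient.mk (I₁.map (algebraMap (R ⧸ K) L₁)) (r • z) :=
        fun z => (map_smul (Ideal.Quotient.mkₐ k (I₁.map (algebraMap (R ⧸ K) L₁))) r z).symm
      rw [e1, e, e, e2, smul_assoc]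
    refine indSmooth_of_equiv ⟨?_, ?_⟩ eres (indSmooth_of_geometricallyReduced k q.ResidueField)
    · haveI : Nontrivial ((R ⧸ K) ⧸ I₁) := by
        rw [Ideal.Quotient.nontrivial_iff]
        intro h1
        have : qb.comap (algebraMap (R ⧸ K) (Λ ⧸ J)) = ⊤ :=
          top_le_iff.1 (h1.ge.trans (hI₁.trans (nilradical_le_prime _)))
        exact (Ideal.comap_isPrime (algebraMap (R ⧸ K) (Λ ⧸ J)) qb).ne_top this
      exact RingHom.injective _
    · intro r
      obtain ⟨r, rfl⟩ := Ideal.Quotient.mk_surjective r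
      obtain ⟨t, ht⟩ := hconst r
      exact ⟨t, (Ideal.Quotient.eq.2 ht).symm⟩

end Groth.Agent.CAlg1.Pop
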