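import Groth.Prelude
import Groth.Agent.S6822
import Groth.Agent.Smooth28.Glue
import Groth.Agent.CAlg1.Pop.Universal
import Groth.Agent.CAlg1.Pop.SepResidue
import Groth.Agent.CAlg1.Pop.Base
import Groth.Agent.CAlg1.Pop.Lifts

/-!
Resolving over an infinite field of positive characteristic at a formally smooth point.
-/

set_option autoImplicit false
universe u

open TensorProduct IsLocalRing

namespace Groth.Agent.CAlg1.Pop

theorem span_pow_le {L : Type u} [CommRing L] {ι : Type*} (s : Finset ι) (x : ι → L) (e : ℕ) :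
    Ideal.span (x '' s) ^ (s.card * e + 1) ≤ Ideal.span ((fun i => x i ^ e) '' s) := by
  classical
  induction s using Finset.induction_on with
  | empty => simp
  | insert i s hi ih =>
    rw [Finset.coe_insert, Set.image_insert_eq, Set.image_insert_eq, Ideal.span_insert, Ideal.span_insert,
      Finset.card_insert_of_notMem hi, show (s.card + 1) * e + 1 = e + (s.card * e + 1) by ring]
    refine Ideal.sup_pow_add_le_pow_sup_pow.trans (sup_le_sup ?_ ih)
    rw [Ideal.span_singleton_pow]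

theorem exists_mul_mem {Λ : Type u} [CommRing Λ] (q I : Ideal Λ) [q.IsPrime] (hfg : q.FG) {L : Type u} [CommRing L]
    [Algebra Λ L] [IsLocalization.AtPrime L q] (h : q.map (algebraMap Λ L) ≤ I.map (algebraMap Λ L)) :
    ∃ f ∉ q, ∀ z ∈ q, f * z ∈ I := by
  classical
  obtain ⟨G, hG⟩ := hfg
  have hcl : ∀ z ∈ G, ∃ g ∈ q.primeCompl, g * z ∈ I := fun z hz =>
    (IsLocalization.algebraMap_mem_map_algebraMap_iff q.primeCompl L I z).1
      (h (Ideal.mem_map_of_mem _ (hG ▸ Submodule.subset_span hz)))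
  choose F hF hFI using hcl
  refine ⟨∏ z ∈ G.attach, F z.1 z.2, prod_mem (S := q.primeCompl) fun z _ => hF z.1 z.2, fun z hz => ?_⟩
  have h1 : z ∈ Submodule.span Λ (G : Set Λ) := by
    show z ∈ Ideal.span (G : Set Λ)
    rw [hG]; exact hz
  induction h1 using Submodule.span_induction with
  | mem y hy =>
    obtain ⟨c, hc⟩ : F y hy ∣ ∏ z ∈ G.attach, F z.1 z.2 :=
      Finset.dvd_prod_of_mem (fun z : {z // z ∈ G} => F z.1 z.2) (Finset.mem_attach G ⟨y, hy⟩)
    rw [hc, mul_right_comm]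
    exact I.mul_mem_right _ (hFI y hy)
  | zero => simp
  | add a b ha hb iha ihb =>
    rw [mul_add]
    exact add_mem (iha (hG ▸ (ha : a ∈ Submodule.span Λ (G : Set Λ)))) (ihb (hG ▸ (hb : b ∈ Submodule.span Λ (G : Set Λ))))
  | smul r y hy ihy =>
    rw [smul_eq_mul, mul_left_comm]
    exact I.mul_mem_left r (ihy (hG ▸ (hy : y ∈ Submodule.span Λ (G : Set Λ))))

theorem map_map_localization {R Λ : Type u} [CommRing R] [CommRing Λ] [Algebra R Λ] (q : Ideal Λ) [q.IsPrime]
    (K : Ideal R) :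
    (K.map (algebraMap R (Localization.AtPrime (q.comap (algebraMap R Λ))))).map
        (Localization.localRingHom (q.comap (algebraMap R Λ)) q (algebraMap R Λ) rfl) =
      (K.map (algebraMap R Λ)).map (algebraMap Λ (Localization.AtPrime q)) := by
  rw [Ideal.map_map, Ideal.map_map]
  congr 1
  exact RingHom.ext fun r => Localization.localRingHom_to_map _ _ _ rfl r

/-- The reduced problem modulo powers of the parameters. -/
theorem resolvable_quotient {k A Λ Q R C : Type u} [Field k] [CommRing A] [Algebra k A]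
    [CommRing Λ] [Algebra k Λ] (q : Ideal Λ) [q.IsPrime]
    [CommRing Q] [Algebra k Q] [IsLocalRing Q] {d : ℕ} (x : Fin d → Q)
    (jQ : Q →ₐ[k] Localization.AtPrime q) (hjflat : jQ.toRingHom.Flat)
    (hjmax : (maximalIdeal Q).map jQ.toRingHom = maximalIdeal (Localization.AtPrime q))
    (hx : Ideal.span (Set.range x) = maximalIdeal Q)
    [CommRing R] [Algebra k R] [IsNoetherianRing R] (φR : R →ₐ[k] Λ) (π : Fin d → R)
    (ι : Q →+* Localization.AtPrime (q.comap φR.toRingHom))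
    (hιk : ∀ c : k, ι (algebraMap k Q c) = algebraMap R _ (algebraMap k R c))
    (hcomp : (locMap φR q).comp ι = jQ.toRingHom)
    (hassoc : ∀ i, Associated (algebraMap R (Localization.AtPrime (q.comap φR.toRingHom)) (π i)) (ι (x i)))
    (e : ℕ) (he : 0 < e)
    (φ : A →ₐ[k] Λ) (G : Set A) (hG : Algebra.adjoin k G = ⊤)
    (hGmem : ∀ z ∈ G, ∃ w, algebraMap Λ (Localization.AtPrime q) (φ z) - jQ w ∈
      (Ideal.span (Set.range fun i => x i ^ e)).map jQ.toRingHom)
    {s : ℕ} (a : Fin s → A) (m : ℕ) (l : Fin d → Fin s → Λ)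
    (hl : ∀ i, φR (π i) ^ m = ∑ j, φ (a j) * l i j)
    [CommRing C] [Algebra (MvPolynomial (Fin d) k) C]
    [Algebra.FinitePresentation (MvPolynomial (Fin d) k) C]
    (α : A →+* C) (hα : ∀ r : k, α (algebraMap k A r) =
          algebraMap (MvPolynomial (Fin d) k) C (MvPolynomial.C r))
    (Ψ : ∀ (T : Type u) [CommRing T] (φ : A →+* T) (π : Fin d → T) (l : Fin d → Fin s → T),
            (∀ i, π i ^ m = ∑ j, φ (a j) * l i j) → (C →+* T))
    (hΨ : ∀ (T : Type u) [CommRing T] (φ : A →+* T) (π : Fin d → T) (l : Fin d → Fin s → T)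
            (h : ∀ i, π i ^ m = ∑ j, φ (a j) * l i j), (Ψ T φ π l h).comp α = φ ∧
              ∀ i, Ψ T φ π l h (algebraMap (MvPolynomial (Fin d) k) C (MvPolynomial.X i)) = π i)
    (hΨnat : ∀ (T T' : Type u) [CommRing T] [CommRing T'] (u : T →+* T') (φ : A →+* T) (π : Fin d → T)
            (l : Fin d → Fin s → T) (h : ∀ i, π i ^ m = ∑ j, φ (a j) * l i j)
            (h' : ∀ i, u (π i) ^ m = ∑ j, u.comp φ (a j) * u (l i j)),
            Ψ T' (u.comp φ) (fun i => u (π i)) (fun i j => u (l i j)) h' = u.comp (Ψ T φ π l h))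
    [Algebra (MvPolynomial (Fin d) k) R] (hPR : ∀ p, algebraMap (MvPolynomial (Fin d) k) R p = MvPolynomial.aeval π p)
    [Algebra R Λ] (hRΛ : ∀ r, algebraMap R Λ r = φR r)
    (K : Ideal R) (hK : K = Ideal.span (Set.range fun i => π i ^ e))
    (φK : (R ⊗[MvPolynomial (Fin d) k] C ⧸ K.map (algebraMap R (R ⊗[MvPolynomial (Fin d) k] C))) →ₐ[R ⧸ K]
      (Λ ⧸ K.map (algebraMap R Λ)))
    (hφK : ∀ z : C, φK (Ideal.Quotient.mk _ (1 ⊗ₜ z)) =
      Ideal.Quotient.mk _ (Ψ Λ φ.toRingHom (fun i => φR (π i)) l hl z)) :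
    Smoothing.Resolvable (R ⧸ K) φK (q.map (Ideal.Quotient.mk (K.map (algebraMap R Λ)))) := by
  classical
  let L := Localization.AtPrime q
  let p : Ideal R := q.comap φR.toRingHom
  let Rp := Localization.AtPrime p
  let lR : Rp →+* L := locMap φR q
  let J : Ideal Λ := K.map (algebraMap R Λ)
  let Kp : Ideal Rp := K.map (algebraMap R Rp)
  let JL : Ideal L := J.map (algebraMap Λ L)
  let JQ : Ideal Q := Ideal.span (Set.range fun i => x i ^ e)
  have hlR : ∀ r, lR (algebraMap R Rp r) = algebraMap Λ L (algebraMap R Λ r) := fun r => by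
    rw [hRΛ]; exact Localization.localRingHom_to_map _ _ _ rfl r
  have hKJ : Kp.map lR = JL := by
    simp only [Kp, JL, J, Ideal.map_map]
    congr 1
    exact RingHom.ext hlR
  have hJQ : JQ.map ι = Kp := by
    simp only [JQ, Kp, hK, Ideal.map_span, ← Set.range_comp, Function.comp_def, map_pow]
    exact (span_pow_eq_of_associated _ _ hassoc e).symm
  have hjι : ∀ w, lR (ι w) = jQ w := fun w => RingHom.congr_fun hcomp w
  have hJQL : JQ.map jQ.toRingHom = JL := by
    rw [← hKJ, ← hJQ, Ideal.map_map]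
    congr 1
    exact hcomp.symm
  have hxL : ∀ i, jQ (x i) ∈ maximalIdeal L := fun i =>
    hjmax.le (Ideal.mem_map_of_mem _ (hx ▸ Ideal.subset_span ⟨i, rfl⟩))
  have hJLm : JL ≤ maximalIdeal L := by
    rw [← hJQL, Ideal.map_le_iff_le_comap, Ideal.span_le]
    rintro _ ⟨i, rfl⟩
    show jQ (x i ^ e) ∈ maximalIdeal L
    rw [map_pow]
    exact Ideal.pow_mem_of_mem _ (hxL i) e he
  have hJq : J ≤ q := fun z hz =>
    (IsLocalization.AtPrime.to_map_mem_maximal_iff L q z).1 (hJLm (Ideal.mem_map_of_mem _ hz))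
  let qb : Ideal (Λ ⧸ J) := q.map (Ideal.Quotient.mk J)
  have hqb : qb.comap (Ideal.Quotient.mk J) = q := by
    rw [Ideal.comap_map_of_surjective _ Ideal.Quotient.mk_surjective, ← RingHom.ker_eq_comap_bot,
      Ideal.mk_ker, sup_eq_left.2 hJq]
  haveI : qb.IsPrime :=
    Ideal.map_isPrime_of_surjective Ideal.Quotient.mk_surjective (by rw [Ideal.mk_ker]; exact hJq)
  let pb : Ideal (R ⧸ K) := qb.comap (algebraMap (R ⧸ K) (Λ ⧸ J))
  have hpb : pb.comap (Ideal.Quotient.mk K) = p := by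
    ext r
    show Ideal.Quotient.mk J (algebraMap R Λ r) ∈ qb ↔ φR r ∈ q
    rw [← Ideal.mem_comap, hqb, hRΛ]
  -- the localised quotient rings
  let R₁ := Rp ⧸ Kp
  let L₁ := L ⧸ JL
  letI : Algebra (Λ ⧸ J) L₁ := (Ideal.quotientMap JL (algebraMap Λ L) Ideal.le_comap_map).toAlgebra
  letI : Algebra (R ⧸ K) R₁ := (Ideal.quotientMap Kp (algebraMap R Rp) Ideal.le_comap_map).toAlgebra
  letI : Algebra R₁ L₁ := (Ideal.quotientMap JL lR (Ideal.map_le_iff_le_comap.1 hKJ.le)).toAlgebra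
  letI : Algebra (R ⧸ K) L₁ := ((algebraMap (Λ ⧸ J) L₁).comp (algebraMap (R ⧸ K) (Λ ⧸ J))).toAlgebra
  haveI : IsScalarTower (R ⧸ K) (Λ ⧸ J) L₁ := IsScalarTower.of_algebraMap_eq fun _ => rfl
  haveI : IsScalarTower (R ⧸ K) R₁ L₁ := IsScalarTower.of_algebraMap_eq fun r => by
    obtain ⟨r, rfl⟩ := Ideal.Quotient.mk_surjective r
    show Ideal.Quotient.mk JL (algebraMap Λ L (algebraMap R Λ r)) = Ideal.Quotient.mk JL (lR (algebraMap R Rp r))
    rw [hlR]
  haveI : IsLocalization.AtPrime L₁ qb := isLocalization_atPrime_quotient q J qb hqb JL rfl fun _ => rfl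
  haveI : IsLocalization.AtPrime R₁ pb := isLocalization_atPrime_quotient p K pb hpb Kp rfl fun _ => rfl
  have hdim : ringKrullDim L₁ = 0 := by
    haveI : Nontrivial L₁ := Ideal.Quotient.nontrivial_iff.2 fun h =>
      (maximalIdeal.isMaximal L).ne_top (top_le_iff.1 (h.ge.trans hJLm))
    refine ringKrullDimZero_iff_ringKrullDim_eq_zero.1 (Ring.krullDimLE_zero_iff.2 fun P hP => ?_)
    haveI := hP
    have hP' : P.comap (Ideal.Quotient.mk JL) = maximalIdeal L := by
      refine le_antisymm (IsLocalRing.le_maximalIdeal Ideal.IsPrime.ne_top') ?_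
      rw [← hjmax, Ideal.map_le_iff_le_comap, ← hx, Ideal.span_le]
      rintro _ ⟨i, rfl⟩
      refine hP.mem_of_pow_mem e (show Ideal.Quotient.mk JL (jQ (x i)) ^ e ∈ P from ?_)
      rw [← map_pow, ← map_pow, Ideal.Quotient.eq_zero_iff_mem.2
        (show jQ (x i ^ e) ∈ JL from hJQL.le (Ideal.mem_map_of_mem jQ.toRingHom (Ideal.subset_span ⟨i, rfl⟩)))]
      exact P.zero_mem
    haveI : (P.comap (Ideal.Quotient.mk JL)).IsMaximal := hP' ▸ maximalIdeal.isMaximal L
    rw [← Ideal.map_comap_of_surjective (Ideal.Quotient.mk JL) Ideal.Quotient.mk_surjective P]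
    exact Ideal.IsMaximal.map_of_surjective_of_ker_le Ideal.Quotient.mk_surjective (Ideal.ker_le_comap _)
  -- descend `φ` to `Q/JQ`
  letI : Algebra Q L := jQ.toRingHom.toAlgebra
  haveI : IsScalarTower k Q L := IsScalarTower.of_algebraMap_eq fun c => (jQ.commutes c).symm
  haveI : Module.Flat Q L := hjflat
  haveI : IsLocalHom (algebraMap Q L) := ((IsLocalRing.local_hom_TFAE _).out 0 2).2 hjmax.le
  haveI : Module.FaithfullyFlat Q L := Module.FaithfullyFlat.of_flat_of_isLocalHom (A := Q) (B := L)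
  obtain ⟨g₁, hg₁⟩ := exists_algHom_quotient JQ ((IsScalarTower.toAlgHom k Λ L).comp φ) G hG hGmem
  choose at' hat' using fun j => Ideal.Quotient.mk_surjective (g₁ (a j))
  have hag : ∀ j, algebraMap Λ L (φ (a j)) - jQ (at' j) ∈ JL := fun j => hJQL.le (hg₁ (a j) (at' j) (hat' j))
  choose v hv using fun i => (hassoc i).symm
  -- the linear equations
  have hsol := fun i => exists_solution (fun t => x t ^ e) at' (fun j => algebraMap Λ L (l i j))
    (lR (v i) ^ m) (((v i).isUnit.map lR).pow m) (x i ^ m) (by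
      show ∑ j, jQ (at' j) * algebraMap Λ L (l i j) - lR (v i) ^ m * jQ (x i ^ m) ∈ JQ.map jQ.toRingHom
      rw [hJQL]
      have h1 : algebraMap Λ L (algebraMap R Λ (π i)) = lR (v i) * jQ (x i) := by
        rw [← hlR, ← hv i, map_mul, hjι, mul_comm]
      have h2 : ∑ j, algebraMap Λ L (φ (a j)) * algebraMap Λ L (l i j) = lR (v i) ^ m * jQ (x i) ^ m := by
        rw [← mul_pow, ← h1, ← map_pow, hRΛ, hl, map_sum]
        simp only [map_mul]
      rw [map_pow, ← h2, ← Finset.sum_sub_distrib]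
      refine Submodule.sum_mem _ fun j _ => ?_
      rw [← sub_mul]
      exact Ideal.mul_mem_right _ _ (neg_sub (algebraMap Λ L (φ (a j))) (jQ (at' j)) ▸ JL.neg_mem (hag j)))
  choose z τ Am b hz hA hl' using hsol
  let B := MvPolynomial ((i : Fin d) × Fin (τ i)) R₁
  let mk₁ : Rp →+* R₁ := Ideal.Quotient.mk Kp
  let ιb : Q ⧸ JQ →+* R₁ := Ideal.quotientMap Kp ι (Ideal.map_le_iff_le_comap.1 hJQ.le)
  have hιb : ∀ w, ιb (Ideal.Quotient.mk JQ w) = mk₁ (ι w) := fun _ => rfl
  let φB : A →+* B := (MvPolynomial.C.comp ιb).comp g₁.toRingHom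
  let πB : Fin d → B := fun i => MvPolynomial.C (mk₁ (algebraMap R Rp (π i)))
  let zB : Fin d → Fin s → B := fun i j => MvPolynomial.C (mk₁ ((v i : Rp) ^ m * ι (z i j))) +
    ∑ t, MvPolynomial.C (mk₁ (ι (Am i t j))) * MvPolynomial.X ⟨i, t⟩
  have hzero : ∀ w ∈ JQ, mk₁ (ι w) = 0 := fun w hw =>
    Ideal.Quotient.eq_zero_iff_mem.2 (hJQ.le (Ideal.mem_map_of_mem ι hw))
  have hφB : ∀ j, φB (a j) = MvPolynomial.C (mk₁ (ι (at' j))) := fun j => by
    show MvPolynomial.C (ιb (g₁ (a j))) = _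
    rw [← hat', hιb]
  have hrelB : ∀ i, πB i ^ m = ∑ j, φB (a j) * zB i j := by
    intro i
    have e1 : mk₁ (ι (∑ j, at' j * z i j)) = mk₁ (ι (x i ^ m)) := by
      rw [← sub_eq_zero, ← map_sub, ← map_sub]
      exact hzero _ (hz i)
    have e2 : ∑ j, φB (a j) * MvPolynomial.C (mk₁ ((v i : Rp) ^ m * ι (z i j))) = πB i ^ m := by
      simp only [hφB, πB, ← map_mul, ← map_sum, ← map_pow]
      rw [Finset.sum_congr rfl fun j _ => show ι (at' j) * ((v i : Rp) ^ m * ι (z i j)) =
        (v i : Rp) ^ m * ι (at' j * z i j) by rw [map_mul]; ring, ← Finset.mul_sum, ← map_sum,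
        map_mul, e1, ← map_mul]
      congr 2
      rw [map_pow, map_pow, ← hv i, mul_pow, mul_comm]
    have e3 : ∑ j, φB (a j) * ∑ t, MvPolynomial.C (mk₁ (ι (Am i t j))) * MvPolynomial.X ⟨i, t⟩ = (0 : B) := by
      rw [Finset.sum_congr rfl fun j _ => Finset.mul_sum (Finset.univ : Finset (Fin (τ i))) _ (φB (a j)), Finset.sum_comm]
      refine Finset.sum_eq_zero fun t _ => ?_
      simp only [hφB, ← mul_assoc, ← map_mul]
      rw [← Finset.sum_mul, ← map_sum, ← map_sum, ← map_sum, hzero _ (hA i t), map_zero, zero_mul]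
    simp only [zB, mul_add, Finset.sum_add_distrib, e2, e3, add_zero]
  let γ₀ : C →+* B := Ψ B φB πB zB hrelB
  letI : Algebra (R ⧸ K) B := ((algebraMap R₁ B).comp (algebraMap (R ⧸ K) R₁)).toAlgebra
  letI : Algebra R B := ((algebraMap (R ⧸ K) B).comp (Ideal.Quotient.mk K)).toAlgebra
  letI : Algebra (MvPolynomial (Fin d) k) B :=
    ((algebraMap R B).comp (algebraMap (MvPolynomial (Fin d) k) R)).toAlgebra
  haveI : IsScalarTower (MvPolynomial (Fin d) k) R B := IsScalarTower.of_algebraMap_eq fun _ => rfl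
  have hRB : ∀ r, algebraMap R B r = MvPolynomial.C (mk₁ (algebraMap R Rp r)) := fun _ => rfl
  have hγP : γ₀.comp (algebraMap (MvPolynomial (Fin d) k) C) = algebraMap (MvPolynomial (Fin d) k) B := by
    refine MvPolynomial.ringHom_ext (fun c => ?_) fun i => ?_
    · rw [RingHom.comp_apply, ← hα, ← RingHom.comp_apply, (hΨ B φB πB zB hrelB).1]
      show MvPolynomial.C (ιb (g₁ (algebraMap k A c))) = algebraMap R B (algebraMap _ R (MvPolynomial.C c))
      rw [AlgHom.commutes, hRB, hPR, MvPolynomial.aeval_C, ← hιk]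
      rfl
    · rw [RingHom.comp_apply, (hΨ B φB πB zB hrelB).2]
      show _ = algebraMap R B (algebraMap _ R (MvPolynomial.X i))
      rw [hRB, hPR, MvPolynomial.aeval_X]
  let γC : C →ₐ[MvPolynomial (Fin d) k] B := { γ₀ with commutes' := RingHom.congr_fun hγP }
  let γR : R ⊗[MvPolynomial (Fin d) k] C →ₐ[R] B :=
    Algebra.TensorProduct.lift (Algebra.ofId R B) γC (fun _ _ => Commute.all _ _)
  let γ : (R ⊗[MvPolynomial (Fin d) k] C ⧸ K.map (algebraMap R (R ⊗[MvPolynomial (Fin d) k] C))) →+* B :=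
    Ideal.Quotient.lift _ γR.toRingHom fun w hw => by
      refine (Ideal.map_le_iff_le_comap.2 ?_ : _ ≤ RingHom.ker γR.toRingHom) hw
      intro r hr
      show γR (algebraMap R _ r) = 0
      rw [AlgHom.commutes, hRB, show mk₁ (algebraMap R Rp r) = 0 from
        Ideal.Quotient.eq_zero_iff_mem.2 (Ideal.mem_map_of_mem _ hr), map_zero]
  let h : B →ₐ[R₁] L₁ := MvPolynomial.aeval fun it => Ideal.Quotient.mk JL (b it.1 it.2)
  have hhC : ∀ w, h (MvPolynomial.C (mk₁ w)) = Ideal.Quotient.mk JL (lR w) := fun w =>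
    MvPolynomial.aeval_C (R := R₁) _ _
  let mkL : Λ →+* L₁ := (Ideal.Quotient.mk JL).comp (algebraMap Λ L)
  have hΨeq : ∀ (T : Type u) [CommRing T] (f f' : A →+* T) (p p' : Fin d → T) (y y' : Fin d → Fin s → T)
      (H : ∀ i, p i ^ m = ∑ j, f (a j) * y i j) (H' : ∀ i, p' i ^ m = ∑ j, f' (a j) * y' i j),
      f = f' → p = p' → y = y' → Ψ T f p y H = Ψ T f' p' y' H' := by
    intro T _ f f' p p' y y' H H' h₁ h₂ h₃
    subst h₁ h₂ h₃
    rfl
  have hkey : h.toRingHom.comp γ₀ = mkL.comp (Ψ Λ φ.toRingHom (fun i => φR (π i)) l hl) := by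
    have H1 : ∀ i, h.toRingHom (πB i) ^ m = ∑ j, h.toRingHom.comp φB (a j) * h.toRingHom (zB i j) := fun i => by
      rw [← map_pow, hrelB, map_sum]
      simp only [map_mul, RingHom.comp_apply]
    have H2 : ∀ i, mkL (φR (π i)) ^ m = ∑ j, mkL.comp φ.toRingHom (a j) * mkL (l i j) := fun i => by
      rw [← map_pow, hl, map_sum]
      simp only [map_mul, RingHom.comp_apply]
      rfl
    refine (hΨnat B L₁ h.toRingHom φB πB zB hrelB H1).symm.trans
      (Eq.trans ?_ (hΨnat Λ L₁ mkL φ.toRingHom (fun i => φR (π i)) l hl H2))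
    refine hΨeq _ _ _ _ _ _ _ _ _ (RingHom.ext fun y => ?_) (funext fun i => ?_) (funext fun i => funext fun j => ?_)
    · show h (MvPolynomial.C (ιb (g₁ y))) = Ideal.Quotient.mk JL (algebraMap Λ L (φ y))
      obtain ⟨w, hw⟩ := Ideal.Quotient.mk_surjective (g₁ y)
      rw [← hw, hιb, hhC, hjι, Ideal.Quotient.eq]
      exact neg_sub (algebraMap Λ L (φ y)) (jQ w) ▸ JL.neg_mem (hJQL.le (hg₁ y w hw))
    · show h (MvPolynomial.C (mk₁ (algebraMap R Rp (π i)))) = Ideal.Quotient.mk JL (algebraMap Λ L (φR (π i)))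
      rw [hhC, hlR, hRΛ]
    · show h (zB i j) = Ideal.Quotient.mk JL (algebraMap Λ L (l i j))
      rw [hl' i j, map_add, map_sum]
      simp only [zB, map_add, map_sum, hhC, map_mul, hjι, map_pow]
      congr 1
      · refine Finset.sum_congr rfl fun t _ => ?_
        rw [show h (MvPolynomial.X ⟨i, t⟩) = Ideal.Quotient.mk JL (b i t) from MvPolynomial.aeval_X (R := R₁) _ _,
          mul_comm]
        exact congrArg₂ (· * ·) rfl rfl
  haveI : Algebra.FinitePresentation R (R ⊗[MvPolynomial (Fin d) k] C) := inferInstance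
  haveI : Algebra.FiniteType R (R ⊗[MvPolynomial (Fin d) k] C ⧸ K.map (algebraMap R (R ⊗[MvPolynomial (Fin d) k] C))) :=
    Algebra.FiniteType.of_surjective (Ideal.Quotient.mkₐ R _) Ideal.Quotient.mk_surjective
  haveI : Algebra.FiniteType (R ⧸ K) (R ⊗[MvPolynomial (Fin d) k] C ⧸ K.map (algebraMap R (R ⊗[MvPolynomial (Fin d) k] C))) :=
    Algebra.FiniteType.of_restrictScalars_finiteType R (R ⧸ K) _
  haveI : Algebra.FinitePresentation (R ⧸ K) (R ⊗[MvPolynomial (Fin d) k] C ⧸ K.map (algebraMap R (R ⊗[MvPolynomial (Fin d) k] C))) :=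
    Algebra.FinitePresentation.of_finiteType.1 inferInstance
  refine resolvable_of_local_factor φK qb (Rₚ := R₁) (L := L₁) hdim (B := B) ⟨inferInstance, inferInstance⟩
    γ (fun r => ?_) h fun w => ?_
  · obtain ⟨r, rfl⟩ := Ideal.Quotient.mk_surjective r
    show γR (algebraMap R _ r) = _
    rw [AlgHom.commutes]
    rfl
  · obtain ⟨w, rfl⟩ := Ideal.Quotient.mk_surjective w
    show h (γR w) = algebraMap (Λ ⧸ J) L₁ (φK (Ideal.Quotient.mk _ w))
    induction w using TensorProduct.induction_on with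
    | zero => simp
    | add u w hu hw => simp only [map_add, hu, hw]
    | tmul r c =>
      rw [show r ⊗ₜ[MvPolynomial (Fin d) k] c = algebraMap R _ r * (1 ⊗ₜ c) by
        rw [Algebra.TensorProduct.algebraMap_apply, Algebra.algebraMap_self_apply,
          Algebra.TensorProduct.tmul_mul_tmul, mul_one, one_mul]]
      simp only [map_mul]
      refine congrArg₂ (· * ·) ?_ ?_
      · rw [AlgHom.commutes, hRB, hhC, hlR]
        show _ = algebraMap (Λ ⧸ J) L₁ (φK (algebraMap (R ⧸ K) _ (Ideal.Quotient.mk K r)))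
        rw [AlgHom.commutes]
        rfl
      · rw [show γR (1 ⊗ₜ c) = γ₀ c by
          rw [Algebra.TensorProduct.lift_tmul, map_one, one_mul]; rfl, hφK]
        exact RingHom.congr_fun hkey c

end Groth.Agent.CAlg1.Pop
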