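import Mathlib
import Groth.Agent.CAlg1.Pop.AlgebraizationFunctor

/-!
Algebraization of versal elements.
-/

set_option autoImplicit false
universe u

open IsLocalRing CategoryTheory CategoryTheory.Limits

namespace Groth.Agent.CAlg1.Pop

/-- A surjection of complete local rings with isomorphic graded rings is injective. -/
theorem injective_of_gr_equiv {R A : Type u} [CommRing R] [IsLocalRing R] [IsNoetherianRing R]
    [CommRing A] [IsNoetherianRing A] (m : Ideal A) (α : R →+* AdicCompletion m A)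
    (hα : (maximalIdeal R).map α = m.map (algebraMap A (AdicCompletion m A))) (hsurj : Function.Surjective α)
    (e : AssocGr.GrRing (FiltBl.IdealFiltration.adic (maximalIdeal R)) ≃+*
      AssocGr.GrRing (FiltBl.IdealFiltration.adic m)) :
    Function.Injective α := by
  let mh := m.map (algebraMap A (AdicCompletion m A))
  have hfg : m.FG := IsNoetherian.noetherian m
  let a := grMap (maximalIdeal R) mh α hα.le
  have ha : Function.Surjective a := grMap_surjective _ _ _ _ fun n y hy => by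
    rw [show mh = (maximalIdeal R).map α from hα.symm, ← Ideal.map_pow, Ideal.mem_map_iff_of_surjective α hsurj] at hy
    obtain ⟨x, hx, rfl⟩ := hy
    exact ⟨x, hx, by rw [sub_self]; exact Submodule.zero_mem _⟩
  let γ := RingEquiv.ofBijective (grMap m mh (algebraMap A (AdicCompletion m A)) le_rfl)
    (grMap_bijective m mh _ le_rfl (CAlg5.mem_pow_of_algebraMap_mem m hfg) (CAlg5.exists_sub_mem_pow m hfg))
  let ψ := (e.symm.toRingHom.comp γ.symm.toRingHom).comp a
  have hψ : Function.Injective ψ := injective_of_surjective_ringEnd ψ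
    ((e.symm.surjective.comp γ.symm.surjective).comp ha)
  have hinj : Function.Injective a := fun x y hxy => hψ (congrArg (fun z => e.symm (γ.symm z)) hxy)
  refine (injective_iff_map_eq_zero α).2 fun x hx => ?_
  have hall : ∀ n, x ∈ maximalIdeal R ^ n := by
    intro n
    induction n with
    | zero => rw [pow_zero, Ideal.one_eq_top]; exact Submodule.mem_top
    | succ n ih =>
      let g : (FiltBl.IdealFiltration.adic (maximalIdeal R)).rees :=
        (AssocGr.monom (FiltBl.IdealFiltration.adic (maximalIdeal R)) n ⟨x, ih⟩ : _)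
      have h0 : a (AssocGr.mkG _ g) = 0 := by
        show grMap (maximalIdeal R) mh α hα.le (AssocGr.mkG _ g) = 0
        rw [grMap_mkG_eq_zero_iff]
        intro i
        rw [AssocGr.coe_coe_monom, Polynomial.coeff_monomial]
        split_ifs with hi
        · rw [hx]; exact Submodule.zero_mem _
        · rw [map_zero]; exact Submodule.zero_mem _
      have h1 := hinj (h0.trans (map_zero a).symm)
      rw [AssocGr.mkG_eq_zero_iff, AssocGr.mem_succIdeal_iff] at h1
      have h2 := h1 n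
      rw [AssocGr.coe_coe_monom, Polynomial.coeff_monomial, if_pos rfl] at h2
      exact h2
  have hbot := Ideal.iInf_pow_eq_bot_of_isLocalRing (maximalIdeal R) (maximalIdeal.isMaximal R).ne_top
  exact (Submodule.mem_bot R).1 (hbot ▸ Submodule.mem_iInf _ |>.2 hall)

variable {k : Type u} [Field k] (F : CommAlgCat.{u} k ⥤ Type u)
  (hF : ∀ (J : Type u) [SmallCategory J] [IsFiltered J], PreservesColimitsOfShape J F)
  (R : Type u) [CommRing R] [Algebra k R] [IsLocalRing R] [IsNoetherianRing R]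
  [IsAdicComplete (maximalIdeal R) R]
  (hres : Function.Surjective (fun c : k => residue R (algebraMap k R c)))

theorem residue_surjective_quotient_pow {A : Type u} [CommRing A] [Algebra k A] (m : Ideal A) [m.IsMaximal]
    (hm : Function.Surjective (fun c : k => Ideal.Quotient.mk m (algebraMap k A c))) (n : ℕ)
    [IsLocalRing (A ⧸ m ^ (n + 1))] :
    Function.Surjective (fun c : k => residue (A ⧸ m ^ (n + 1)) (algebraMap k (A ⧸ m ^ (n + 1)) c)) := by
  intro y
  obtain ⟨y, rfl⟩ := residue_surjective y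
  obtain ⟨a, rfl⟩ := Ideal.Quotient.mk_surjective y
  obtain ⟨c, hc⟩ := hm (Ideal.Quotient.mk m a)
  refine ⟨c, Ideal.Quotient.eq.2 ?_⟩
  have h1 : algebraMap k A c - a ∈ m := Ideal.Quotient.eq.1 hc
  show Ideal.Quotient.mk (m ^ (n + 1)) (algebraMap k A c) - Ideal.Quotient.mk _ a ∈ maximalIdeal _
  rw [← map_sub, IsLocalRing.mem_maximalIdeal, mem_nonunits_iff]
  intro hu
  obtain ⟨w, hw⟩ := hu.exists_right_inv
  obtain ⟨w, rfl⟩ := Ideal.Quotient.mk_surjective w
  rw [← map_mul, ← map_one (Ideal.Quotient.mk (m ^ (n + 1))), Ideal.Quotient.eq] at hw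
  have h2 := sub_mem (Ideal.mul_mem_right w m h1) (Ideal.pow_le_self (Nat.succ_ne_zero n) hw)
  rw [sub_sub_cancel] at h2
  exact ‹m.IsMaximal›.ne_top ((Ideal.eq_top_iff_one _).2 h2)

theorem factor_factor {A : Type u} [CommRing A] {I J K : Ideal A} (h₁ : I ≤ J) (h₂ : J ≤ K) (h : I ≤ K)
    (x : A ⧸ I) : Ideal.Quotient.factor h₂ (Ideal.Quotient.factor h₁ x) = Ideal.Quotient.factor h x := by
  obtain ⟨y, rfl⟩ := Ideal.Quotient.mk_surjective x
  rw [Ideal.Quotient.factor_mk, Ideal.Quotient.factor_mk, Ideal.Quotient.factor_mk]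

theorem factorₐ_apply {A : Type u} [CommRing A] [Algebra k A] {I J : Ideal A} (h : I ≤ J) (x : A ⧸ I) :
    Ideal.Quotient.factorₐ k h x = Ideal.Quotient.factor h x := by
  obtain ⟨y, rfl⟩ := Ideal.Quotient.mk_surjective x
  rw [Ideal.Quotient.factor_mk]
  rfl

/-- Compatible lifts of a map to the truncations. -/
theorem exists_lifts {A : Type u} [CommRing A] [Algebra k A] [Algebra.FiniteType k A] (m : Ideal A) [m.IsMaximal]
    (hm : Function.Surjective (fun c : k => Ideal.Quotient.mk m (algebraMap k A c)))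
    (ξ : F.obj (CommAlgCat.of k R)) (η : F.obj (CommAlgCat.of k A))
    (hvers : ∀ (B B₀ : Type u) [CommRing B] [Algebra k B] [IsLocalRing B] [IsArtinianRing B]
        [CommRing B₀] [Algebra k B₀] [IsLocalRing B₀] [IsArtinianRing B₀],
        Function.Surjective (fun c : k => residue B (algebraMap k B c)) →
        ∀ (π : B →ₐ[k] B₀), Function.Surjective π →
          ∀ (g₀ : R →ₐ[k] B₀) (y : F.obj (CommAlgCat.of k B)),
            F.map (CommAlgCat.ofHom π) y = F.map (CommAlgCat.ofHom g₀) ξ →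
              ∃ g : R →ₐ[k] B, π.comp g = g₀ ∧ F.map (CommAlgCat.ofHom g) ξ = y)
    (g₀ : R →ₐ[k] A ⧸ m ^ (0 + 1 + 1))
    (hg₀ : F.map (CommAlgCat.ofHom g₀) ξ = F.map (CommAlgCat.ofHom (Ideal.Quotient.mkₐ k (m ^ (0 + 1 + 1)))) η) :
    ∃ G : (n : ℕ) → R →ₐ[k] A ⧸ m ^ (n + 1 + 1), G 0 = g₀ ∧
      (∀ n, (Ideal.Quotient.factorₐ k (Ideal.pow_le_pow_right (Nat.le_succ (n + 1 + 1)))).comp (G (n + 1)) = G n) ∧
      ∀ n, F.map (CommAlgCat.ofHom (G n)) ξ = F.map (CommAlgCat.ofHom (Ideal.Quotient.mkₐ k (m ^ (n + 1 + 1)))) η := by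
  haveI : ∀ j, IsLocalRing (A ⧸ m ^ (j + 1)) := isLocalRing_quotient_pow m
  haveI : ∀ j, Module.Finite k (A ⧸ m ^ j) := finite_quotient_pow m
  haveI : ∀ j, IsArtinianRing (A ⧸ m ^ j) := fun j => IsArtinianRing.of_finite k _
  have hstep : ∀ (n : ℕ) (g : R →ₐ[k] A ⧸ m ^ (n + 1 + 1)),
      F.map (CommAlgCat.ofHom g) ξ = F.map (CommAlgCat.ofHom (Ideal.Quotient.mkₐ k (m ^ (n + 1 + 1)))) η →
      ∃ g' : R →ₐ[k] A ⧸ m ^ (n + 1 + 1 + 1),
        (Ideal.Quotient.factorₐ k (Ideal.pow_le_pow_right (Nat.le_succ (n + 1 + 1)))).comp g' = g ∧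
        F.map (CommAlgCat.ofHom g') ξ = F.map (CommAlgCat.ofHom (Ideal.Quotient.mkₐ k (m ^ (n + 1 + 1 + 1)))) η := by
    intro n g hg
    refine hvers (A ⧸ m ^ (n + 1 + 1 + 1)) (A ⧸ m ^ (n + 1 + 1)) (residue_surjective_quotient_pow m hm (n + 1 + 1))
      (Ideal.Quotient.factorₐ k (Ideal.pow_le_pow_right (Nat.le_succ (n + 1 + 1))))
      (Ideal.Quotient.factor_surjective (Ideal.pow_le_pow_right (Nat.le_succ (n + 1 + 1)))) g _ ?_
    rw [map_ofHom_comp]
    exact hg.symm
  choose st hst₁ hst₂ using hstep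
  let G : (n : ℕ) → {g : R →ₐ[k] A ⧸ m ^ (n + 1 + 1) //
      F.map (CommAlgCat.ofHom g) ξ = F.map (CommAlgCat.ofHom (Ideal.Quotient.mkₐ k (m ^ (n + 1 + 1)))) η} :=
    fun n => Nat.rec ⟨g₀, hg₀⟩ (fun n g => ⟨st n g.1 g.2, hst₂ n g.1 g.2⟩) n
  exact ⟨fun n => (G n).1, rfl, fun n => hst₁ n (G n).1 (G n).2, fun n => (G n).2⟩

include hF hres in
theorem exists_algebraization_versal (ξ : F.obj (CommAlgCat.of k R))
    (hvers : ∀ (B B₀ : Type u) [CommRing B] [Algebra k B] [IsLocalRing B] [IsArtinianRing B]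
        [CommRing B₀] [Algebra k B₀] [IsLocalRing B₀] [IsArtinianRing B₀],
        Function.Surjective (fun c : k => residue B (algebraMap k B c)) →
        ∀ (π : B →ₐ[k] B₀), Function.Surjective π →
          ∀ (g₀ : R →ₐ[k] B₀) (y : F.obj (CommAlgCat.of k B)),
            F.map (CommAlgCat.ofHom π) y = F.map (CommAlgCat.ofHom g₀) ξ →
              ∃ g : R →ₐ[k] B, π.comp g = g₀ ∧ F.map (CommAlgCat.ofHom g) ξ = y) :
    ∃ (A : Type u) (_ : CommRing A) (_ : Algebra k A) (_ : Algebra.FiniteType k A)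
      (m : Ideal A) (_ : m.IsMaximal)
      (_ : Function.Surjective (fun c : k => Ideal.Quotient.mk m (algebraMap k A c)))
      (η : F.obj (CommAlgCat.of k A))
      (α : R ≃+* AdicCompletion m A),
      (∀ c : k, α (algebraMap k R c) = algebraMap A (AdicCompletion m A) (algebraMap k A c)) ∧
      ∀ (n : ℕ) (ψ : R →ₐ[k] A ⧸ m ^ (n + 1)),
        ψ.toRingHom = (AdicCompletion.evalₐ m (n + 1) :
            AdicCompletion m A →ₐ[A] A ⧸ m ^ (n + 1)).toRingHom.comp α.toRingHom →
          F.map (CommAlgCat.ofHom ψ) ξ = F.map (CommAlgCat.ofHom (Ideal.Quotient.mkₐ k (m ^ (n + 1)))) η := by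
  obtain ⟨A, _, _, hA, m, hm, hmres, η, φ, hφ, e, -, -⟩ := exists_algebraization_functor F hF R hres ξ (0 + 1)
  haveI := hm
  haveI : IsNoetherianRing A := Algebra.FiniteType.isNoetherianRing k A
  obtain ⟨G, hG₀, hGs, hGη⟩ := exists_lifts F R m hmres ξ η hvers
    (φ.toAlgHom.comp (Ideal.Quotient.mkₐ k (maximalIdeal R ^ (0 + 1 + 1)))) hφ
  have hfg : m.FG := IsNoetherian.noetherian m
  let fam : (j : ℕ) → R →+* A ⧸ m ^ j := fun j =>
    (Ideal.Quotient.factor (Ideal.pow_le_pow_right ((Nat.le_succ j).trans (Nat.le_succ (j + 1))))).comp (G j).toRingHom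
  have hGle : ∀ {a b : ℕ} (hab : a ≤ b) (x : R),
      Ideal.Quotient.factor (Ideal.pow_le_pow_right (Nat.add_le_add_right (Nat.add_le_add_right hab 1) 1)) (G b x) = G a x := by
    intro a b hab x
    induction hab with
    | refl =>
      obtain ⟨y, hy⟩ := Ideal.Quotient.mk_surjective (G a x)
      rw [← hy, Ideal.Quotient.factor_mk]
    | step hab ih =>
      rename_i b
      rw [← ih, ← DFunLike.congr_fun (hGs b) x, AlgHom.comp_apply, factorₐ_apply]
      exact (factor_factor _ _ _ _).symm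
  have hfam : ∀ {a b : ℕ} (hle : a ≤ b), (Ideal.Quotient.factorPow m hle).comp (fam b) = fam a := by
    intro a b hle
    refine RingHom.ext fun x => ?_
    simp only [fam, RingHom.comp_apply, AlgHom.toRingHom_eq_coe, RingHom.coe_coe]
    rw [← hGle hle x, Ideal.Quotient.factorPow, factor_factor _ _ (Ideal.pow_le_pow_right (hle.trans ((Nat.le_succ b).trans (Nat.le_succ (b + 1))))),
      factor_factor _ _ (Ideal.pow_le_pow_right (hle.trans ((Nat.le_succ b).trans (Nat.le_succ (b + 1)))))]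
  let α₀ : R →+* AdicCompletion m A := AdicCompletion.liftRingHom m fam hfam
  have hev : ∀ j x, AdicCompletion.evalₐ m j (α₀ x) = fam j x := fun j x =>
    AdicCompletion.evalₐ_liftRingHom m fam hfam j x
  let mh := m.map (algebraMap A (AdicCompletion m A))
  haveI : IsAdicComplete mh (AdicCompletion m A) :=
    (IsAdicComplete.map_algebraMap_iff _ _).mpr (AdicCompletion.isAdicComplete hfg)
  haveI : IsNoetherianRing (AdicCompletion m A) := CAlg1.isNoetherianRing_adicCompletion m hfg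
  have hfam2 : ∀ x, fam (0 + 1 + 1) x = φ (Ideal.Quotient.mk _ x) := fun x => by
    have h1 := hGle (Nat.zero_le (0 + 1 + 1)) x
    rw [show G 0 x = φ (Ideal.Quotient.mk _ x) from DFunLike.congr_fun hG₀ x] at h1
    exact h1
  have hle : (maximalIdeal R).map α₀ ≤ mh := by
    rw [Ideal.map_le_iff_le_comap]
    intro x hx
    rw [Ideal.mem_comap, ← pow_one mh, ← CAlg5.evalₐ_eq_zero_iff m hfg, hev, ← hfam (Nat.le_add_left 1 (0 + 1)),
      RingHom.comp_apply, hfam2]
    obtain ⟨y, hy⟩ := Ideal.Quotient.mk_surjective (φ (Ideal.Quotient.mk _ x))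
    have h2 : Ideal.Quotient.mk (m ^ (0 + 1 + 1)) (y ^ (0 + 1 + 1)) = 0 := by
      rw [map_pow, hy, ← map_pow, ← map_pow, Ideal.Quotient.eq_zero_iff_mem.2 (Ideal.pow_mem_pow hx (0 + 1 + 1)), map_zero]
    rw [← hy, Ideal.Quotient.factorPow, Ideal.Quotient.factor_mk, Ideal.Quotient.eq_zero_iff_mem, pow_one]
    exact hm.isPrime.mem_of_pow_mem (0 + 1 + 1) (Ideal.pow_le_self (Nat.succ_ne_zero (0 + 1)) (Ideal.Quotient.eq_zero_iff_mem.1 h2))
  have hge : mh ≤ (maximalIdeal R).map α₀ ⊔ mh • mh := by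
    rw [Ideal.map_le_iff_le_comap]
    intro a ha
    obtain ⟨x, hx⟩ := φ.surjective (Ideal.Quotient.mk (m ^ (0 + 1 + 1)) a)
    obtain ⟨x, rfl⟩ := Ideal.Quotient.mk_surjective x
    have hxm : x ∈ maximalIdeal R := by
      rw [IsLocalRing.mem_maximalIdeal, mem_nonunits_iff]
      intro hu
      have h1 : IsUnit (Ideal.Quotient.mk (m ^ (0 + 1 + 1)) a) := hx ▸ (hu.map (Ideal.Quotient.mk _)).map φ
      have h2 : IsUnit (Ideal.Quotient.mk m a) := h1.map (Ideal.Quotient.factor (Ideal.pow_le_self (Nat.succ_ne_zero (0 + 1))))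
      rw [Ideal.Quotient.eq_zero_iff_mem.2 ha] at h2
      haveI := Ideal.Quotient.nontrivial_iff.2 hm.ne_top
      exact not_isUnit_zero h2
    have h3 : algebraMap A (AdicCompletion m A) a - α₀ x ∈ mh ^ (0 + 1 + 1) := by
      rw [← CAlg5.evalₐ_eq_zero_iff m hfg, map_sub, AlgHom.commutes, hev, hfam2, hx, Ideal.Quotient.algebraMap_eq,
        sub_self]
    rw [Ideal.mem_comap, ← sub_add_cancel (algebraMap A (AdicCompletion m A) a) (α₀ x)]
    refine add_mem (Submodule.mem_sup_right ?_) (Submodule.mem_sup_left (Ideal.mem_map_of_mem _ hxm))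
    rwa [smul_eq_mul, ← pow_two, show (2 : ℕ) = 0 + 1 + 1 from rfl]
  have hmap : (maximalIdeal R).map α₀ = mh :=
    le_antisymm hle (Submodule.le_of_le_smul_of_le_jacobson_bot (IsNoetherian.noetherian _)
      (IsAdicComplete.le_jacobson_bot mh) hge)
  have hsurj : Function.Surjective α₀ := by
    haveI : IsHausdorff ((maximalIdeal R).map α₀) (AdicCompletion m A) := by rw [hmap]; infer_instance
    refine surjective_of_mk_map_comp_surjective α₀ (I := maximalIdeal R) fun y => ?_
    obtain ⟨y, rfl⟩ := Ideal.Quotient.mk_surjective y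
    obtain ⟨a, ha⟩ := CAlg5.exists_sub_mem_pow m hfg 1 y
    obtain ⟨c, hc⟩ := hmres (Ideal.Quotient.mk m a)
    have hc' : algebraMap k A c - a ∈ m := Ideal.Quotient.eq.1 hc
    refine ⟨algebraMap k R c, ?_⟩
    rw [RingHom.comp_apply, Ideal.Quotient.eq, hmap, ← pow_one mh, ← CAlg5.evalₐ_eq_zero_iff m hfg]
    have h4 := (CAlg5.evalₐ_eq_zero_iff m hfg 1 _).2 ha
    rw [map_sub, AlgHom.commutes, sub_eq_zero] at h4
    rw [map_sub, hev, h4]
    simp only [fam, RingHom.comp_apply, AlgHom.toRingHom_eq_coe, RingHom.coe_coe, AlgHom.commutes,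
      Ideal.Quotient.algebraMap_eq]
    rw [← Ideal.Quotient.mk_algebraMap, Ideal.Quotient.factor_mk]
    rw [← map_sub, Ideal.Quotient.eq_zero_iff_mem, pow_one]
    exact hc'
  let α := RingEquiv.ofBijective α₀ ⟨injective_of_gr_equiv m α₀ hmap hsurj e, hsurj⟩
  refine ⟨A, inferInstance, inferInstance, hA, m, hm, hmres, η, α, fun c => AdicCompletion.ext_evalₐ fun j => ?_,
    fun n ψ hψ => ?_⟩
  · show AdicCompletion.evalₐ m j (α₀ (algebraMap k R c)) = _
    rw [hev, AlgHom.commutes]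
    simp only [fam, RingHom.comp_apply, AlgHom.toRingHom_eq_coe, RingHom.coe_coe, AlgHom.commutes,
      Ideal.Quotient.algebraMap_eq]
    rw [← Ideal.Quotient.mk_algebraMap, Ideal.Quotient.factor_mk]
  · have hψ' : ψ = (Ideal.Quotient.factorₐ k (Ideal.pow_le_pow_right ((Nat.le_succ (n + 1)).trans (Nat.le_succ (n + 1 + 1))))).comp (G (n + 1)) :=
      AlgHom.ext fun x => by
        rw [AlgHom.comp_apply, factorₐ_apply]
        exact (RingHom.congr_fun hψ x).trans (hev (n + 1) x)
    rw [hψ', ← map_ofHom_comp, hGη, map_ofHom_comp]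
    refine congrArg (fun f => F.map (CommAlgCat.ofHom f) η) (AlgHom.ext fun y => ?_)
    rw [AlgHom.comp_apply, factorₐ_apply, Ideal.Quotient.mkₐ_eq_mk, Ideal.Quotient.mkₐ_eq_mk, Ideal.Quotient.factor_mk]

end Groth.Agent.CAlg1.Pop
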